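import Mathlib.NumberTheory.Padics.PadicVal.Basic
import Mathlib.Data.Nat.Factorization.Basic
import Mathlib.Algebra.Order.Ring.Abs
import Mathlib.RingTheory.Coprime.Lemmas
import Mathlib.RingTheory.Int.Basic
import Mathlib.Tactic.LinearCombination
import Mathlib.Tactic.NormNum.Prime

/-!
The arithmetic of the order formula.
-/

set_option autoImplicit false

namespace Cfsg.Agent.SDPack

/-- The valuation of an integer. -/
def iv (r : ℕ) (a : ℤ) : ℕ := a.natAbs.factorization r

theorem iv_mul {r : ℕ} {a b : ℤ} (ha : a ≠ 0) (hb : b ≠ 0) : iv r (a * b) = iv r a + iv r b := by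
  rw [iv, Int.natAbs_mul, Nat.factorization_mul (Int.natAbs_ne_zero.2 ha) (Int.natAbs_ne_zero.2 hb)]
  rfl

theorem iv_sq {r : ℕ} {a : ℤ} (ha : a ≠ 0) : iv r (a ^ 2) = 2 * iv r a := by
  rw [pow_two, iv_mul ha ha, two_mul]

theorem iv_nat {r n : ℕ} : iv r (n : ℤ) = n.factorization r := by rw [iv, Int.natAbs_natCast]

theorem iv_dvd {r : ℕ} (hr : r.Prime) {a : ℤ} (ha : a ≠ 0) (k : ℕ) :
    (r : ℤ) ^ k ∣ a ↔ k ≤ iv r a := by
  rw [iv, ← hr.pow_dvd_iff_le_factorization (Int.natAbs_ne_zero.2 ha), ← Int.natAbs_dvd_natAbs]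
  simp [Int.natAbs_pow]

theorem iv_one_le {r : ℕ} (hr : r.Prime) {a : ℤ} (ha : a ≠ 0) : 1 ≤ iv r a ↔ (r : ℤ) ∣ a := by
  rw [← iv_dvd hr ha 1, pow_one]

theorem iv_zero {r : ℕ} (hr : r.Prime) {a : ℤ} (ha : a ≠ 0) (h : ¬ (r : ℤ) ∣ a) : iv r a = 0 := by
  have := iv_one_le hr ha (r := r)
  by_contra hne
  exact h (this.1 (Nat.one_le_iff_ne_zero.2 hne))

/-- The final bound. -/
theorem arith_bound {p : ℕ} {q h' : ℤ} (hp : p.Prime) (hq : q.natAbs = p) (hq4 : q % 4 = 3)
    (hdm : h' ∣ q - 1) (hA : 2 * (q + 1) ∣ h' + q - 1) (hA0 : h' + q - 1 ≠ 0) :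
    p = 5 ∧ q = -5 ∧ h' = -2 := by
  have hp2 := hp.two_le
  have hle : h'.natAbs ≤ (q - 1).natAbs :=
    Nat.le_of_dvd (by omega) (Int.natAbs_dvd_natAbs.2 hdm)
  have hge : (2 * (q + 1)).natAbs ≤ (h' + q - 1).natAbs :=
    Nat.le_of_dvd (by omega) (Int.natAbs_dvd_natAbs.2 hA)
  have hqneg : q = -(p : ℤ) := by omega
  subst hqneg
  have hp5 : 5 ≤ p := by
    by_contra hlt
    interval_cases p <;> norm_num at *
  obtain ⟨j, hj⟩ := hA
  have hj1 : j = 1 := by
    by_contra hne
    rcases lt_or_gt_of_ne hne with hlt | hgt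
    · have hle0 : j ≤ 0 := by omega
      have h0 : 0 ≤ 2 * (-(p : ℤ) + 1) * j := mul_nonneg_of_nonpos_of_nonpos (by omega) hle0
      omega
    · have h0 : 2 * (-(p : ℤ) + 1) * j ≤ 2 * (-(p : ℤ) + 1) * 2 :=
        mul_le_mul_of_nonpos_left (by omega) (by omega)
      omega
  subst hj1
  have hh' : h' = 3 - (p : ℤ) := by linarith
  have h1 : h' ∣ 4 := by
    have h2 := dvd_add hdm (dvd_refl h')
    rw [show -(p : ℤ) - 1 + h' = -(2 * ((p : ℤ) - 1)) by rw [hh']; ring, dvd_neg] at h2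
    have h3 := dvd_add h2 ((dvd_refl h').mul_left 2)
    rwa [show 2 * ((p : ℤ) - 1) + 2 * h' = 4 by rw [hh']; ring] at h3
  have h2 := Int.le_of_dvd (by norm_num) ((neg_dvd).2 h1)
  rw [hh'] at h2
  have hp7 : p ≤ 7 := by omega
  obtain rfl : p = 5 := by
    interval_cases p
    · rfl
    · norm_num at hp
    · omega
  exact ⟨rfl, rfl, by rw [hh']; rfl⟩

set_option maxHeartbeats 1000000 in
/-- The conclusion of the arithmetic. -/
theorem arith {N o m p cp cm k : ℕ} {q x g : ℤ} (hN : 0 < N) (ho : Odd o) (hm : m ∣ o)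
    (hp : p.Prime) (hp2 : p ≠ 2) (hq : q.natAbs = p) (hq4 : q % 4 = 3) (hcp : cp = (q + 1).natAbs)
    (hcm : cm = (q - 1).natAbs) (hk : 2 ≤ k) (hcpk : ∃ t, Odd t ∧ cp = 2 ^ k * t)
    (hcm2 : ∃ t, Odd t ∧ cm = 2 * t) (hx : x ≠ 0) (hx1 : x + 1 ≠ 0) (hg : g = 1 + x - q ^ 2)
    (hg0 : g ≠ 0) (hgd : g ∣ q ^ 2 * (q ^ 2 - 1))
    (hN2 : N.factorization 2 = (o * (2 * p * (cp * cm))).factorization 2)
    (hNp : N.factorization p = (o * (2 * p * (cp * cm))).factorization p)
    (hNr : ∀ r, r.Prime → r ≠ 2 → r ∣ cp → N.factorization r = (o * (2 * p * (cp * cm))).factorization r)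
    (hNo : ∀ r, r.Prime → r ∣ o → N.factorization r = (o * (2 * p * (cp * cm))).factorization r)
    (hform : (N : ℤ) * q * (x - q + 1) ^ 2 =
      ((o * (2 * p * (cp * cm)) : ℕ) : ℤ) * ((m : ℤ) * p * cp) ^ 2 * (q - 1) * (x * (x + 1))) :
    p = 5 ∧ q = -5 ∧ m = 1 ∧ N = 85680 * o := by
  have hp1 := hp.two_le
  have hpne : (p : ℤ) ≠ 0 := by omega
  have hq0 : q ≠ 0 := by omega
  have hqm : q - 1 ≠ 0 := by omega
  have hqp1 : q + 1 ≠ 0 := by omega
  have hq21 : q ^ 2 - 1 ≠ 0 := by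
    rw [show q ^ 2 - 1 = (q - 1) * (q + 1) by ring]; exact mul_ne_zero hqm hqp1
  have ho0 : o ≠ 0 := fun e => by subst e; simp at ho
  have hm0 : m ≠ 0 := fun e => by subst e; exact ho0 (zero_dvd_iff.1 hm)
  have hmodd : Odd m := Odd.of_dvd_nat ho hm
  have hcp0 : cp ≠ 0 := by omega
  have hcm0 : cm ≠ 0 := by omega
  set c : ℕ := o * (2 * p * (cp * cm)) with hc
  have hc0 : (c : ℤ) ≠ 0 := by
    rw [hc]; exact_mod_cast mul_ne_zero ho0 (mul_ne_zero (mul_ne_zero two_ne_zero hp.ne_zero) (mul_ne_zero hcp0 hcm0))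
  have hM0 : ((m : ℤ) * p * cp) ≠ 0 := by
    refine mul_ne_zero (mul_ne_zero (by exact_mod_cast hm0) hpne) (by exact_mod_cast hcp0)
  have hy0 : x - q + 1 ≠ 0 := fun e => by
    have hR : ((c : ℤ) * ((m : ℤ) * p * cp) ^ 2 * (q - 1) * (x * (x + 1))) ≠ 0 :=
      mul_ne_zero (mul_ne_zero (mul_ne_zero hc0 (pow_ne_zero 2 hM0)) hqm) (mul_ne_zero hx hx1)
    apply hR
    rw [← hform, e]; ring
  have hval : ∀ r : ℕ, N.factorization r + iv r q + 2 * iv r (x - q + 1) =
      c.factorization r + 2 * (m.factorization r + p.factorization r + cp.factorization r) +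
        iv r (q - 1) + (iv r x + iv r (x + 1)) := by
    intro r
    have h := congrArg (iv r) hform
    rw [iv_mul (mul_ne_zero (by omega) hq0) (pow_ne_zero 2 hy0), iv_mul (by omega) hq0, iv_sq hy0,
      iv_mul (mul_ne_zero (mul_ne_zero hc0 (pow_ne_zero 2 hM0)) hqm) (mul_ne_zero hx hx1),
      iv_mul (mul_ne_zero hc0 (pow_ne_zero 2 hM0)) hqm, iv_mul hc0 (pow_ne_zero 2 hM0), iv_sq hM0,
      iv_mul (mul_ne_zero (by exact_mod_cast hm0) hpne) (by exact_mod_cast hcp0),
      iv_mul (by exact_mod_cast hm0) hpne, iv_mul hx hx1] at h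
    simp only [iv_nat] at h
    exact h
  have hpI : Prime (p : ℤ) := Nat.prime_iff_prime_int.1 hp
  have hpq : (p : ℤ) ∣ q := Int.natCast_dvd.2 (by rw [hq])
  have hqp : q ∣ (p : ℤ) := Int.dvd_natCast.2 (by rw [hq])
  have hp_one : ¬ (p : ℤ) ∣ 1 := fun h => by have := Int.le_of_dvd one_pos h; omega
  have hp_qm : ¬ (p : ℤ) ∣ q - 1 := fun h => hp_one (by simpa using dvd_sub hpq h)
  have hp_qp : ¬ (p : ℤ) ∣ q + 1 := fun h => hp_one (by simpa using dvd_sub h hpq)
  have hvq : iv p q = 1 := by rw [iv, hq, hp.factorization_self]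
  -- the characteristic
  have hP := hval p
  rw [hNp, hvq, iv_zero hp hqm hp_qm, hp.factorization_self] at hP
  have hpx : ¬ (p : ℤ) ∣ x := fun h => by
    have : ¬ (p : ℤ) ∣ x - q + 1 := fun h' => hp_one (by
      have := dvd_sub h' (dvd_sub h hpq); rwa [show x - q + 1 - (x - q) = 1 by ring] at this)
    rw [iv_zero hp hy0 this] at hP
    omega
  rw [iv_zero hp hx hpx] at hP
  have hpg : (p : ℤ) ∣ g := by
    have h1 : (p : ℤ) ∣ x + 1 := by
      by_contra h
      rw [iv_zero hp hx1 h] at hP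
      omega
    rw [hg, show 1 + x - q ^ 2 = (x + 1) - q * q by ring]
    exact dvd_sub h1 (hpq.mul_left q)
  have hqg : q ∣ g := dvd_trans hqp hpg
  obtain ⟨h', rfl⟩ := hqg
  have hpp : (p : ℤ) * p = q * q := by rw [← hq, Int.natAbs_mul_self']
  have hph : ¬ (p : ℤ) ∣ h' := fun h => by
    have h2 : (p : ℤ) ^ 2 ∣ q * h' := by rw [pow_two]; exact mul_dvd_mul hpq h
    have h3 : (p : ℤ) ^ 2 ∣ x + 1 := by
      rw [show x + 1 = q * h' + q * q by linear_combination -hg]
      exact dvd_add h2 (by rw [pow_two, hpp])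
    have h4 : ¬ (p : ℤ) ^ 2 ∣ x - q + 1 := by
      intro h5
      have h6 := dvd_sub h3 h5
      rw [show x + 1 - (x - q + 1) = q by ring, pow_two, hpp] at h6
      have : (q.natAbs * q.natAbs) ∣ q.natAbs := by
        rw [← Int.natAbs_mul]; exact Int.natAbs_dvd_natAbs.2 h6
      rw [hq] at this
      have := Nat.le_of_dvd (by omega) this
      nlinarith
    rw [iv_dvd hp hx1] at h3
    rw [iv_dvd hp hy0] at h4
    omega
  have hh'0 : h' ≠ 0 := fun e => hg0 (by rw [e, mul_zero])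
  have hhd : h' ∣ q ^ 2 - 1 := by
    have h1 : q * h' ∣ q * (q * (q ^ 2 - 1)) := by rwa [← mul_assoc, ← pow_two]
    have h2 := (mul_dvd_mul_iff_left hq0).1 h1
    refine (IsCoprime.dvd_of_dvd_mul_left ?_ h2)
    have hcop : IsCoprime (p : ℤ) h' := Int.isCoprime_iff_nat_coprime.2 (by
      rw [Int.natAbs_natCast, hp.coprime_iff_not_dvd, ← Int.natCast_dvd]; exact hph)
    rcases Int.natAbs_eq q with e | e <;> rw [e, hq]
    · exact hcop.symm
    · exact hcop.symm.neg_right
  have ex1 : x + 1 = q * (h' + q) := by linear_combination -hg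
  have ex : x = q * h' + q ^ 2 - 1 := by linear_combination -hg
  have ey : x - q + 1 = q * (h' + q - 1) := by linear_combination -hg
  have hA0 : h' + q - 1 ≠ 0 := fun e => hy0 (by rw [ey, e, mul_zero])
  have hB0 : h' + q ≠ 0 := fun e => hx1 (by rw [ex1, e, mul_zero])
  -- the prime two
  obtain ⟨t, ht, hcpt⟩ := hcpk
  obtain ⟨t', ht', hcmt⟩ := hcm2
  have h2q : iv 2 q = 0 := iv_zero Nat.prime_two hq0 (by omega)
  have h2p : p.factorization 2 = 0 := Nat.factorization_eq_zero_of_not_dvd fun h =>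
    hp2 ((Nat.prime_dvd_prime_iff_eq Nat.prime_two hp).1 h).symm
  have h2m : m.factorization 2 = 0 := Nat.factorization_eq_zero_of_not_dvd (by
    rw [Nat.two_dvd_ne_zero]; exact Nat.odd_iff.1 hmodd)
  have h2cp : cp.factorization 2 = k := by
    rw [hcpt, Nat.factorization_mul (by positivity) (by intro e; subst e; simp at ht),
      Nat.prime_two.factorization_pow, Finsupp.add_apply, Finsupp.single_eq_same,
      Nat.factorization_eq_zero_of_not_dvd (show ¬ 2 ∣ t by
        rw [Nat.two_dvd_ne_zero]; exact Nat.odd_iff.1 ht), add_zero]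
  have h2qm : iv 2 (q - 1) = 1 := by
    rw [iv, ← hcm, hcmt, Nat.factorization_mul two_ne_zero (by intro e; subst e; simp at ht'),
      Finsupp.add_apply, Nat.prime_two.factorization_self, Nat.factorization_eq_zero_of_not_dvd
        (show ¬ 2 ∣ t' by rw [Nat.two_dvd_ne_zero]; exact Nat.odd_iff.1 ht')]
  have h2 := hval 2
  rw [hN2, h2q, h2p, h2m, h2cp, h2qm, ey, iv_mul hq0 hA0, h2q, ex1, iv_mul hq0 hB0, h2q] at h2
  have hev : (2 : ℤ) ∣ h' := by
    by_contra h
    rw [iv_zero Nat.prime_two hA0 (by push_cast; omega)] at h2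
    omega
  rw [iv_zero Nat.prime_two hB0 (by push_cast; omega)] at h2
  have hv1 : iv 2 h' = 1 := by
    have h1 : 1 ≤ iv 2 h' := (iv_one_le Nat.prime_two hh'0).2 (by exact_mod_cast hev)
    by_contra hne
    have h4 : (4 : ℤ) ∣ h' := by
      have := (iv_dvd Nat.prime_two hh'0 2).2 (by omega)
      norm_num at this
      exact this
    have hA2 : iv 2 (h' + q - 1) ≤ 1 := by
      by_contra hh
      have := (iv_dvd Nat.prime_two hA0 2).2 (by omega)
      norm_num at this
      omega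
    omega
  -- the primes of `q + 1`
  have hdvdA : 2 * cp ∣ (h' + q - 1).natAbs := by
    have hA' := Int.natAbs_ne_zero.2 hA0
    rw [← Nat.factorization_le_iff_dvd (by omega) hA', Nat.factorization_mul two_ne_zero hcp0,
      Finsupp.le_def]
    intro r
    rw [Finsupp.add_apply]
    by_cases hr : r.Prime
    swap
    · simp [Nat.factorization_eq_zero_of_not_prime _ hr]
    by_cases hr2 : r = 2
    · subst hr2
      rw [Nat.prime_two.factorization_self, h2cp]
      have hx2 : 1 ≤ iv 2 x := (iv_one_le Nat.prime_two hx).2 (by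
        rw [ex]; push_cast
        have h8 : (2 : ℤ) ∣ q ^ 2 - 1 := by
          rw [show q ^ 2 - 1 = (q - 1) * (q + 1) by ring]; exact Dvd.dvd.mul_right (by omega) _
        rw [add_sub_assoc]
        exact dvd_add (hev.mul_left q) h8)
      show 1 + k ≤ iv 2 (h' + q - 1)
      omega
    · rw [Nat.factorization_eq_zero_of_not_dvd (show ¬ r ∣ 2 from fun h =>
        hr2 ((Nat.prime_dvd_prime_iff_eq hr Nat.prime_two).1 h)), zero_add]
      by_cases hd : r ∣ cp
      · have h3 := hval r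
        have hrp : r ≠ p := fun e => hp_qp (by
          subst e; rw [hcp] at hd; exact Int.natCast_dvd.2 hd)
        rw [hNr r hr hr2 hd, ey, iv_mul hq0 hA0] at h3
        have hrq : iv r q = 0 := by
          rw [iv, hq]
          exact Nat.factorization_eq_zero_of_not_dvd fun h =>
            hrp ((Nat.prime_dvd_prime_iff_eq hr hp).1 h)
        rw [hrq] at h3
        show cp.factorization r ≤ iv r (h' + q - 1)
        omega
      · simp [Nat.factorization_eq_zero_of_not_dvd hd]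
  have hA : (2 * (q + 1)) ∣ h' + q - 1 := by
    have : ((2 * (q + 1)).natAbs) ∣ (h' + q - 1).natAbs := by
      rw [Int.natAbs_mul, ← hcp]; exact hdvdA
    exact Int.natAbs_dvd_natAbs.1 this
  have hqp1h : (q + 1) ∣ h' - 2 := by
    have h1 := dvd_sub ((dvd_mul_left (q + 1) 2).trans hA) (dvd_refl (q + 1))
    rwa [show h' + q - 1 - (q + 1) = h' - 2 by ring] at h1
  have hdm : h' ∣ q - 1 := by
    obtain ⟨e, he⟩ := hqp1h
    have h1 : h' ∣ (q - 1) * 2 := by
      have h2 : h' ∣ (q - 1) * (h' - (q + 1) * e) := by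
        rw [mul_sub, ← mul_assoc]
        refine dvd_sub (dvd_mul_left _ _) (Dvd.dvd.mul_right ?_ e)
        rw [show (q - 1) * (q + 1) = q ^ 2 - 1 by ring]; exact hhd
      rwa [show h' - (q + 1) * e = 2 by linear_combination he] at h2
    rw [← Int.natAbs_dvd_natAbs, ← hcm]
    have h1' : h'.natAbs ∣ cm * 2 := by
      rw [hcm]
      have := Int.natAbs_dvd_natAbs.2 h1
      rwa [Int.natAbs_mul] at this
    have hh0 := Int.natAbs_ne_zero.2 hh'0
    rw [← Nat.factorization_le_iff_dvd hh0 hcm0, Finsupp.le_def]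
    intro r
    have h5 := ((Nat.factorization_le_iff_dvd hh0 (mul_ne_zero hcm0 two_ne_zero)).2 h1') r
    rw [Nat.factorization_mul hcm0 two_ne_zero, Finsupp.add_apply] at h5
    by_cases hr2 : r = 2
    · subst hr2
      show iv 2 h' ≤ _
      rw [hv1, hcm, ← iv, h2qm]
    · have : (2 : ℕ).factorization r = 0 := by
        rw [Nat.prime_two.factorization, Finsupp.single_eq_of_ne (by omega)]
      omega
  obtain ⟨hp5', hq5, hh2⟩ := arith_bound hp hq hq4 hdm hA hA0
  subst hp5'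
  rw [hq5, hh2] at ex
  have hx34 : x = 34 := by rw [ex]; norm_num
  rw [hq5] at hcp hcm
  norm_num at hcp hcm
  rw [hcp, hcm] at hc
  have hc240 : c = 240 * o := by rw [hc]; ring
  rw [hq5, hx34, hcp, hc240] at hform
  push_cast at hform
  have hN' : (N : ℤ) = 85680 * o * (m : ℤ) ^ 2 := by linarith
  have hNn : N = 85680 * o * m ^ 2 := by exact_mod_cast hN'
  have hm1 : m = 1 := by
    by_contra hne
    obtain ⟨r, hr, hrm⟩ := Nat.exists_prime_and_dvd hne
    have h := hNo r hr (hrm.trans hm)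
    rw [hNn, hc240, Nat.factorization_mul (by positivity) (pow_ne_zero 2 hm0),
      Nat.factorization_mul (by norm_num) ho0, Nat.factorization_mul (by norm_num) ho0,
      Nat.factorization_pow] at h
    simp only [Finsupp.add_apply, Finsupp.smul_apply, smul_eq_mul] at h
    have hmr : 1 ≤ m.factorization r := hr.factorization_pos_of_dvd hm0 hrm
    have key : Nat.factorization 240 r < Nat.factorization 85680 r + 2 := by
      by_cases hr5 : r = 2
      · subst hr5
        exfalso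
        exact absurd (Nat.odd_iff.1 (Odd.of_dvd_nat hmodd hrm)) (by norm_num)
      have h240 : Nat.factorization 240 r ≤ 1 := by
        by_contra hh
        have h2 : r ^ 2 ∣ 240 := (hr.pow_dvd_iff_le_factorization (by norm_num)).2 (by omega)
        have hr15 : r ≤ 15 := by
          have := Nat.le_of_dvd (by norm_num) h2
          nlinarith
        interval_cases r <;> (norm_num at h2) <;> (norm_num at hr) <;> contradiction
      omega
    omega
  subst hm1
  exact ⟨rfl, hq5, rfl, by rw [hNn, one_pow, mul_one]⟩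

end Cfsg.Agent.SDPack
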