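import Cfsg.Agent.Lib.Classical.TwoByTwo
import Mathlib.LinearAlgebra.Matrix.GeneralLinearGroup.Projective
import Mathlib.FieldTheory.IsAlgClosed.AlgebraicClosure
import Mathlib.RingTheory.IntegralDomain
import Mathlib.GroupTheory.SpecificGroups.Cyclic
import Mathlib.FieldTheory.Finite.Basic

/-!
The centraliser of a non-scalar matrix in `PGL(2, p)`, up to scalars: a cyclic group of order
`p - 1`, `p` or `p + 1`.
-/

set_option autoImplicit false

namespace Cfsg.Agent.SDPack

open Matrix Cfsg.Agent.TwoByTwo
open scoped Classical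

variable {p : ℕ} [Fact p.Prime]

local notation "F" => ZMod p
local notation "GL2" => GL (Fin 2) (ZMod p)
local notation "Mat" => Matrix (Fin 2) (Fin 2) (ZMod p)
local notation "PGL2" => Matrix.ProjGenLinGroup (Fin 2) (ZMod p)

/-- The invertible matrices commuting with `M`. -/
def unitsOf (M : Mat) : Subgroup GL2 where
  carrier := {A | A.1 * M = M * A.1}
  mul_mem' {A B} hA hB := by
    show (A * B).1 * M = M * (A * B).1
    rw [Units.val_mul, mul_assoc, hB, ← mul_assoc, hA, mul_assoc]
  one_mem' := by simp
  inv_mem' {A} hA := by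
    show A⁻¹.1 * M = M * A⁻¹.1
    calc A⁻¹.1 * M = A⁻¹.1 * (M * A.1) * A⁻¹.1 := by
          rw [mul_assoc, mul_assoc, Units.mul_inv, mul_one]
      _ = A⁻¹.1 * (A.1 * M) * A⁻¹.1 := by rw [hA]
      _ = M * A⁻¹.1 := by rw [← mul_assoc A⁻¹.1, Units.inv_mul, one_mul]

theorem mem_unitsOf {M : Mat} {A : GL2} : A ∈ unitsOf M ↔ A.1 * M = M * A.1 := Iff.rfl

/-- The centraliser modulo scalars. -/
noncomputable def projOf (M : Mat) : Subgroup PGL2 := (unitsOf M).map Matrix.ProjGenLinGroup.mk

variable {M : Matrix (Fin 2) (Fin 2) (ZMod p)} (hM : ¬ IsScalar M)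
include hM

theorem coord (A : unitsOf M) : ∃ ab : F × F, A.1.1 = ab.1 • (1 : Mat) + ab.2 • M := by
  obtain ⟨a, b, h⟩ := commute_eq hM (mem_unitsOf.1 A.2).symm
  exact ⟨(a, b), h⟩

omit hM in
theorem sq_eq (M : Mat) : M * M = M.trace • M - M.det • (1 : Mat) := by
  ext i j
  fin_cases i <;> fin_cases j <;>
    simp [Matrix.mul_apply, Fin.sum_univ_two, Matrix.trace_fin_two, Matrix.det_fin_two] <;> ring

theorem lin_mul {a b c d e f : F}
    (h : (a • (1 : Mat) + b • M) * (c • (1 : Mat) + d • M) = e • (1 : Mat) + f • M) :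
    e = a * c - b * d * M.det ∧ f = a * d + b * c + b * d * M.trace := by
  refine lin_injective hM ?_
  rw [← h]
  simp only [mul_add, add_mul, smul_mul_assoc, mul_smul_comm, one_mul, mul_one, smul_smul, sq_eq M,
    smul_sub, smul_add]
  module

variable {Ω : Type} [Field Ω] [Algebra (ZMod p) Ω]

/-- The coordinates of a commuting matrix. -/
noncomputable def cA (A : unitsOf M) : F := (coord hM A).choose.1

/-- The coordinates of a commuting matrix. -/
noncomputable def cB (A : unitsOf M) : F := (coord hM A).choose.2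

theorem coord_eq (A : unitsOf M) : A.1.1 = cA hM A • (1 : Mat) + cB hM A • M :=
  (coord hM A).choose_spec

/-- The eigenvalue of a commuting matrix. -/
noncomputable def eig {μ : Ω}
    (hμ : μ * μ = algebraMap F Ω M.trace * μ - algebraMap F Ω M.det) : unitsOf M →* Ω where
  toFun A := algebraMap F Ω (cA hM A) + algebraMap F Ω (cB hM A) * μ
  map_one' := by
    obtain ⟨e1, e2⟩ := lin_injective hM ((coord_eq hM (1 : unitsOf M)).symm.trans
      (show ((1 : unitsOf M).1).1 = (1 : F) • (1 : Mat) + (0 : F) • M by simp))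
    rw [e1, e2]
    simp
  map_mul' A B := by
    have h : A.1.1 * B.1.1 = cA hM (A * B) • (1 : Mat) + cB hM (A * B) • M := coord_eq hM (A * B)
    rw [coord_eq hM A, coord_eq hM B] at h
    obtain ⟨e1, e2⟩ := lin_mul hM h
    rw [e1, e2]
    simp only [map_add, map_sub, map_mul]
    linear_combination (-(algebraMap F Ω (cB hM A)) * (algebraMap F Ω (cB hM B))) * hμ

theorem eig_ne {μ : Ω} (hμ : μ * μ = algebraMap F Ω M.trace * μ - algebraMap F Ω M.det)
    (A : unitsOf M) : eig hM hμ A ≠ 0 := fun h => by
  have := map_mul (eig hM hμ) A A⁻¹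
  rw [mul_inv_cancel, map_one, h, zero_mul] at this
  exact one_ne_zero this

/-- The parameters of the centraliser modulo scalars. -/
def Param (M : Mat) : Type := Option {t : F // t ^ 2 + t * M.trace + M.det ≠ 0}

omit hM in
theorem paramMat_det (t : {t : F // t ^ 2 + t * M.trace + M.det ≠ 0}) :
    (t.1 • (1 : Mat) + M).det ≠ 0 := by
  have := det_lin M t.1 1
  rw [one_smul] at this
  rw [this]
  simpa using t.2

omit hM in
/-- The element of a parameter. -/
noncomputable def ofParam (M : Mat) : Param M → PGL2
  | none => 1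
  | some t => Matrix.ProjGenLinGroup.mk
      (Matrix.GeneralLinearGroup.mkOfDetNeZero (t.1 • (1 : Mat) + M) (paramMat_det t))

theorem ofParam_mem (o : Param M) : ofParam M o ∈ projOf M := by
  rcases o with _ | t
  · exact one_mem _
  · refine Subgroup.mem_map_of_mem _ (mem_unitsOf.2 ?_)
    show (t.1 • (1 : Mat) + M) * M = M * (t.1 • (1 : Mat) + M)
    rw [add_mul, mul_add, smul_mul_assoc, mul_smul_comm, one_mul, mul_one]

theorem card_projOf :
    Nat.card (projOf M) = Nat.card (Param M) := by
  refine (Nat.card_congr (Equiv.ofBijective (fun o => (⟨ofParam M o, ofParam_mem hM o⟩ : projOf M))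
    ⟨?_, ?_⟩)).symm
  · intro o o' h
    have h' : ofParam M o = ofParam M o' := congrArg Subtype.val h
    rcases o with _ | t <;> rcases o' with _ | t'
    · rfl
    · exfalso
      obtain ⟨v, hv⟩ := Matrix.ProjGenLinGroup.mk_eq_mk_iff.1
        (show Matrix.ProjGenLinGroup.mk 1 = _ from h')
      have hv' := congrArg (fun A : GL2 => A.1) hv
      simp only [Units.val_mul, Units.val_one, one_mul] at hv'
      rw [show ((Matrix.GeneralLinearGroup.scalar (Fin 2) v : GL2) : Mat) = (v : F) • (1 : Mat) +
        (0 : F) • M by ext i j; simp [Matrix.one_apply, Matrix.GeneralLinearGroup.scalar,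
          Matrix.diagonal_apply]] at hv'
      have h3 : t'.1 • (1 : Mat) + (1 : F) • M = (v : F) • (1 : Mat) + (0 : F) • M := by
        rw [one_smul]; exact hv'.symm
      exact one_ne_zero (lin_injective hM h3).2
    · exfalso
      obtain ⟨v, hv⟩ := Matrix.ProjGenLinGroup.mk_eq_mk_iff.1
        (show Matrix.ProjGenLinGroup.mk 1 = _ from h'.symm)
      have hv' := congrArg (fun A : GL2 => A.1) hv
      simp only [Units.val_mul, Units.val_one, one_mul] at hv'
      rw [show ((Matrix.GeneralLinearGroup.scalar (Fin 2) v : GL2) : Mat) = (v : F) • (1 : Mat) +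
        (0 : F) • M by ext i j; simp [Matrix.one_apply, Matrix.GeneralLinearGroup.scalar,
          Matrix.diagonal_apply]] at hv'
      have h3 : t.1 • (1 : Mat) + (1 : F) • M = (v : F) • (1 : Mat) + (0 : F) • M := by
        rw [one_smul]; exact hv'.symm
      exact one_ne_zero (lin_injective hM h3).2
    · obtain ⟨v, hv⟩ := Matrix.ProjGenLinGroup.mk_eq_mk_iff.1 h'
      have hv' := congrArg (fun A : GL2 => A.1) hv
      have h3 : (t.1 * (v : F)) • (1 : Mat) + (v : F) • M = t'.1 • (1 : Mat) + (1 : F) • M := by
        rw [one_smul]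
        refine Eq.trans ?_ hv'
        ext i j
        fin_cases i <;> fin_cases j <;>
          simp [Matrix.mul_apply, Fin.sum_univ_two, Matrix.GeneralLinearGroup.scalar] <;> ring
      obtain ⟨e1, e2⟩ := lin_injective hM h3
      rw [e2, mul_one] at e1
      exact congrArg some (Subtype.ext e1)
  · rintro ⟨P, hP⟩
    obtain ⟨A, hA, rfl⟩ := Subgroup.mem_map.1 hP
    obtain ⟨⟨a, b⟩, hab⟩ := coord hM ⟨A, hA⟩
    simp only at hab
    by_cases hb : b = 0
    · refine ⟨none, Subtype.ext ?_⟩
      have ha : a ≠ 0 := fun e => by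
        have h := A.det_ne_zero
        rw [hab, hb, e] at h
        simp at h
      show (1 : PGL2) = Matrix.ProjGenLinGroup.mk A
      rw [← Matrix.ProjGenLinGroup.mk_one]
      refine Matrix.ProjGenLinGroup.mk_eq_mk_iff.2 ⟨Units.mk0 a ha, Units.ext ?_⟩
      rw [hab, hb]
      ext i j
      simp [Matrix.one_apply, Matrix.GeneralLinearGroup.scalar, Matrix.diagonal_apply]
    · have ht : (a / b) ^ 2 + a / b * M.trace + M.det ≠ 0 := by
        have h := A.det_ne_zero
        rw [hab, det_lin] at h
        intro e
        apply h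
        have e' := congrArg (fun y => b ^ 2 * y) e
        simp only [mul_zero] at e'
        rw [← e']
        field_simp
      refine ⟨some ⟨a / b, ht⟩, Subtype.ext ?_⟩
      refine Matrix.ProjGenLinGroup.mk_eq_mk_iff.2 ⟨Units.mk0 b hb, Units.ext ?_⟩
      rw [hab]
      ext i j
      fin_cases i <;> fin_cases j <;>
        simp [Matrix.mul_apply, Fin.sum_univ_two, Matrix.GeneralLinearGroup.scalar] <;>
        field_simp

omit hM in
theorem card_param :
    Nat.card (Param M) = p + 1 - (Finset.univ.filter fun t : F =>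
      t ^ 2 + t * M.trace + M.det = 0).card := by
  rw [Param, Nat.card_eq_fintype_card, Fintype.card_option, Fintype.card_subtype_compl,
    Fintype.card_subtype, ZMod.card]
  have := Finset.card_le_univ (Finset.univ.filter fun t : F => t ^ 2 + t * M.trace + M.det = 0)
  rw [ZMod.card] at this
  omega

/-- The possible orders. -/
theorem card_cases :
    Nat.card (projOf M) = p - 1 ∨ Nat.card (projOf M) = p ∨ Nat.card (projOf M) = p + 1 := by
  rw [card_projOf hM, card_param]
  have h2 : (Finset.univ.filter fun t : F => t ^ 2 + t * M.trace + M.det = 0).card ≤ 2 := by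
    rcases Finset.eq_empty_or_nonempty
      (Finset.univ.filter fun t : F => t ^ 2 + t * M.trace + M.det = 0) with e | ⟨t, ht⟩
    · simp [e]
    refine le_trans (Finset.card_le_card (t := {t, -M.trace - t}) fun s hs => ?_) Finset.card_le_two
    simp only [Finset.mem_filter, Finset.mem_univ, true_and] at hs ht
    simp only [Finset.mem_insert, Finset.mem_singleton]
    have h : (s - t) * (s + t + M.trace) = 0 := by linear_combination hs - ht
    rcases mul_eq_zero.1 h with e | e
    · exact Or.inl (sub_eq_zero.1 e)
    · exact Or.inr (by linear_combination e)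
  have := (Fact.out : p.Prime).two_le
  omega

set_option maxHeartbeats 1000000 in
theorem isCyclic_of_roots {l l' : Ω}
    (e1 : l * l = algebraMap F Ω M.trace * l - algebraMap F Ω M.det)
    (e2 : l' * l' = algebraMap F Ω M.trace * l' - algebraMap F Ω M.det) (hne : l ≠ l') :
    IsCyclic (projOf M) := by
  haveI : Finite (Matrix.ProjGenLinGroup (Fin 2) F) :=
    Finite.of_surjective _ Matrix.ProjGenLinGroup.mk_surjective
  -- the ratio kills the scalars
  let r : unitsOf M →* Ω := {
    toFun := fun A => eig hM e1 A / eig hM e2 A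
    map_one' := by simp
    map_mul' := fun A B => by rw [map_mul, map_mul, mul_div_mul_comm] }
  let π : unitsOf M →* projOf M :=
    (Matrix.ProjGenLinGroup.mk.comp (unitsOf M).subtype).codRestrict (projOf M)
      fun A => Subgroup.mem_map_of_mem _ A.2
  have hπ : Function.Surjective π := fun P => by
    obtain ⟨A, hA, e⟩ := Subgroup.mem_map.1 P.2
    exact ⟨⟨A, hA⟩, Subtype.ext e⟩
  have hker : ∀ A : unitsOf M, π A = 1 ↔ r A = 1 := by
    intro A
    have hco := coord_eq hM A
    show _ ↔ eig hM e1 A / eig hM e2 A = 1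
    rw [div_eq_one_iff_eq (eig_ne hM e2 A)]
    have hb : eig hM e1 A = eig hM e2 A ↔ cB hM A = 0 := by
      show _ + _ * l = _ + _ * l' ↔ _
      rw [add_right_inj]
      constructor
      · intro e
        have h : algebraMap F Ω (cB hM A) * (l - l') = 0 := by linear_combination e
        exact (map_eq_zero _).1 ((mul_eq_zero.1 h).resolve_right (sub_ne_zero.2 hne))
      · intro e; rw [e, map_zero, zero_mul, zero_mul]
    rw [hb]
    constructor
    · intro e
      have e' : Matrix.ProjGenLinGroup.mk (1 : GL2) = Matrix.ProjGenLinGroup.mk A.1 := by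
        rw [Matrix.ProjGenLinGroup.mk_one]; exact (congrArg Subtype.val e).symm
      obtain ⟨v, hv⟩ := Matrix.ProjGenLinGroup.mk_eq_mk_iff.1 e'
      have hv' := congrArg (fun X : GL2 => X.1) hv
      simp only [Units.val_mul, Units.val_one, one_mul] at hv'
      rw [hco, show ((Matrix.GeneralLinearGroup.scalar (Fin 2) v : GL2) : Mat) =
        (v : F) • (1 : Mat) + (0 : F) • M by
          ext i j; simp [Matrix.one_apply, Matrix.GeneralLinearGroup.scalar,
            Matrix.diagonal_apply]] at hv'
      exact (lin_injective hM hv').2.symm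
    · intro e
      have ha : cA hM A ≠ 0 := fun e' => by
        have h := A.1.det_ne_zero
        rw [hco, e, e'] at h
        simp at h
      refine Subtype.ext ?_
      show Matrix.ProjGenLinGroup.mk A.1 = 1
      rw [eq_comm, ← Matrix.ProjGenLinGroup.mk_one]
      refine Matrix.ProjGenLinGroup.mk_eq_mk_iff.2 ⟨Units.mk0 _ ha, Units.ext ?_⟩
      rw [hco, e]
      ext i j
      simp [Matrix.one_apply, Matrix.GeneralLinearGroup.scalar, Matrix.diagonal_apply]
  have hsub : π.ker ≤ r.toHomUnits.ker := fun A hA => Units.ext ((hker A).1 hA)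
  refine isCyclic_of_injective_ringHom (R := Ω)
    ((Units.coeHom Ω).comp (π.liftOfSurjective hπ ⟨r.toHomUnits, hsub⟩)) ?_
  refine (injective_iff_map_eq_one _).2 fun P hP => ?_
  obtain ⟨A, rfl⟩ := hπ P
  rw [MonoidHom.comp_apply, MonoidHom.liftOfSurjective, MonoidHom.liftOfRightInverse_comp_apply] at hP
  exact (hker A).2 hP



/-- The centraliser modulo scalars is cyclic. -/
theorem isCyclic_projOf (h2 : (2 : F) ≠ 0) : IsCyclic (projOf M) := by
  haveI : Finite (Matrix.ProjGenLinGroup (Fin 2) F) :=
    Finite.of_surjective _ Matrix.ProjGenLinGroup.mk_surjective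
  by_cases hdisc : M.trace ^ 2 - 4 * M.det = 0
  · -- one root, prime order
    have hc : (Finset.univ.filter fun t : F => t ^ 2 + t * M.trace + M.det = 0) = {-M.trace / 2} := by
      ext t
      simp only [Finset.mem_filter, Finset.mem_univ, true_and, Finset.mem_singleton]
      have key : t ^ 2 + t * M.trace + M.det = (t - -M.trace / 2) ^ 2 - (M.trace ^ 2 - 4 * M.det) / 4 := by
        have h4 : (4 : F) ≠ 0 := by
          rw [show (4 : F) = 2 * 2 by norm_num]; exact mul_ne_zero h2 h2
        field_simp
        ring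
      rw [key, hdisc, zero_div, sub_zero, pow_eq_zero_iff two_ne_zero, sub_eq_zero]
    refine isCyclic_of_prime_card (p := p) ?_
    rw [card_projOf hM, card_param, hc, Finset.card_singleton, Nat.add_sub_cancel]
  · -- distinct eigenvalues in an algebraic closure
    obtain ⟨s, hs⟩ := IsAlgClosed.exists_pow_nat_eq
      (algebraMap F (AlgebraicClosure F) M.trace ^ 2 - 4 * algebraMap F (AlgebraicClosure F) M.det)
      (n := 2) two_pos
    have h2' : (2 : AlgebraicClosure F) ≠ 0 := by
      rw [← map_ofNat (algebraMap F (AlgebraicClosure F)) 2]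
      exact (map_ne_zero_iff _ (algebraMap F _).injective).2 h2
    have h4 : (4 : AlgebraicClosure F) ≠ 0 := by
      rw [show (4 : AlgebraicClosure F) = 2 * 2 by norm_num]; exact mul_ne_zero h2' h2'
    refine isCyclic_of_roots hM (Ω := AlgebraicClosure F)
      (l := (algebraMap F (AlgebraicClosure F) M.trace + s) / 2)
      (l' := (algebraMap F (AlgebraicClosure F) M.trace - s) / 2) ?_ ?_ ?_
    · field_simp
      linear_combination hs
    · field_simp
      linear_combination hs
    · intro e
      rw [div_left_inj' h2'] at e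
      have h : 2 * s = 0 := by linear_combination e
      have hs0 : s = 0 := (mul_eq_zero.1 h).resolve_left h2'
      rw [hs0, zero_pow two_ne_zero, eq_comm] at hs
      apply hdisc
      refine (algebraMap F (AlgebraicClosure F)).injective ?_
      rw [map_zero, map_sub, map_pow, map_mul, map_ofNat]
      exact hs

end Cfsg.Agent.SDPack
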