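import Cfsg.Agent.Lib.SDPack.Members

/-!
The values of the exceptional characters at the involution, from the section of the involution and
the principal block of its centraliser.
-/

set_option autoImplicit false
set_option linter.style.haveILetI false
set_option linter.unusedSectionVars false

namespace Cfsg.Agent.SDPack

open Cfsg Cfsg.Agent.Char Cfsg.Agent.Blocks Finset
open scoped ComplexConjugate

universe u

variable {G : Type u} [Group G] [Fintype G]

/-- The quadratic form of the section at the involution. -/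
def quad (q X P : ℤ) (Ne No : ℕ) : ℤ :=
  1 + (1 + X) ^ 2 + P ^ 2 + (X - P) ^ 2 + (2 * q + 1 - P) ^ 2 +
    ((Ne : ℤ) * X ^ 2 + (No : ℤ) * (X - (2 * q - 2)) ^ 2)

theorem quad_le {q X P : ℤ} {Ne No : ℕ} (hN : No = Ne + 1)
    (h : quad q X P Ne No ≤ quad q (q - 1) q Ne No) : X = q - 1 ∧ P = q := by
  obtain ⟨t, rfl⟩ : ∃ t, X = q - 1 + t := ⟨X - (q - 1), by ring⟩
  obtain ⟨s, rfl⟩ : ∃ s, P = q + s := ⟨P - q, by ring⟩
  have e : quad q (q - 1 + t) (q + s) Ne No = quad q (q - 1) q Ne No +
      (t ^ 2 + 2 * s ^ 2 + (t - s) ^ 2 + ((Ne : ℤ) + No) * t ^ 2) := by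
    subst hN
    unfold quad
    push_cast
    ring
  have h0 : (0 : ℤ) ≤ ((Ne : ℤ) + No) * t ^ 2 := by positivity
  have ht : t = 0 := by nlinarith [sq_nonneg (t - s), sq_nonneg s, sq_nonneg t]
  have hs : s = 0 := by subst ht; nlinarith [sq_nonneg s]
  omega

variable {z : G} {q : ℤ} {Ne No : ℕ} {F : Fam G z q Ne No} {M : Ideal AlgInt} [M.IsPrime]

namespace Mems

variable (K : Mems F M)

/-- The signed degree of the exceptional family. -/
noncomputable def x : ℤ := K.sX F.e0 * deg (K.X F.e0)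

/-- The signed degree of the second member. -/
noncomputable def b : ℤ := K.sP * deg K.P

theorem one_odd : ¬ 2 ∣ orderOf (1 : G) := by simp

theorem dX_aux (a : Fin Ne) : K.sA * deg K.A + K.sX a * deg (K.X a) = -1 := by
  have h := (K.hγ a 1).symm.trans (F.γodd a 1 one_odd)
  rw [← deg_cast, ← deg_cast] at h
  have h' : 1 + K.sA * deg K.A + K.sX a * deg (K.X a) = 0 := by exact_mod_cast h
  linarith

theorem dA : K.sA * deg K.A = -1 - K.x := by
  have := K.dX_aux F.e0
  rw [x]; linarith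

theorem dX (a : Fin Ne) : K.sX a * deg (K.X a) = K.x := by
  have := K.dX_aux a
  have := K.dA
  linarith

theorem dY (o : Fin No) : K.sY o * deg (K.Y o) = K.x := by
  have h := (K.hf o 1).symm.trans (F.fodd o 1 one_odd)
  rw [← deg_cast, ← deg_cast] at h
  have h' : K.sX F.e0 * deg (K.X F.e0) - K.sY o * deg (K.Y o) = 0 := by exact_mod_cast h
  rw [x]; linarith

theorem dR : K.sR * deg K.R = K.x - K.b := by
  have h := (K.hφ 1).symm.trans (F.φodd 1 one_odd)
  rw [← deg_cast, ← deg_cast, ← deg_cast] at h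
  have h' : 1 + K.sA * deg K.A + K.sP * deg K.P + K.sR * deg K.R = 0 := by exact_mod_cast h
  have := K.dA
  rw [b]; linarith

theorem dE : K.sE * deg K.E = -1 - K.b := by
  have h := (K.hα 1).symm.trans (F.αodd 1 one_odd)
  rw [← deg_cast, ← deg_cast] at h
  have h' : 1 + K.sP * deg K.P + K.sE * deg K.E = 0 := by exact_mod_cast h
  rw [b]; linarith

theorem sign_ne {s : ℤ} (h : s * s = 1) : s ≠ 0 := fun e => by simp [e] at h

theorem x_ne : K.x ≠ 0 := mul_ne_zero (sign_ne (K.hsX _)) (deg_ne _)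

theorem b_ne : K.b ≠ 0 := mul_ne_zero (sign_ne K.hsP) (deg_ne _)

theorem x_add_one_ne : K.x + 1 ≠ 0 := fun h =>
  mul_ne_zero (sign_ne K.hsA) (deg_ne K.A) (by rw [K.dA]; omega)

theorem x_sub_b_ne : K.x - K.b ≠ 0 := fun h =>
  mul_ne_zero (sign_ne K.hsR) (deg_ne K.R) (by rw [K.dR]; omega)

variable (hz : orderOf z = 2)
include hz

/-- The integral value at the involution. -/
noncomputable def zi (_K : Mems F M) (hz : orderOf z = 2) (χ : IrrCharacter G) : ℤ :=
  (char_involution χ hz).choose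

theorem zi_cast (χ : IrrCharacter G) : ((K.zi hz χ : ℤ) : ℂ) = (χ : G → ℂ) z :=
  (char_involution χ hz).choose_spec.1.symm

/-- The signed value of the exceptional family. -/
noncomputable def zX : ℤ := K.sX F.e0 * K.zi hz (K.X F.e0)

/-- The signed value of the second member. -/
noncomputable def zP : ℤ := K.sP * K.zi hz K.P

theorem zX_aux (a : Fin Ne) : K.sA * K.zi hz K.A + K.sX a * K.zi hz (K.X a) = -1 := by
  have h := (K.hγ a z).symm.trans (F.γz a)
  rw [← K.zi_cast hz, ← K.zi_cast hz] at h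
  have h' : 1 + K.sA * K.zi hz K.A + K.sX a * K.zi hz (K.X a) = 0 := by exact_mod_cast h
  linarith

theorem zA : K.sA * K.zi hz K.A = -1 - K.zX hz := by
  have := K.zX_aux hz F.e0
  rw [zX]; linarith

theorem zXa (a : Fin Ne) : K.sX a * K.zi hz (K.X a) = K.zX hz := by
  have := K.zX_aux hz a
  have := K.zA hz
  linarith

theorem zY (o : Fin No) : K.sY o * K.zi hz (K.Y o) = K.zX hz - (2 * q - 2) := by
  have h := (K.hf o z).symm.trans (F.fz o)
  rw [← K.zi_cast hz, ← K.zi_cast hz] at h
  have h' : K.sX F.e0 * K.zi hz (K.X F.e0) - K.sY o * K.zi hz (K.Y o) = 2 * q - 2 := by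
    exact_mod_cast h
  rw [zX]; linarith

theorem zR : K.sR * K.zi hz K.R = K.zX hz - K.zP hz := by
  have h := (K.hφ z).symm.trans F.φz
  rw [← K.zi_cast hz, ← K.zi_cast hz, ← K.zi_cast hz] at h
  have h' : 1 + K.sA * K.zi hz K.A + K.sP * K.zi hz K.P + K.sR * K.zi hz K.R = 0 := by
    exact_mod_cast h
  have := K.zA hz
  rw [zP]; linarith

theorem zE : K.sE * K.zi hz K.E = 2 * q + 1 - K.zP hz := by
  have h := (K.hα z).symm.trans F.αz
  rw [← K.zi_cast hz, ← K.zi_cast hz] at h
  have h' : 1 + K.sP * K.zi hz K.P + K.sE * K.zi hz K.E = 2 * q + 2 := by exact_mod_cast h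
  rw [zP]; linarith

theorem zi_principal : K.zi hz (Char.principal G) = 1 := by
  have h := K.zi_cast hz (Char.principal G)
  rw [show ((Char.principal G : IrrCharacter G) : G → ℂ) z = 1 from rfl] at h
  exact_mod_cast h

omit hz in
theorem sq_of_sign {s v w : ℤ} (hs : s * s = 1) (h : s * v = w) : v ^ 2 = w ^ 2 := by
  rw [← h]; linear_combination (-(v ^ 2)) * hs

theorem sum_members : ∑ i, K.zi hz (K.mem i) ^ 2 = quad q (K.zX hz) (K.zP hz) Ne No := by
  rw [Fintype.sum_sum_type, Fintype.sum_sum_type, Fin.sum_univ_five, K.mem_eq]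
  simp only [Sum.elim_inl, Sum.elim_inr, Matrix.cons_val]
  rw [sum_congr rfl (fun a _ => sq_of_sign (K.hsX a) (K.zXa hz a)),
    sum_congr rfl (fun o _ => sq_of_sign (K.hsY o) (K.zY hz o)),
    sq_of_sign K.hsA (K.zA hz), sq_of_sign K.hsP (show K.sP * K.zi hz K.P = K.zP hz from rfl),
    sq_of_sign K.hsR (K.zR hz), sq_of_sign K.hsE (K.zE hz), K.zi_principal hz, sum_const,
    sum_const, card_univ, card_univ, Fintype.card_fin, Fintype.card_fin, nsmul_eq_mul, nsmul_eq_mul]
  unfold quad
  ring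

theorem blockPair_z [DecidablePred (· ∈ principalBlock M G)] :
    blockPair (principalBlock M G) z z =
      (((∑ χ ∈ univ.filter (· ∈ principalBlock M G), K.zi hz χ ^ 2 : ℤ)) : ℂ) := by
  unfold blockPair
  push_cast
  refine sum_congr (by ext; simp) fun χ _ => ?_
  rw [← K.zi_cast hz, map_intCast, sq]

theorem quad_le_sum [DecidablePred (· ∈ principalBlock M G)] :
    quad q (K.zX hz) (K.zP hz) Ne No ≤
      ∑ χ ∈ univ.filter (· ∈ principalBlock M G), K.zi hz χ ^ 2 := by
  classical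
  rw [← K.sum_members hz, ← sum_image (f := fun χ => K.zi hz χ ^ 2) (g := K.mem)
    (fun i _ j _ h => K.mem_inj h)]
  refine sum_le_sum_of_subset_of_nonneg (fun χ hχ => ?_) fun χ _ _ => sq_nonneg _
  obtain ⟨i, -, rfl⟩ := mem_image.1 hχ
  exact mem_filter.2 ⟨mem_univ _, K.mem_block i⟩

theorem sum_eq_quad [DecidablePred (· ∈ principalBlock M G)]
    (hcard : Nat.card (principalBlock M G) ≤ Ne + No + 5) :
    ∑ χ ∈ univ.filter (· ∈ principalBlock M G), K.zi hz χ ^ 2 =
      quad q (K.zX hz) (K.zP hz) Ne No := by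
  classical
  rw [← K.sum_members hz, ← sum_image (f := fun χ => K.zi hz χ ^ 2) (g := K.mem)
    (fun i _ j _ h => K.mem_inj h)]
  refine (sum_congr (eq_of_subset_of_card_le (fun χ hχ => ?_) ?_) fun _ _ => rfl).symm
  · obtain ⟨i, -, rfl⟩ := mem_image.1 hχ
    exact mem_filter.2 ⟨mem_univ _, K.mem_block i⟩
  · rw [card_image_of_injective _ K.mem_inj, card_univ, Fintype.card_sum, Fintype.card_sum,
      Fintype.card_fin, Fintype.card_fin, Fintype.card_fin]
    refine le_trans (le_of_eq ?_) (hcard.trans (by omega))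
    rw [Nat.card_eq_fintype_card, ← Fintype.card_coe]
    exact Fintype.card_congr (Equiv.subtypeEquivRight fun χ => by simp)

/-- Values at a central involution. -/
theorem values_central (hc : ∀ g : G, g * z = z * g) (hq : q ≠ 1) (hq' : q ≠ -1) :
    K.x = q - 1 ∧ K.zX hz = q - 1 ∧ K.zP hz = q := by
  have hsq : ∀ χ : IrrCharacter G, K.zi hz χ ^ 2 = deg χ ^ 2 := by
    intro χ
    have h := irr_sum_conj_mul χ z z
    have hj : ∀ j : G, j⁻¹ * z * j * z = 1 := fun j => by
      rw [mul_assoc j⁻¹, ← hc, ← mul_assoc, inv_mul_cancel, one_mul, ← pow_two, ← hz,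
        pow_orderOf_eq_one]
    simp only [hj, sum_const, card_univ, nsmul_eq_mul, ← Nat.card_eq_fintype_card] at h
    rw [eq_div_iff (irr_one_ne_zero χ), mul_assoc, mul_assoc] at h
    have h2 := mul_left_cancel₀ (Nat.cast_ne_zero.2 (Nat.card_pos (α := G)).ne') h
    rw [← deg_cast, ← K.zi_cast hz] at h2
    have h3 : deg χ * deg χ = K.zi hz χ * K.zi hz χ := by exact_mod_cast h2
    rw [sq, sq, h3]
  have hv : ∀ {s : ℤ} (χ : IrrCharacter G), s * s = 1 →
      s * K.zi hz χ = s * deg χ ∨ s * K.zi hz χ = -(s * deg χ) := by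
    intro s χ _
    rcases sq_eq_sq_iff_eq_or_eq_neg.1 (hsq χ) with e | e
    · exact Or.inl (by rw [e])
    · exact Or.inr (by rw [e, mul_neg])
  have hX : K.zX hz = K.x := by
    rcases hv (K.X F.e0) (K.hsX _) with e | e
    · exact e
    · exfalso
      change K.zX hz = -K.x at e
      have := K.x_ne
      have := K.x_add_one_ne
      rcases hv K.A K.hsA with e' | e' <;> rw [K.zA hz, K.dA, e] at e' <;> omega
  obtain ⟨o⟩ : Nonempty (Fin No) := ⟨⟨0, by have := F.hNo; omega⟩⟩
  have hx : K.x = q - 1 := by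
    rcases hv (K.Y o) (K.hsY o) with e | e <;> rw [K.zY hz, K.dY, hX] at e <;> omega
  refine ⟨hx, hX.trans hx, ?_⟩
  rcases hv K.P K.hsP with e | e <;> change K.zP hz = _ at e
  · rcases hv K.E K.hsE with e' | e' <;> rw [K.zE hz, K.dE, e] at e' <;>
      · have hb : (K.sP * deg K.P : ℤ) = K.b := rfl
        rw [hb] at e e'
        omega
  · exfalso
    rcases hv K.R K.hsR with e' | e' <;> rw [K.zR hz, K.dR, e, hX] at e'
    · have hb : (K.sP * deg K.P : ℤ) = K.b := rfl
      have := K.b_ne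
      rw [hb] at e'
      omega
    · have hb : (K.sP * deg K.P : ℤ) = K.b := rfl
      have := K.x_ne
      rw [hb] at e'
      omega

end Mems

/-- The values at the involution. -/
theorem values (hM : IsPModular 2 M) (hz : orderOf z = 2) {C : Subgroup G} [Fintype C]
    (hC : C = Subgroup.centralizer ({z} : Set G)) {zC : C} (hzC : (zC : G) = z)
    (K : Mems F M) {F' : Fam C zC q Ne No} (K' : Mems F' M) (hN : No = Ne + 1)
    (hq : q ≠ 1) (hq' : q ≠ -1)
    (hcard : Nat.card (principalBlock M C) ≤ Ne + No + 5) :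
    K.zX hz = q - 1 ∧ K.zP hz = q := by
  classical
  have hz' : orderOf zC = 2 := by rw [← Subgroup.orderOf_coe, hzC, hz]
  have hc : ∀ g : C, g * zC = zC * g := fun g => by
    refine Subtype.ext ?_
    have hg : (g : G) ∈ Subgroup.centralizer ({z} : Set G) := hC ▸ g.2
    simp only [Subgroup.coe_mul, hzC]
    exact Subgroup.mem_centralizer_singleton_iff.1 hg
  obtain ⟨-, hX, hP⟩ := K'.values_central hz' hc hq hq'
  have h1 := sum_normSq_section_principal hM (x := z) ⟨1, by rw [hz, pow_one]⟩ hC (y := (1 : C))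
    (by simp)
  rw [OneMemClass.coe_one, mul_one, K.blockPair_z hz] at h1
  have h2 : blockPair (principalBlock M C) (1 : C) 1 =
      (((∑ χ ∈ univ.filter (· ∈ principalBlock M C), K'.zi hz' χ ^ 2 : ℤ)) : ℂ) := by
    rw [← K'.blockPair_z hz']
    unfold blockPair
    refine sum_congr rfl fun χ _ => ?_
    have h := irr_sum_conj_mul χ zC zC
    have hj : ∀ j : C, j⁻¹ * zC * j * zC = 1 := fun j => by
      rw [mul_assoc j⁻¹, ← hc, ← mul_assoc, inv_mul_cancel, one_mul, ← pow_two, ← hz',
        pow_orderOf_eq_one]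
    simp only [hj, sum_const, card_univ, nsmul_eq_mul, ← Nat.card_eq_fintype_card] at h
    rw [eq_div_iff (irr_one_ne_zero χ), mul_assoc, mul_assoc] at h
    have h2 := mul_left_cancel₀ (Nat.cast_ne_zero.2 (Nat.card_pos (α := C)).ne') h
    rw [← K'.zi_cast hz', ← deg_cast] at h2 ⊢
    rw [map_intCast, map_intCast]
    exact h2
  rw [h2, Int.cast_inj] at h1
  refine quad_le hN ((K.quad_le_sum hz).trans ?_)
  rw [h1, K'.sum_eq_quad hz' hcard, hX, hP]

end Cfsg.Agent.SDPack
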