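import Cfsg.Agent.Lib.SDPack.Ctx
import Cfsg.Agent.Lib.SDPack.Values
import Cfsg.Agent.Lib.Char.GlaubermanMod
import Cfsg.Agent.Lib.BrauerPairs.Principal
import Cfsg.Agent.S4529

/-!
The members of the principal block with their values at the involution.
-/

set_option autoImplicit false
set_option linter.style.haveILetI false
set_option linter.unusedSectionVars false
set_option linter.unusedFintypeInType false

namespace Cfsg.Agent.SDPack

open Cfsg Finset
open scoped Classical

universe u

namespace Ctx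

variable {G : Type u} [Group G] [Fintype G] (K : Ctx G)

theorem R_qd : Cfsg.IsQuasiDihedral (K.R : Subgroup K.C) := by
  haveI : Fact (Nat.Prime 2) := ⟨Nat.prime_two⟩
  let R' : Subgroup G := (K.R : Subgroup K.C).map K.C.subtype
  have hR'c : Nat.card R' = 2 ^ (Nat.card G).factorization 2 := by
    rw [Subgroup.card_map_of_injective K.C.subtype_injective]
    exact K.hR.trans K.S.card_eq_multiplicity
  let eR : (K.R : Subgroup K.C) ≃* (K.S : Subgroup G) :=
    ((K.R : Subgroup K.C).equivMapOfInjective K.C.subtype K.C.subtype_injective).trans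
      ((Sylow.ofCard R' hR'c).equiv K.S)
  exact S1213.qd_transport eR.symm K.hS

theorem card_block {M : Ideal AlgInt} [M.IsPrime] (hM : IsPModular 2 M) :
    Nat.card (principalBlock M K.C) ≤ (K.D.hN - 1) + K.D.hN + 5 := by
  haveI : Fact (Nat.Prime 2) := ⟨Nat.prime_two⟩
  obtain ⟨k, hk, he⟩ := K.D.hh
  have hc : Nat.card (K.R : Subgroup K.C) = 2 ^ (k + 2) := by
    rw [show Nat.card (K.R : Subgroup K.C) = Nat.card K.S from K.hR, K.hcardS, he, pow_add]
    ring
  have hD : IsDefectGroup 2 M (principalBlock M K.C) (K.R : Subgroup K.C) :=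
    (BrauerPairs.isDefectGroup_principal_iff hM _).2 ⟨K.R, rfl⟩
  have h := (S4529.result M hM _ (Blocks.isPBlock_principalBlock M K.C) _ hD (k + 2) (by omega) hc
    K.R_qd).1
  rw [show k + 2 - 2 = k by omega, ← he] at h
  have := K.D.hN_eq
  omega

/-- The members with their values at the involution. -/
theorem exists_data : ∃ (M : Ideal AlgInt) (_ : M.IsPrime) (_ : IsPModular 2 M)
    (E : Mems K.fam M), E.zX K.hz2 = K.D.q - 1 ∧ E.zP K.hz2 = K.D.q := by
  haveI : Fact (Nat.Prime 2) := ⟨Nat.prime_two⟩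
  obtain ⟨M, hM⟩ := GlaubermanMod.exists_isPModular 2
  haveI : M.IsPrime := Blocks.IsPModular.isPrime hM
  obtain ⟨E⟩ := K.fam.exists_mems hM
  obtain ⟨E'⟩ := K.famC.exists_mems hM
  have hN := K.D.hN_eq
  exact ⟨M, inferInstance, hM, E, values hM K.hz2 rfl (zC := K.zC) rfl E E' (by omega)
    K.D.q_ne.1 K.D.q_ne.2 (K.card_block hM)⟩

end Ctx

end Cfsg.Agent.SDPack
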