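import Cfsg.Agent.Lib.SDPack.Funcs

/-!
The system of exceptional functions on `H`.
-/

set_option autoImplicit false
set_option linter.style.haveILetI false
set_option linter.unusedSectionVars false
set_option linter.unusedFintypeInType false

namespace Cfsg.Agent.SDPack

open Cfsg Cfsg.Agent.Char Finset
open scoped ComplexConjugate Classical

universe u

namespace Model

variable {H : Type u} [Group H] [Fintype H] {p : ℕ} (D : Model H p)

theorem kf_inner' {m n : ℤ} (h1 : -(2 * (D.h : ℤ)) < m - n) (h2 : m - n < 2 * (D.h : ℤ)) :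
    classInner (D.kf m) (D.kf n) = if m = n then 1 else 0 := by
  rw [D.kf_inner]
  by_cases h : m = n
  · rw [if_pos h, if_pos]; simp [h]
  · rw [if_neg h, if_neg]
    intro hd
    exact h (sub_eq_zero.1 (Int.eq_zero_of_abs_lt_dvd hd (abs_lt.2 ⟨h1, h2⟩)))

/-- The number of functions of the second kind. -/
def hN : ℕ := D.h / 2

theorem hN_eq : D.h = 2 * D.hN ∧ 2 ≤ D.hN ∧ 2 ∣ D.hN := by
  have := D.h_four
  have h2 := D.h_even
  unfold hN
  omega

/-- The exponent of a function of the first kind. -/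
def eγ (i : Fin (D.hN - 1)) : ℤ := 2 * ((i : ℤ) + 1)

/-- The exponent of a function of the second kind. -/
def ef (o : Fin D.hN) : ℤ := 2 * (o : ℤ) + 1 - (D.hN : ℤ)

theorem eγ_bd (i : Fin (D.hN - 1)) : 2 ≤ D.eγ i ∧ D.eγ i + 2 ≤ (D.h : ℤ) ∧ 2 ∣ D.eγ i := by
  have := D.hN_eq
  have := i.2
  refine ⟨?_, ?_, ⟨_, rfl⟩⟩ <;> unfold eγ <;> omega

theorem ef_bd (o : Fin D.hN) : 2 * (D.ef o) + 2 ≤ (D.h : ℤ) ∧ -(D.h : ℤ) + 2 ≤ 2 * D.ef o ∧
    Odd (D.ef o) := by
  have h := D.hN_eq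
  have := o.2
  refine ⟨by unfold ef; omega, by unfold ef; omega, ?_⟩
  obtain ⟨k, hk⟩ := h.2.2
  exact ⟨(o : ℤ) - k, by unfold ef; omega⟩

theorem dT_even {a b : ℤ} (ha : 2 ∣ a) (hb : 2 ∣ b) : D.dT a b ⟨D.z, D.z_T⟩ = 0 := by
  rw [dT, Pi.sub_apply, D.kf_z_even ha, D.kf_z_even hb, sub_self]

theorem dT_f (o : Fin D.hN) : D.dT (D.ef o) 2 ⟨D.z, D.z_T⟩ = -2 := by
  rw [dT, Pi.sub_apply, D.kf_z_odd (D.ef_bd o).2.2, D.kf_z_even (dvd_refl 2)]
  norm_num

theorem h_int_even : 2 ∣ (D.h : ℤ) := by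
  have := D.hN_eq
  exact ⟨D.hN, by omega⟩

/-- The function of the first kind. -/
noncomputable def γH (i : Fin (D.hN - 1)) : H → ℂ := D.IT 0 (D.eγ i)

/-- The function of the second kind. -/
noncomputable def fH (o : Fin D.hN) : H → ℂ := D.Φ + D.IT (D.ef o) 2

/-- The function of the third kind. -/
noncomputable def φH : H → ℂ := D.IT 0 (D.h : ℤ)

theorem γγ (i j : Fin (D.hN - 1)) : classInner (D.γH i) (D.γH j) = if i = j then 3 else 2 := by
  have hi := D.eγ_bd i
  have hj := D.eγ_bd j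
  have := D.h_four
  rw [γH, γH, D.IT_IT (c' := -(0 : ℤ)) (d' := -D.eγ j) (fun t => D.kf_u_even (dvd_zero 2) t)
    (fun t => D.kf_u_even hj.2.2 t), D.dT_even (dvd_zero 2) hi.2.2, zero_mul, mul_zero, add_zero,
    neg_zero]
  simp only [dT, classInner_sub_left, classInner_sub_right, classInner_add_right]
  rw [D.kf_inner' (m := 0) (n := 0) (by omega) (by omega),
    D.kf_inner' (m := 0) (n := D.eγ j) (by omega) (by omega),
    D.kf_inner' (m := 0) (n := -D.eγ j) (by omega) (by omega),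
    D.kf_inner' (m := D.eγ i) (n := 0) (by omega) (by omega),
    D.kf_inner' (m := D.eγ i) (n := D.eγ j) (by omega) (by omega),
    D.kf_inner' (m := D.eγ i) (n := -D.eγ j) (by omega) (by omega),
    if_pos rfl, if_neg (show (0 : ℤ) ≠ D.eγ j by omega), if_neg (show (0 : ℤ) ≠ -D.eγ j by omega),
    if_neg (show D.eγ i ≠ 0 by omega), if_neg (show D.eγ i ≠ -D.eγ j by omega)]
  by_cases e : i = j
  · rw [if_pos e, if_pos (by rw [e])]; ring
  · rw [if_neg e, if_neg (fun h => e (Fin.ext (by unfold eγ at h; omega)))]; ring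

theorem γφ (i : Fin (D.hN - 1)) : classInner (D.γH i) D.φH = 2 := by
  have hi := D.eγ_bd i
  have := D.h_four
  rw [γH, φH, D.IT_IT (c' := -(0 : ℤ)) (d' := -(D.h : ℤ)) (fun t => D.kf_u_even (dvd_zero 2) t)
    (fun t => D.kf_u_even D.h_int_even t), D.dT_even (dvd_zero 2) hi.2.2, zero_mul, mul_zero, add_zero,
    neg_zero]
  simp only [dT, classInner_sub_left, classInner_sub_right, classInner_add_right]
  rw [D.kf_inner' (m := 0) (n := 0) (by omega) (by omega),
    D.kf_inner' (m := 0) (n := (D.h : ℤ)) (by omega) (by omega),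
    D.kf_inner' (m := 0) (n := -(D.h : ℤ)) (by omega) (by omega),
    D.kf_inner' (m := D.eγ i) (n := 0) (by omega) (by omega),
    D.kf_inner' (m := D.eγ i) (n := (D.h : ℤ)) (by omega) (by omega),
    D.kf_inner' (m := D.eγ i) (n := -(D.h : ℤ)) (by omega) (by omega),
    if_pos rfl, if_neg (show (0 : ℤ) ≠ (D.h : ℤ) by omega),
    if_neg (show (0 : ℤ) ≠ -(D.h : ℤ) by omega), if_neg (show D.eγ i ≠ 0 by omega),
    if_neg (show D.eγ i ≠ (D.h : ℤ) by omega), if_neg (show D.eγ i ≠ -(D.h : ℤ) by omega)]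
  ring

theorem φφ : classInner D.φH D.φH = 4 := by
  have := D.h_four
  rw [φH, D.IT_IT (c' := -(0 : ℤ)) (d' := (D.h : ℤ)) (fun t => D.kf_u_even (dvd_zero 2) t)
    (fun t => (D.kf_u_even D.h_int_even t).trans
      (congrFun (D.kf_mod ⟨-1, by ring⟩) t)),
    D.dT_even (dvd_zero 2) D.h_int_even, zero_mul, mul_zero, add_zero, neg_zero]
  simp only [dT, classInner_sub_left, classInner_sub_right, classInner_add_right]
  rw [D.kf_inner' (m := 0) (n := 0) (by omega) (by omega),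
    D.kf_inner' (m := 0) (n := (D.h : ℤ)) (by omega) (by omega),
    D.kf_inner' (m := (D.h : ℤ)) (n := 0) (by omega) (by omega),
    D.kf_inner' (m := (D.h : ℤ)) (n := (D.h : ℤ)) (by omega) (by omega),
    if_pos rfl, if_neg (show (0 : ℤ) ≠ (D.h : ℤ) by omega),
    if_neg (show (D.h : ℤ) ≠ 0 by omega), if_pos rfl]
  ring

theorem Φ_ITf (o : Fin D.hN) : classInner D.Φ (D.IT (D.ef o) 2) = ((-2 * D.cm : ℤ) : ℂ) := by
  rw [D.Φ_IT, D.dT_f]
  simp only [map_neg, map_ofNat]
  push_cast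
  ring

theorem ff (a b : Fin D.hN) : classInner (D.fH a) (D.fH b) = if a = b then 2 else 1 := by
  have ha := D.ef_bd a
  have hb := D.ef_bd b
  have := D.h_four
  rw [fH, fH, classInner_add_left, classInner_add_right, classInner_add_right, D.Φ_Φ, D.Φ_ITf,
    classInner_comm_int (D.Φ_ITf a),
    D.IT_IT (c' := (D.h : ℤ) - D.ef b) (d' := -2) (fun t => D.kf_u_odd hb.2.2 t)
      (fun t => D.kf_u_even (dvd_refl 2) t), D.dT_f, D.dT_f]
  simp only [dT, classInner_sub_left, classInner_sub_right, classInner_add_right]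
  rw [D.kf_inner' (m := D.ef a) (n := D.ef b) (by omega) (by omega),
    D.kf_inner' (m := D.ef a) (n := (D.h : ℤ) - D.ef b) (by omega) (by omega),
    D.kf_inner' (m := D.ef a) (n := 2) (by omega) (by omega),
    D.kf_inner' (m := D.ef a) (n := -2) (by omega) (by omega),
    D.kf_inner' (m := 2) (n := D.ef b) (by omega) (by omega),
    D.kf_inner' (m := 2) (n := (D.h : ℤ) - D.ef b) (by omega) (by omega),
    D.kf_inner' (m := 2) (n := 2) (by omega) (by omega),
    D.kf_inner' (m := 2) (n := -2) (by omega) (by omega)]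
  obtain ⟨ka, hka⟩ := ha.2.2
  obtain ⟨kb, hkb⟩ := hb.2.2
  obtain ⟨kh, hkh⟩ := D.h_int_even
  rw [if_neg (show D.ef a ≠ (D.h : ℤ) - D.ef b by
      have := D.hN_eq; have := a.2; have := b.2; unfold ef; omega),
    if_neg (show D.ef a ≠ 2 by omega),
    if_neg (show D.ef a ≠ -2 by omega), if_neg (show (2 : ℤ) ≠ D.ef b by omega),
    if_neg (show (2 : ℤ) ≠ (D.h : ℤ) - D.ef b by omega), if_pos rfl,
    if_neg (show (2 : ℤ) ≠ -2 by omega)]
  simp only [map_neg, map_sub, map_mul, Complex.conj_natCast, map_ofNat]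
  have hc : (D.cp : ℂ) ≠ 0 := Nat.cast_ne_zero.2 D.cp_pos.ne'
  have hsum : (D.cp : ℂ) + D.cm = 2 * p := by exact_mod_cast D.cp_add_cm
  have hprod : (D.cp : ℂ) * D.cm = (p : ℂ) * p - 1 := by
    have h1 := D.cp_mul
    have h2 := D.cm_mul
    linear_combination (1/2 : ℂ) * h1 - (1/2 : ℂ) * h2 + (p/2 : ℂ) * hsum
  by_cases e : a = b
  · rw [if_pos e, if_pos (by rw [e])]
    push_cast
    field_simp
    linear_combination (2 * (p : ℂ)) * hsum - 4 * hprod
  · rw [if_neg e, if_neg (fun h => e (Fin.ext (by unfold ef at h; omega)))]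
    push_cast
    field_simp
    linear_combination (2 * (p : ℂ)) * hsum - 4 * hprod

theorem fγ (o : Fin D.hN) (i : Fin (D.hN - 1)) :
    classInner (D.fH o) (D.γH i) = if (i : ℕ) = 0 then 1 else 0 := by
  have hi := D.eγ_bd i
  have ho := D.ef_bd o
  obtain ⟨ka, hka⟩ := ho.2.2
  obtain ⟨kb, hkb⟩ := hi.2.2
  have := D.h_four
  rw [fH, γH, classInner_add_left, D.Φ_IT, D.dT_even (dvd_zero 2) hi.2.2, map_zero, mul_zero, zero_add,
    D.IT_IT (c' := -(0 : ℤ)) (d' := -D.eγ i) (fun t => D.kf_u_even (dvd_zero 2) t)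
    (fun t => D.kf_u_even hi.2.2 t), D.dT_even (dvd_zero 2) hi.2.2, mul_zero, map_zero, mul_zero,
    mul_zero, add_zero, neg_zero]
  simp only [dT, classInner_sub_left, classInner_sub_right, classInner_add_right]
  rw [D.kf_inner' (m := D.ef o) (n := 0) (by omega) (by omega),
    D.kf_inner' (m := D.ef o) (n := D.eγ i) (by omega) (by omega),
    D.kf_inner' (m := D.ef o) (n := -D.eγ i) (by omega) (by omega),
    D.kf_inner' (m := 2) (n := 0) (by omega) (by omega),
    D.kf_inner' (m := 2) (n := D.eγ i) (by omega) (by omega),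
    D.kf_inner' (m := 2) (n := -D.eγ i) (by omega) (by omega),
    if_neg (show D.ef o ≠ 0 by omega), if_neg (show D.ef o ≠ D.eγ i by omega),
    if_neg (show D.ef o ≠ -D.eγ i by omega), if_neg (show (2 : ℤ) ≠ 0 by omega),
    if_neg (show (2 : ℤ) ≠ -D.eγ i by omega)]
  by_cases e : (i : ℕ) = 0
  · rw [if_pos e, if_pos (by unfold eγ; omega)]; ring
  · rw [if_neg e, if_neg (by unfold eγ; omega)]; ring

theorem fφ (o : Fin D.hN) : classInner (D.fH o) D.φH = 0 := by
  have ho := D.ef_bd o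
  obtain ⟨ka, hka⟩ := ho.2.2
  obtain ⟨kh, hkh⟩ := D.h_int_even
  have := D.h_four
  rw [fH, φH, classInner_add_left, D.Φ_IT, D.dT_even (dvd_zero 2) D.h_int_even, map_zero, mul_zero,
    zero_add, D.IT_IT (c' := -(0 : ℤ)) (d' := -(D.h : ℤ)) (fun t => D.kf_u_even (dvd_zero 2) t)
    (fun t => D.kf_u_even D.h_int_even t), D.dT_even (dvd_zero 2) D.h_int_even, mul_zero, map_zero,
    mul_zero, mul_zero, add_zero, neg_zero]
  simp only [dT, classInner_sub_left, classInner_sub_right, classInner_add_right]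
  rw [D.kf_inner' (m := D.ef o) (n := 0) (by omega) (by omega),
    D.kf_inner' (m := D.ef o) (n := (D.h : ℤ)) (by omega) (by omega),
    D.kf_inner' (m := D.ef o) (n := -(D.h : ℤ)) (by omega) (by omega),
    D.kf_inner' (m := 2) (n := 0) (by omega) (by omega),
    D.kf_inner' (m := 2) (n := (D.h : ℤ)) (by omega) (by omega),
    D.kf_inner' (m := 2) (n := -(D.h : ℤ)) (by omega) (by omega),
    if_neg (show D.ef o ≠ 0 by omega), if_neg (show D.ef o ≠ (D.h : ℤ) by omega),
    if_neg (show D.ef o ≠ -(D.h : ℤ) by omega), if_neg (show (2 : ℤ) ≠ 0 by omega),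
    if_neg (show (2 : ℤ) ≠ (D.h : ℤ) by omega), if_neg (show (2 : ℤ) ≠ -(D.h : ℤ) by omega)]
  ring

theorem γ_const (i : Fin (D.hN - 1)) : classInner (D.γH i) (fun _ => 1) = 1 := by
  have hi := D.eγ_bd i
  have := D.h_four
  rw [γH, D.IT_const, dT, classInner_sub_left, D.kf_inner' (m := 0) (n := 0) (by omega) (by omega),
    D.kf_inner' (m := D.eγ i) (n := 0) (by omega) (by omega), if_pos rfl,
    if_neg (show D.eγ i ≠ 0 by omega), sub_zero]

theorem φ_const : classInner D.φH (fun _ => 1) = 1 := by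
  have := D.h_four
  rw [φH, D.IT_const, dT, classInner_sub_left, D.kf_inner' (m := 0) (n := 0) (by omega) (by omega),
    D.kf_inner' (m := (D.h : ℤ)) (n := 0) (by omega) (by omega), if_pos rfl,
    if_neg (show (D.h : ℤ) ≠ 0 by omega), sub_zero]

theorem f_const (o : Fin D.hN) : classInner (D.fH o) (fun _ => 1) = 0 := by
  have ho := D.ef_bd o
  obtain ⟨ka, hka⟩ := ho.2.2
  have := D.h_four
  rw [fH, classInner_add_left, D.Φ_const, D.IT_const, dT, classInner_sub_left,
    D.kf_inner' (m := D.ef o) (n := 0) (by omega) (by omega),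
    D.kf_inner' (m := 2) (n := 0) (by omega) (by omega), if_neg (show D.ef o ≠ 0 by omega),
    if_neg (show (2 : ℤ) ≠ 0 by omega), sub_zero, zero_add]

theorem αγ (i : Fin (D.hN - 1)) : classInner D.αf (D.γH i) = 1 := by
  have hi := D.eγ_bd i
  have := D.h_four
  refine (classInner_comm_int (n := 1) ?_).trans Int.cast_one
  rw [γH, D.IT_αf, D.dT_even (dvd_zero 2) hi.2.2, zero_mul, mul_zero, add_zero, dT]
  simp only [classInner_sub_left, classInner_sub_right]
  rw [D.kf_inner' (m := 0) (n := 0) (by omega) (by omega),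
    D.kf_inner' (m := 0) (n := (D.h : ℤ)) (by omega) (by omega),
    D.kf_inner' (m := D.eγ i) (n := 0) (by omega) (by omega),
    D.kf_inner' (m := D.eγ i) (n := (D.h : ℤ)) (by omega) (by omega), if_pos rfl,
    if_neg (show (0 : ℤ) ≠ (D.h : ℤ) by omega), if_neg (show D.eγ i ≠ 0 by omega),
    if_neg (show D.eγ i ≠ (D.h : ℤ) by omega)]
  simp

theorem αφ : classInner D.αf D.φH = 2 := by
  have := D.h_four
  refine (classInner_comm_int (n := 2) ?_).trans (by norm_num)
  rw [φH, D.IT_αf, D.dT_even (dvd_zero 2) D.h_int_even, zero_mul, mul_zero, add_zero, dT]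
  simp only [classInner_sub_left, classInner_sub_right]
  rw [D.kf_inner' (m := 0) (n := 0) (by omega) (by omega),
    D.kf_inner' (m := 0) (n := (D.h : ℤ)) (by omega) (by omega),
    D.kf_inner' (m := (D.h : ℤ)) (n := 0) (by omega) (by omega),
    D.kf_inner' (m := (D.h : ℤ)) (n := (D.h : ℤ)) (by omega) (by omega), if_pos rfl,
    if_neg (show (0 : ℤ) ≠ (D.h : ℤ) by omega), if_neg (show (D.h : ℤ) ≠ 0 by omega), if_pos rfl]
  norm_num

theorem Φ_αf : classInner D.Φ D.αf = 2 * (D.cp : ℂ) - 2 * p := by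
  have h := classInner_comm_int (n := (2 * D.cp : ℤ)) (a := D.Ψ) (b := D.Φ)
    (by rw [D.Ψ_Φ]; push_cast; ring)
  rw [αf, classInner_sub_right, classInner_add_right, classInner_sub_right, D.Φ_const, D.Φ_εf,
    D.Φ_Φ, h]
  push_cast
  ring

theorem αf_f (o : Fin D.hN) : classInner D.αf (D.fH o) = 0 := by
  have ho := D.ef_bd o
  obtain ⟨ka, hka⟩ := ho.2.2
  obtain ⟨kh, hkh⟩ := D.h_int_even
  have := D.h_four
  refine (classInner_comm_int (n := 0) ?_).trans Int.cast_zero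
  rw [fH, classInner_add_left, D.Φ_αf, D.IT_αf, D.dT_f, dT]
  simp only [classInner_sub_left, classInner_sub_right]
  rw [D.kf_inner' (m := D.ef o) (n := 0) (by omega) (by omega),
    D.kf_inner' (m := D.ef o) (n := (D.h : ℤ)) (by omega) (by omega),
    D.kf_inner' (m := 2) (n := 0) (by omega) (by omega),
    D.kf_inner' (m := 2) (n := (D.h : ℤ)) (by omega) (by omega),
    if_neg (show D.ef o ≠ 0 by omega), if_neg (show D.ef o ≠ (D.h : ℤ) by omega),
    if_neg (show (2 : ℤ) ≠ 0 by omega), if_neg (show (2 : ℤ) ≠ (D.h : ℤ) by omega)]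
  have hc : (D.cp : ℂ) ≠ 0 := Nat.cast_ne_zero.2 D.cp_pos.ne'
  have hsum : (D.cp : ℂ) + D.cm = 2 * p := by exact_mod_cast D.cp_add_cm
  have h2 := D.cm_mul
  push_cast
  field_simp
  linear_combination (2 * (D.cp : ℂ)) * hsum + 2 * h2

theorem fH_z (o : Fin D.hN) : D.fH o D.z = 2 * (D.q : ℂ) - 2 := by
  rw [fH, Pi.add_apply, D.Φ_z, D.IT_z, D.dT_f]
  linear_combination 2 * D.cp_mul

/-- The system of exceptional functions on `H`. -/
noncomputable def fam : Fam H D.z D.q (D.hN - 1) D.hN where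
  γ := D.γH
  f := D.fH
  φ := D.φH
  α := D.αf
  e0 := ⟨0, by have := D.hN_eq; omega⟩
  hNe := by have := D.hN_eq; omega
  hNo := D.hN_eq.2.1
  gγ _ := D.IT_gen _ _
  gf _ := IsGeneralizedCharacter.add D.Φ_gen (D.IT_gen _ _)
  gφ := D.IT_gen _ _
  gα := D.αf_gen
  γγ := D.γγ
  γφ := D.γφ
  φφ := D.φφ
  ff := D.ff
  fγ a b := by
    rw [D.fγ]
    exact if_congr ⟨fun h => Fin.ext h, fun h => by rw [h]⟩ rfl rfl
  fφ := D.fφ
  αα := D.αf_αf
  αγ := D.αγ
  αφ := D.αφ
  αf := D.αf_f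
  γ1 := D.γ_const
  f1 := D.f_const
  φ1 := D.φ_const
  α1 := D.αf_const
  γodd _ _ hg := D.IT_off fun h => hg (D.even_of_z_mem h)
  fodd _ g hg := by
    show D.Φ g + D.IT _ _ g = 0
    rw [D.Φ_off fun h => hg (D.even_of_z_mem h), D.IT_off fun h => hg (D.even_of_z_mem h),
      add_zero]
  φodd _ hg := D.IT_off fun h => hg (D.even_of_z_mem h)
  αodd _ hg := D.αf_off fun h => hg (D.even_of_z_mem h)
  γz i := by
    rw [γH, D.IT_z, D.dT_even (dvd_zero 2) (D.eγ_bd i).2.2, mul_zero]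
  fz := D.fH_z
  φz := by rw [φH, D.IT_z, D.dT_even (dvd_zero 2) D.h_int_even, mul_zero]
  αz := D.αf_z

theorem fam_off {g : H} (hg : D.z ∉ Subgroup.zpowers g) :
    (∀ a, D.fam.γ a g = 0) ∧ (∀ a, D.fam.f a g = 0) ∧ D.fam.φ g = 0 ∧ D.fam.α g = 0 := by
  refine ⟨fun _ => D.IT_off hg, fun a => ?_, D.IT_off hg, D.αf_off hg⟩
  show D.Φ g + D.IT _ _ g = 0
  rw [D.Φ_off hg, D.IT_off hg, add_zero]

end Model

end Cfsg.Agent.SDPack
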