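import Cfsg.Agent.Lib.SDPack.Members
import Cfsg.Agent.Lib.Char.RelGlaubermanBase

/-!
Inflation and induction of a system of exceptional functions.
-/

set_option autoImplicit false
set_option linter.style.haveILetI false
set_option linter.unusedSectionVars false
set_option linter.unusedFintypeInType false

namespace Cfsg.Agent.SDPack

open Cfsg Cfsg.Agent.Char Finset
open scoped ComplexConjugate Classical

universe u v

/-- The system vanishes at the elements whose powers miss `z`. -/
def Fam.Off {G : Type u} [Group G] [Fintype G] {z : G} {q : ℤ} {Ne No : ℕ}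
    (F : Fam G z q Ne No) : Prop :=
  ∀ g, z ∉ Subgroup.zpowers g →
    (∀ a, F.γ a g = 0) ∧ (∀ a, F.f a g = 0) ∧ F.φ g = 0 ∧ F.α g = 0

section invol

variable {G : Type u} [Group G]

/-- A cyclic subgroup contains only one involution. -/
theorem cyclic_invol_unique [Finite G] {g s t : G} (hs : s ∈ Subgroup.zpowers g)
    (ht : t ∈ Subgroup.zpowers g) (hs2 : orderOf s = 2) (ht2 : orderOf t = 2) : s = t := by
  haveI : Fintype (Subgroup.zpowers g) := Fintype.ofFinite _
  have hle := IsCyclic.card_pow_eq_one_le (α := Subgroup.zpowers g) (n := 2) two_pos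
  by_contra hne
  have h3 : ({1, ⟨s, hs⟩, ⟨t, ht⟩} : Finset (Subgroup.zpowers g)) ⊆
      univ.filter fun a => a ^ 2 = 1 := by
    intro a ha
    simp only [mem_insert, mem_singleton] at ha
    refine mem_filter.2 ⟨mem_univ _, ?_⟩
    rcases ha with rfl | rfl | rfl
    · exact one_pow 2
    · exact Subtype.ext (by rw [Subgroup.coe_pow, ← hs2]; exact pow_orderOf_eq_one s)
    · exact Subtype.ext (by rw [Subgroup.coe_pow, ← ht2]; exact pow_orderOf_eq_one t)
  have h := (card_le_card h3).trans hle
  rw [card_insert_of_notMem, card_insert_of_notMem, card_singleton] at h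
  · omega
  · simp only [mem_singleton]
    exact fun e => hne (congrArg Subtype.val e)
  · simp only [mem_insert, mem_singleton]
    rintro (e | e) <;> have e' := congrArg Subtype.val e
    · simp only [OneMemClass.coe_one] at e'
      rw [← e', orderOf_one] at hs2; omega
    · simp only [OneMemClass.coe_one] at e'
      rw [← e', orderOf_one] at ht2; omega

/-- Lifting the involution of a cyclic group through a map with odd kernel. -/
theorem mem_zpowers_lift [Finite G] {H : Type v} [Group H] [Finite H] (π : G →* H) {z : G}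
    (hz2 : orderOf z = 2) (hzc : ∀ g, g * z = z * g) (hπz : π z ≠ 1) (hker : ¬ 2 ∣ Nat.card π.ker)
    {g : G} (h : π z ∈ Subgroup.zpowers (π g)) : z ∈ Subgroup.zpowers g := by
  have hw2 : orderOf (π z) = 2 :=
    orderOf_eq_prime (by rw [← map_pow, ← hz2, pow_orderOf_eq_one, map_one]) hπz
  have hev : 2 ∣ orderOf g := by
    have h1 := orderOf_dvd_of_mem_zpowers h
    rw [hw2] at h1
    exact h1.trans (orderOf_map_dvd π g)
  set j := g ^ (orderOf g / 2) with hj
  have hj2 : orderOf j = 2 := orderOf_pow_orderOf_div (orderOf_pos g).ne' hev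
  have hπj : π j ≠ 1 := by
    intro e
    have h1 : orderOf (⟨j, MonoidHom.mem_ker.2 e⟩ : π.ker) ∣ Nat.card π.ker := orderOf_dvd_natCard _
    rw [← Subgroup.orderOf_coe] at h1
    exact hker (hj2 ▸ h1)
  have hπj2 : orderOf (π j) = 2 :=
    orderOf_eq_prime (by rw [← map_pow, ← hj2, pow_orderOf_eq_one, map_one]) hπj
  have e := cyclic_invol_unique (g := π g) h
    (by rw [hj, map_pow]; exact Subgroup.pow_mem _ (Subgroup.mem_zpowers _) _) hw2 hπj2
  have hk : j * z ∈ π.ker := by
    rw [MonoidHom.mem_ker, map_mul, ← e, ← pow_two, ← hw2, pow_orderOf_eq_one]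
  have hsq : (j * z) ^ 2 = 1 := by
    rw [(show Commute j z from hzc j).mul_pow]
    have h1 := pow_orderOf_eq_one z
    have h2 := pow_orderOf_eq_one j
    rw [hz2] at h1
    rw [hj2] at h2
    rw [h1, h2, mul_one]
  have h1 : orderOf (⟨j * z, hk⟩ : π.ker) ∣ Nat.card π.ker := orderOf_dvd_natCard _
  rw [← Subgroup.orderOf_coe] at h1
  have hjz : j * z = 1 := by
    rcases (Nat.dvd_prime Nat.prime_two).1 (orderOf_dvd_of_pow_eq_one hsq) with e1 | e1
    · exact orderOf_eq_one_iff.1 e1
    · exact absurd (e1 ▸ h1) hker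
  have hzz : z * z = 1 := by
    have h1 := pow_orderOf_eq_one z
    rwa [hz2, pow_two] at h1
  have : z = j := (mul_right_cancel (b := z) (hjz.trans hzz.symm)).symm
  rw [this]
  exact Subgroup.pow_mem _ (Subgroup.mem_zpowers g) _

end invol

section comap

variable {H : Type v} [Group H] [Fintype H] {z' : H} {q : ℤ} {Ne No : ℕ}
  (F : Fam H z' q Ne No) {G : Type u} [Group G] [Fintype G] (π : G →* H)

/-- The inflated system. -/
noncomputable def Fam.comap (hπ : Function.Surjective π) {z : G} (hz : π z = z') :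
    Fam G z q Ne No where
  γ a g := F.γ a (π g)
  f a g := F.f a (π g)
  φ g := F.φ (π g)
  α g := F.α (π g)
  e0 := F.e0
  hNe := F.hNe
  hNo := F.hNo
  gγ a := IsGeneralizedCharacter.comp (F.gγ a) π
  gf a := IsGeneralizedCharacter.comp (F.gf a) π
  gφ := IsGeneralizedCharacter.comp F.gφ π
  gα := IsGeneralizedCharacter.comp F.gα π
  γγ a b := (RelGlauberman.classInner_comp_surj π hπ _ _).trans (F.γγ a b)
  γφ a := (RelGlauberman.classInner_comp_surj π hπ _ _).trans (F.γφ a)
  φφ := (RelGlauberman.classInner_comp_surj π hπ _ _).trans F.φφ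
  ff a b := (RelGlauberman.classInner_comp_surj π hπ _ _).trans (F.ff a b)
  fγ a b := (RelGlauberman.classInner_comp_surj π hπ _ _).trans (F.fγ a b)
  fφ a := (RelGlauberman.classInner_comp_surj π hπ _ _).trans (F.fφ a)
  αα := (RelGlauberman.classInner_comp_surj π hπ _ _).trans F.αα
  αγ a := (RelGlauberman.classInner_comp_surj π hπ _ _).trans (F.αγ a)
  αφ := (RelGlauberman.classInner_comp_surj π hπ _ _).trans F.αφ
  αf a := (RelGlauberman.classInner_comp_surj π hπ _ _).trans (F.αf a)
  γ1 a := (RelGlauberman.classInner_comp_surj π hπ _ (fun _ => 1)).trans (F.γ1 a)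
  f1 a := (RelGlauberman.classInner_comp_surj π hπ _ (fun _ => 1)).trans (F.f1 a)
  φ1 := (RelGlauberman.classInner_comp_surj π hπ _ (fun _ => 1)).trans F.φ1
  α1 := (RelGlauberman.classInner_comp_surj π hπ _ (fun _ => 1)).trans F.α1
  γodd a g hg := F.γodd a _ fun h => hg (h.trans (orderOf_map_dvd π g))
  fodd a g hg := F.fodd a _ fun h => hg (h.trans (orderOf_map_dvd π g))
  φodd g hg := F.φodd _ fun h => hg (h.trans (orderOf_map_dvd π g))
  αodd g hg := F.αodd _ fun h => hg (h.trans (orderOf_map_dvd π g))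
  γz a := by rw [hz]; exact F.γz a
  fz a := by rw [hz]; exact F.fz a
  φz := by rw [hz]; exact F.φz
  αz := by rw [hz]; exact F.αz

theorem Fam.comap_off (hπ : Function.Surjective π) {z : G} (hz : π z = z') (hF : F.Off)
    (hz2 : orderOf z = 2) (hzc : ∀ g, g * z = z * g) (hπz : π z ≠ 1)
    (hker : ¬ 2 ∣ Nat.card π.ker) : (F.comap π hπ hz).Off := fun g hg =>
  hF (π g) fun h => hg (mem_zpowers_lift π hz2 hzc hπz hker (g := g) (hz ▸ h))

end comap

section induce

variable {G : Type u} [Group G] [Fintype G] {C : Subgroup G} [Fintype C] {z : G}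

/-- Induction from the centraliser of an involution agrees with the function where `z` is a
power. -/
theorem indFun_eq_self (hcent : C = Subgroup.centralizer ({z} : Set G)) (hzC : z ∈ C)
    (hz2 : orderOf z = 2) {f : C → ℂ} (hf : IsClassFunction C f)
    (hoff : ∀ c, (⟨z, hzC⟩ : C) ∉ Subgroup.zpowers c → f c = 0) {c : C}
    (hc : (⟨z, hzC⟩ : C) ∈ Subgroup.zpowers c) : indFun C f c = f c := by
  have hzc : z ∈ Subgroup.zpowers (c : G) := by
    obtain ⟨i, hi⟩ := hc
    exact ⟨i, congrArg Subtype.val hi⟩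
  have hterm : ∀ y : G, extendByZero C f (y⁻¹ * c * y) = if y ∈ C then f c else 0 := by
    intro y
    by_cases hy : y ∈ C
    · rw [if_pos hy, extendByZero_mem C f (mul_mem (mul_mem (inv_mem hy) c.2) hy)]
      have := hf c (⟨y, hy⟩⁻¹ : C)
      rw [inv_inv] at this
      exact this
    rw [if_neg hy]
    by_cases hm : y⁻¹ * c * y ∈ C
    · rw [extendByZero_mem C f hm]
      by_contra hne
      apply hy
      have h1 : (⟨z, hzC⟩ : C) ∈ Subgroup.zpowers (⟨y⁻¹ * c * y, hm⟩ : C) := by
        by_contra h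
        exact hne (hoff _ h)
      obtain ⟨i, hi⟩ := h1
      have hi' : (y⁻¹ * c * y) ^ i = z := congrArg Subtype.val hi
      have e : (y⁻¹ * (c : G) * y) ^ i = y⁻¹ * (c : G) ^ i * y := by
        have := conj_zpow (i := i) (a := y⁻¹) (b := (c : G))
        rwa [inv_inv] at this
      rw [e] at hi'
      have hyz : y * z * y⁻¹ = (c : G) ^ i := by rw [← hi']; group
      have h2 : orderOf (y * z * y⁻¹) = 2 := by
        rw [← hz2]
        exact orderOf_injective (MulAut.conj y).toMonoidHom (MulAut.conj y).injective z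
      have := cyclic_invol_unique (g := (c : G)) (by rw [hyz]; exact ⟨i, rfl⟩) hzc h2 hz2
      rw [hcent, Subgroup.mem_centralizer_singleton_iff]
      calc y * z = y * z * y⁻¹ * y := by group
        _ = z * y := by rw [this]
    · exact extendByZero_not_mem C f hm
  rw [indFun_apply, sum_congr rfl fun y _ => hterm y, sum_ite, sum_const_zero, add_zero, sum_const,
    nsmul_eq_mul, ← Fintype.card_subtype, ← mul_assoc, ← Nat.card_eq_fintype_card,
    inv_mul_cancel₀ (Nat.cast_ne_zero.2 Nat.card_pos.ne'), one_mul]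

/-- The isometry. -/
theorem indFun_inner (hcent : C = Subgroup.centralizer ({z} : Set G)) (hzC : z ∈ C)
    (hz2 : orderOf z = 2) {f g : C → ℂ} (hg : IsClassFunction C g)
    (hfoff : ∀ c, (⟨z, hzC⟩ : C) ∉ Subgroup.zpowers c → f c = 0)
    (hgoff : ∀ c, (⟨z, hzC⟩ : C) ∉ Subgroup.zpowers c → g c = 0) :
    classInner (indFun C f) (indFun C g) = classInner f g := by
  rw [classInner_indFun_left _ _ (isClassFunction_indFun _ _)]
  unfold classInner
  congr 1
  refine sum_congr rfl fun c _ => ?_
  by_cases hc : (⟨z, hzC⟩ : C) ∈ Subgroup.zpowers c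
  · simp only [indFun_eq_self hcent hzC hz2 hg hgoff hc]
  · rw [hfoff c hc, zero_mul, zero_mul]

theorem indFun_odd {f : C → ℂ} (hf : ∀ c : C, ¬ 2 ∣ orderOf c → f c = 0) {g : G}
    (hg : ¬ 2 ∣ orderOf g) : indFun C f g = 0 := by
  rw [indFun_apply, sum_eq_zero fun y _ => ?_, mul_zero]
  by_cases hy : y⁻¹ * g * y ∈ C
  · rw [extendByZero_mem C f hy]
    refine hf _ ?_
    rwa [← Subgroup.orderOf_coe, show orderOf (y⁻¹ * g * y) = orderOf g by
      have h := orderOf_injective (MulAut.conj y⁻¹).toMonoidHom (MulAut.conj y⁻¹).injective g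
      simpa using h]
  · exact extendByZero_not_mem C f hy

variable {q : ℤ} {Ne No : ℕ} (hzC : z ∈ C) (F : Fam C ⟨z, hzC⟩ q Ne No)

/-- The induced system. -/
noncomputable def Fam.induce (hF : F.Off) (hcent : C = Subgroup.centralizer ({z} : Set G))
    (hz2 : orderOf z = 2) : Fam G z q Ne No where
  γ a := indFun C (F.γ a)
  f a := indFun C (F.f a)
  φ := indFun C F.φ
  α := indFun C F.α
  e0 := F.e0
  hNe := F.hNe
  hNo := F.hNo
  gγ a := IsGeneralizedCharacter.indFun _ (F.gγ a)
  gf a := IsGeneralizedCharacter.indFun _ (F.gf a)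
  gφ := IsGeneralizedCharacter.indFun _ F.gφ
  gα := IsGeneralizedCharacter.indFun _ F.gα
  γγ a b := (indFun_inner hcent hzC hz2 (IsGeneralizedCharacter.isClassFunction (F.gγ b))
    (fun c h => (hF c h).1 a) (fun c h => (hF c h).1 b)).trans (F.γγ a b)
  γφ a := (indFun_inner hcent hzC hz2 (IsGeneralizedCharacter.isClassFunction F.gφ)
    (fun c h => (hF c h).1 a) (fun c h => (hF c h).2.2.1)).trans (F.γφ a)
  φφ := (indFun_inner hcent hzC hz2 (IsGeneralizedCharacter.isClassFunction F.gφ)
    (fun c h => (hF c h).2.2.1) (fun c h => (hF c h).2.2.1)).trans F.φφ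
  ff a b := (indFun_inner hcent hzC hz2 (IsGeneralizedCharacter.isClassFunction (F.gf b))
    (fun c h => (hF c h).2.1 a) (fun c h => (hF c h).2.1 b)).trans (F.ff a b)
  fγ a b := (indFun_inner hcent hzC hz2 (IsGeneralizedCharacter.isClassFunction (F.gγ b))
    (fun c h => (hF c h).2.1 a) (fun c h => (hF c h).1 b)).trans (F.fγ a b)
  fφ a := (indFun_inner hcent hzC hz2 (IsGeneralizedCharacter.isClassFunction F.gφ)
    (fun c h => (hF c h).2.1 a) (fun c h => (hF c h).2.2.1)).trans (F.fφ a)
  αα := (indFun_inner hcent hzC hz2 (IsGeneralizedCharacter.isClassFunction F.gα)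
    (fun c h => (hF c h).2.2.2) (fun c h => (hF c h).2.2.2)).trans F.αα
  αγ a := (indFun_inner hcent hzC hz2 (IsGeneralizedCharacter.isClassFunction (F.gγ a))
    (fun c h => (hF c h).2.2.2) (fun c h => (hF c h).1 a)).trans (F.αγ a)
  αφ := (indFun_inner hcent hzC hz2 (IsGeneralizedCharacter.isClassFunction F.gφ)
    (fun c h => (hF c h).2.2.2) (fun c h => (hF c h).2.2.1)).trans F.αφ
  αf a := (indFun_inner hcent hzC hz2 (IsGeneralizedCharacter.isClassFunction (F.gf a))
    (fun c h => (hF c h).2.2.2) (fun c h => (hF c h).2.1 a)).trans (F.αf a)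
  γ1 a := (classInner_indFun_left _ _ (fun _ _ => rfl)).trans (F.γ1 a)
  f1 a := (classInner_indFun_left _ _ (fun _ _ => rfl)).trans (F.f1 a)
  φ1 := (classInner_indFun_left _ _ (fun _ _ => rfl)).trans F.φ1
  α1 := (classInner_indFun_left _ _ (fun _ _ => rfl)).trans F.α1
  γodd a _ hg := indFun_odd (F.γodd a) hg
  fodd a _ hg := indFun_odd (F.fodd a) hg
  φodd _ hg := indFun_odd F.φodd hg
  αodd _ hg := indFun_odd F.αodd hg
  γz a := (indFun_eq_self hcent hzC hz2 (IsGeneralizedCharacter.isClassFunction (F.gγ a))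
    (fun c h => (hF c h).1 a) (c := ⟨z, hzC⟩) (Subgroup.mem_zpowers _)).trans (F.γz a)
  fz a := (indFun_eq_self hcent hzC hz2 (IsGeneralizedCharacter.isClassFunction (F.gf a))
    (fun c h => (hF c h).2.1 a) (c := ⟨z, hzC⟩) (Subgroup.mem_zpowers _)).trans (F.fz a)
  φz := (indFun_eq_self hcent hzC hz2 (IsGeneralizedCharacter.isClassFunction F.gφ)
    (fun c h => (hF c h).2.2.1) (c := ⟨z, hzC⟩) (Subgroup.mem_zpowers _)).trans F.φz
  αz := (indFun_eq_self hcent hzC hz2 (IsGeneralizedCharacter.isClassFunction F.gα)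
    (fun c h => (hF c h).2.2.2) (c := ⟨z, hzC⟩) (Subgroup.mem_zpowers _)).trans F.αz

end induce

end Cfsg.Agent.SDPack
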