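import Cfsg.Agent.Lib.SDPack.Setup
import Cfsg.Agent.Lib.SDPack.FamH
import Cfsg.Agent.Lib.SDPack.Lift

/-!
The context of the package and the system of exceptional functions on the whole group.
-/

set_option autoImplicit false
set_option linter.style.haveILetI false
set_option linter.unusedSectionVars false
set_option linter.unusedFintypeInType false

namespace Cfsg.Agent.SDPack

open Cfsg Finset
open scoped Classical

universe u v

theorem Model.central_invol {H : Type u} [Group H] [Finite H] {p : ℕ} (D : Model H p) {c : H}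
    (hc : ∀ g, g * c = c * g) (h2 : c * c = 1) (h1 : c ≠ 1) : c = D.z := by
  by_contra hz
  obtain ⟨g, hg⟩ := isConj_iff.1 (D.J_conj c h2 h1 hz)
  have hu : D.u = c := by
    calc D.u = g⁻¹ * (g * D.u * g⁻¹) * g := by group
      _ = g⁻¹ * (c * g) := by rw [hg, mul_assoc]
      _ = c := by rw [← hc, inv_mul_cancel_left]
  apply D.u_not_T
  rw [D.mem_T, hu]
  exact (hc D.a).symm

/-- The context: a simple group, a central involution of a semidihedral Sylow 2-subgroup and the
model of the centraliser modulo its odd core. -/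
structure Ctx (G : Type u) [Group G] [Finite G] where
  simple : IsSimpleGroup G
  ncomm : ¬ IsMulCommutative G
  cyc : OddCyclic G
  S : Sylow 2 G
  hS : Cfsg.IsQuasiDihedral (S : Subgroup G)
  z : G
  hz2 : orderOf z = 2
  oneClass : ∀ j : G, orderOf j = 2 → IsConj z j
  p : ℕ
  D : Model (CQ z) p
  hcardS : Nat.card S = 4 * D.h
  R : Sylow 2 ↥(Subgroup.centralizer ({z} : Set G))
  hR : Nat.card R = Nat.card S

theorem exists_ctx {G : Type u} [Group G] [Finite G] (hG : IsSimpleGroup G) (hcyc : OddCyclic G)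
    (S : Sylow 2 G) (hS : Cfsg.IsQuasiDihedral (S : Subgroup G)) : Nonempty (Ctx G) := by
  haveI := hG
  haveI : Fact (Nat.Prime 2) := ⟨Nat.prime_two⟩
  obtain ⟨d, -⟩ := QD.exists_pres hS
  have hd2 : 2 ∣ Nat.card G :=
    ((dvd_pow_self 2 (by omega : d.p + 4 ≠ 0)).trans (dvd_of_eq d.hcard.symm)).trans
      (Subgroup.card_subgroup_dvd_card (S : Subgroup G))
  obtain ⟨z, hz2⟩ := exists_prime_orderOf_dvd_card' 2 hd2
  have hnc := not_comm S hS
  obtain ⟨F, hF1, hF2, hFodd, ⟨e⟩⟩ := GW.centralizer_mod_core_sl_two GW.simpleDihedral S (Or.inl hS)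
    (CenNilp.index_ne_two hnc) z hz2
  obtain ⟨R, hR, -⟩ := S1213.result S (Or.inl hS) (CenNilp.index_ne_two hnc) z hz2
  set π := QuotientGroup.mk' (Cfsg.oddCore ↥(Subgroup.centralizer ({z} : Set G))) with hπ
  have hsurj : Function.Surjective π := QuotientGroup.mk'_surjective _
  have hQ : OddCyclic (CQ z) := hcyc.quotient π hsurj
  obtain ⟨p, hp, hp2, hFp, hchar⟩ := card_field_prime hFodd hQ
    ((commutator (CQ z)).subtype.comp e.symm.toMonoidHom)
    ((commutator (CQ z)).subtype_injective.comp e.symm.injective)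
  haveI : Fact p.Prime := ⟨hp⟩
  haveI := hchar
  have hodd : Odd (Nat.card (Cfsg.oddCore ↥(Subgroup.centralizer ({z} : Set G)))) :=
    Nat.coprime_two_right.1 (PBasic.pPrimeCore_coprime 2 _)
  have hinj : Function.Injective (π.subgroupMap (R : Subgroup ↥(Subgroup.centralizer ({z} : Set G)))) := by
    rw [injective_iff_map_eq_one]
    intro v hv
    have h1 := (QuotientGroup.eq_one_iff (v : ↥(Subgroup.centralizer ({z} : Set G)))).mp
      (congrArg Subtype.val hv)
    obtain ⟨k, hk⟩ := IsPGroup.iff_orderOf.mp R.2 v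
    have h2 := Subgroup.orderOf_dvd_natCard _ h1
    rw [Subgroup.orderOf_coe, hk] at h2
    refine orderOf_eq_one_iff.mp ?_
    rw [hk]
    exact Nat.eq_one_of_dvd_coprimes ((Nat.coprime_two_left.2 hodd).pow_left k) dvd_rfl h2
  let eP : (R : Subgroup ↥(Subgroup.centralizer ({z} : Set G))) ≃* (R.mapSurjective hsurj : Subgroup (CQ z)) :=
    MulEquiv.ofBijective (π.subgroupMap _) ⟨hinj, π.subgroupMap_surjective _⟩
  let R' : Subgroup G := (R : Subgroup ↥(Subgroup.centralizer ({z} : Set G))).map
    (Subgroup.centralizer ({z} : Set G)).subtype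
  have hR'c : Nat.card R' = 2 ^ (Nat.card G).factorization 2 := by
    rw [Subgroup.card_map_of_injective (Subgroup.centralizer ({z} : Set G)).subtype_injective]
    exact hR.trans S.card_eq_multiplicity
  let eR : (R : Subgroup ↥(Subgroup.centralizer ({z} : Set G))) ≃* (S : Subgroup G) :=
    ((R : Subgroup ↥(Subgroup.centralizer ({z} : Set G))).equivMapOfInjective
      (Subgroup.centralizer ({z} : Set G)).subtype
      (Subgroup.centralizer ({z} : Set G)).subtype_injective).trans
      ((Sylow.ofCard R' hR'c).equiv S)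
  have hQD := S1213.qd_transport (eR.symm.trans eP) hS
  let Y : Hyp (CQ z) p :=
    { hp := hp2
      L := commutator (CQ z)
      normal := inferInstance
      e := e.trans (slEquiv (ZMod.ringEquivOfPrime F hp hFp).symm)
      S := R.mapSurjective hsurj
      hS := hQD
      hO := fun N hN hNodd => by
        rw [eq_bot_iff, ← PBasic.pPrimeCore_quotient_pPrimeCore 2 ↥(Subgroup.centralizer ({z} : Set G))]
        exact le_sSup ⟨hN, by rwa [Nat.coprime_two_right]⟩ }
  have hpres : Nat.card (R.mapSurjective hsurj : Subgroup (CQ z)) = 4 * Y.toModel.h := by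
    have h1 := (Y.pres).hcard
    show _ = 4 * Y.hn
    rw [h1, Hyp.hn, pow_add]
    ring
  exact ⟨{
    simple := hG
    ncomm := hnc
    cyc := hcyc
    S := S
    hS := hS
    z := z
    hz2 := hz2
    oneClass := fun j hj => one_class S hS hz2 hj
    p := p
    D := Y.toModel
    hcardS := by rw [← hpres, ← Nat.card_congr eP.toEquiv]; exact hR.symm
    R := R
    hR := hR }⟩

namespace Ctx

variable {G : Type u} [Group G] [Fintype G] (K : Ctx G)

/-- The centraliser of the involution. -/
abbrev C : Subgroup G := Subgroup.centralizer ({K.z} : Set G)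

/-- The odd core of the centraliser. -/
abbrev O : Subgroup K.C := Cfsg.oddCore ↥K.C

/-- The quotient map. -/
noncomputable abbrev π : K.C →* CQ K.z := QuotientGroup.mk' (Cfsg.oddCore ↥K.C)

theorem π_surj : Function.Surjective K.π := QuotientGroup.mk'_surjective _

theorem O_odd : Odd (Nat.card K.O) := Nat.coprime_two_right.1 (PBasic.pPrimeCore_coprime 2 _)

theorem ker_π : K.π.ker = K.O := QuotientGroup.ker_mk' _

theorem ker_not_dvd : ¬ 2 ∣ Nat.card K.π.ker := by
  rw [K.ker_π]
  exact Nat.two_dvd_ne_zero.2 (Nat.odd_iff.1 K.O_odd)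

theorem z_mem_C : K.z ∈ K.C := Subgroup.mem_centralizer_singleton_iff.2 rfl

/-- The involution in its centraliser. -/
def zC : K.C := ⟨K.z, K.z_mem_C⟩

theorem zC_order : orderOf K.zC = 2 := by rw [← Subgroup.orderOf_coe]; exact K.hz2

theorem zC_comm (g : K.C) : g * K.zC = K.zC * g :=
  Subtype.ext (Subgroup.mem_centralizer_singleton_iff.1 g.2)

theorem π_z : K.π K.zC = K.D.z := by
  refine K.D.central_invol (fun g => ?_) ?_ ?_
  · obtain ⟨g', rfl⟩ := K.π_surj g
    rw [← map_mul, K.zC_comm, map_mul]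
  · have h1 := pow_orderOf_eq_one K.zC
    rw [K.zC_order, pow_two] at h1
    rw [← map_mul, h1, map_one]
  · intro e
    have h1 : orderOf (⟨K.zC, MonoidHom.mem_ker.2 e⟩ : K.π.ker) ∣ Nat.card K.π.ker :=
      orderOf_dvd_natCard _
    rw [← Subgroup.orderOf_coe] at h1
    refine K.ker_not_dvd ?_
    have h2 := K.zC_order
    exact dvd_trans (dvd_of_eq h2.symm) h1

/-- The system on the centraliser. -/
noncomputable def famC : Fam K.C K.zC K.D.q (K.D.hN - 1) K.D.hN :=
  K.D.fam.comap K.π K.π_surj K.π_z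

theorem famC_off : K.famC.Off :=
  Fam.comap_off K.D.fam K.π K.π_surj K.π_z (fun _ h => K.D.fam_off h) K.zC_order K.zC_comm
    (by rw [K.π_z]; exact K.D.z_ne) K.ker_not_dvd

/-- The system on the group. -/
noncomputable def fam : Fam G K.z K.D.q (K.D.hN - 1) K.D.hN :=
  Fam.induce K.z_mem_C K.famC K.famC_off rfl K.hz2

end Ctx

end Cfsg.Agent.SDPack
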