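import Cfsg.Agent.Lib.Transfer.Fusion
import Mathlib.Algebra.Ring.GeomSum
import Mathlib.Data.Int.GCD

/-!
A cyclic Sylow subgroup meeting the centre: a normal complement.
-/

set_option autoImplicit false
set_option linter.style.haveILetI false

namespace Cfsg.Agent.SDPack

open Finset

universe u

/-- An integer congruent to one modulo `r` whose `n`th power is one modulo a power of `r`, `n` prime
to `r`, is one modulo that power. -/
theorem pow_sub_one_dvd {r : ℕ} (hr : r.Prime) {k : ℤ} {n e : ℕ} (hn : ¬ r ∣ n)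
    (h1 : (r : ℤ) ∣ k - 1) (h2 : (r : ℤ) ^ e ∣ k ^ n - 1) : (r : ℤ) ^ e ∣ k - 1 := by
  rw [← geom_sum_mul k n] at h2
  refine ((Nat.prime_iff_prime_int.1 hr).coprime_iff_not_dvd.2 ?_).pow_left.dvd_of_dvd_mul_left h2
  intro hd
  have h3 : ((∑ i ∈ range n, k ^ i : ℤ) : ZMod r) = 0 := (ZMod.intCast_zmod_eq_zero_iff_dvd _ _).2 hd
  have hk : (k : ZMod r) = 1 := by
    have := (ZMod.intCast_zmod_eq_zero_iff_dvd _ _).2 h1
    push_cast at this
    exact sub_eq_zero.1 this
  push_cast at h3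
  simp only [hk, one_pow, sum_const, card_range, nsmul_eq_mul, mul_one] at h3
  exact hn ((ZMod.natCast_eq_zero_iff n r).1 h3)

variable {X : Type u} [Group X] [Finite X] {r : ℕ} [Fact r.Prime]

/-- The normaliser of a cyclic Sylow subgroup centralises it if it fixes a nontrivial element. -/
theorem normalizer_centralizes (R : Sylow r X) [IsCyclic (R : Subgroup X)] {y : X}
    (hy : y ∈ (R : Subgroup X)) (hy1 : y ≠ 1) (hc : ∀ g : X, g * y = y * g) :
    Subgroup.normalizer (R : Set X) ≤ Subgroup.centralizer (R : Set X) := by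
  obtain ⟨⟨t, ht⟩, hgen⟩ := IsCyclic.exists_generator (α := (R : Subgroup X))
  have hmem : ∀ v ∈ (R : Subgroup X), ∃ i : ℤ, t ^ i = v := fun v hv => by
    obtain ⟨i, hi⟩ := hgen ⟨v, hv⟩
    exact ⟨i, congrArg Subtype.val hi⟩
  obtain ⟨e, he⟩ := IsPGroup.iff_orderOf.1 R.2 ⟨t, ht⟩
  rw [← Subgroup.orderOf_coe] at he
  have cent : ∀ g ∈ Subgroup.normalizer (R : Set X), ¬ r ∣ orderOf g → g * t = t * g := by
    intro g hg hn
    obtain ⟨k, hk⟩ := hmem _ ((Subgroup.mem_normalizer_iff.1 hg t).1 ht)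
    have hiter : ∀ j : ℕ, g ^ j * t * (g ^ j)⁻¹ = t ^ (k ^ j) := by
      intro j
      induction j with
      | zero => simp
      | succ j ih =>
        rw [pow_succ', _root_.mul_inv_rev, show g * g ^ j * t * ((g ^ j)⁻¹ * g⁻¹) =
          g * (g ^ j * t * (g ^ j)⁻¹) * g⁻¹ by group, ih, ← conj_zpow, ← hk, ← zpow_mul,
          pow_succ']
    have h2 : (r : ℤ) ^ e ∣ k ^ orderOf g - 1 := by
      have h := hiter (orderOf g)
      rw [pow_orderOf_eq_one, one_mul, inv_one, mul_one] at h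
      rw [show ((r : ℤ) ^ e) = ((orderOf t : ℕ) : ℤ) by rw [he]; push_cast; rfl,
        orderOf_dvd_iff_zpow_eq_one, zpow_sub, zpow_one, ← h, mul_inv_cancel]
    obtain ⟨i, hi⟩ := hmem y hy
    have h1 : (r : ℤ) ∣ k - 1 := by
      have h : t ^ (k * i) = t ^ i := by
        rw [zpow_mul, hk, conj_zpow, hi, hc g, mul_inv_cancel_right]
      have hd : ((r ^ e : ℕ) : ℤ) ∣ (k - 1) * i := by
        rw [← he, orderOf_dvd_iff_zpow_eq_one, sub_mul, one_mul, zpow_sub, h, mul_inv_cancel]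
      by_contra hk1
      have hco : IsCoprime (((r ^ e : ℕ)) : ℤ) (k - 1) := by
        push_cast
        exact ((Nat.prime_iff_prime_int.1 Fact.out).coprime_iff_not_dvd.2 hk1).pow_left
      have := hco.dvd_of_dvd_mul_left hd
      rw [← he, orderOf_dvd_iff_zpow_eq_one, hi] at this
      exact hy1 this
    have h3 : t ^ (k - 1) = 1 := by
      rw [← orderOf_dvd_iff_zpow_eq_one, he]
      push_cast
      exact pow_sub_one_dvd Fact.out hn h1 h2
    rw [zpow_sub, zpow_one, mul_inv_eq_one, hk] at h3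
    calc g * t = g * t * g⁻¹ * g := by group
      _ = t * g := by rw [h3]
  intro g hg
  obtain ⟨a, s, hs, hord⟩ := Nat.exists_eq_pow_mul_and_not_dvd (orderOf_pos g).ne' r
    (Fact.out : r.Prime).ne_one
  have hco : (r ^ a).Coprime s := ((Fact.out : r.Prime).coprime_iff_not_dvd.2 hs).pow_left a
  have hA : g ^ (r ^ a) * t = t * g ^ (r ^ a) := cent _ (pow_mem hg _) fun h => hs (h.trans (by
    rw [orderOf_pow' g (pow_ne_zero a (Fact.out : r.Prime).ne_zero), hord,
      Nat.gcd_eq_right (dvd_mul_right _ _), Nat.mul_div_cancel_left _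
        (pow_pos (Fact.out : r.Prime).pos a)]))
  have hB : g ^ s ∈ (R : Subgroup X) := by
    have hpg : IsPGroup r (Subgroup.zpowers (g ^ s)) := by
      refine IsPGroup.iff_orderOf.2 fun v => ?_
      have h1 := orderOf_dvd_natCard v
      rw [Nat.card_zpowers] at h1
      have h2 : orderOf (g ^ s) ∣ r ^ a := orderOf_dvd_of_pow_eq_one (by
        rw [← pow_mul, mul_comm, ← hord, pow_orderOf_eq_one])
      obtain ⟨b, -, hb⟩ := (Nat.dvd_prime_pow Fact.out).1 (h1.trans h2)
      exact ⟨b, hb⟩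
    have hle : Subgroup.zpowers (g ^ s) ≤ Subgroup.normalizer ((R : Subgroup X) : Set X) :=
      (Subgroup.zpowers_le).2 (pow_mem hg _)
    have h := IsPGroup.to_sup_of_normal_right' hpg R.2 hle
    have e2 := R.3 h le_sup_right
    exact e2 ▸ Subgroup.mem_sup_left (Subgroup.mem_zpowers _)
  rw [Subgroup.mem_centralizer_iff]
  intro v hv
  obtain ⟨i, rfl⟩ := hmem v hv
  have hBt : g ^ s * t = t * g ^ s := by
    obtain ⟨j, hj⟩ := hmem _ hB
    rw [← hj]
    exact ((Commute.refl t).zpow_left j).eq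
  have key : ∀ w ∈ Subgroup.zpowers (g ^ (r ^ a)) ⊔ Subgroup.zpowers (g ^ s),
      w ∈ Subgroup.centralizer ({t} : Set X) := by
    intro w hw
    refine (sup_le ?_ ?_ : _ ≤ Subgroup.centralizer ({t} : Set X)) hw <;> rw [Subgroup.zpowers_le]
    · exact Subgroup.mem_centralizer_singleton_iff.2 hA
    · exact Subgroup.mem_centralizer_singleton_iff.2 hBt
  have hg' : g ∈ Subgroup.zpowers (g ^ (r ^ a)) ⊔ Subgroup.zpowers (g ^ s) := by
    have hb := Nat.gcd_eq_gcd_ab (r ^ a) s
    rw [hco] at hb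
    have : g = (g ^ (r ^ a)) ^ ((r ^ a).gcdA s) * (g ^ s) ^ ((r ^ a).gcdB s) := by
      rw [← zpow_natCast, ← zpow_natCast, ← zpow_mul, ← zpow_mul, ← zpow_add, ← hb]
      simp
    have hm := Subgroup.mul_mem_sup (S := Subgroup.zpowers (g ^ (r ^ a)))
      (T := Subgroup.zpowers (g ^ s)) (x := (g ^ (r ^ a)) ^ ((r ^ a).gcdA s))
      (y := (g ^ s) ^ ((r ^ a).gcdB s)) ⟨_, rfl⟩ ⟨_, rfl⟩
    rwa [← this] at hm
  have hgt : Commute g t := Subgroup.mem_centralizer_singleton_iff.1 (key g hg')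
  exact (hgt.zpow_right i).eq.symm

/-- The normal complement. -/
theorem exists_complement (R : Sylow r X) [IsCyclic (R : Subgroup X)] {y : X}
    (hy : y ∈ (R : Subgroup X)) (hy1 : y ≠ 1) (hc : ∀ g : X, g * y = y * g) :
    Cfsg.HasNormalPComplement r X :=
  Fusion.hasNormalPComplement_of_normalizer_le_centralizer R (normalizer_centralizes R hy hy1 hc)

end Cfsg.Agent.SDPack
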