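import Cfsg.Agent.Lib.SDPack.Order
import Cfsg.Agent.Lib.FGStruct.Counting

/-!
The characteristic five: a count of the solutions of `g ^ 16 = 1`.
-/

set_option autoImplicit false
set_option linter.style.haveILetI false
set_option linter.unusedSectionVars false
set_option linter.unusedFintypeInType false

namespace Cfsg.Agent.SDPack

open Cfsg Finset
open scoped Classical

universe u

namespace Ctx

variable {G : Type u} [Group G] [Fintype G] (K : Ctx G)

/-- The image of the centraliser of the odd core. -/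
noncomputable def P : Subgroup (CQ K.z) := (Subgroup.centralizer (K.O : Set K.C)).map K.π

theorem P_normal : K.P.Normal := Subgroup.Normal.map inferInstance _ K.π_surj

theorem u_P (hm : K.m = 1) : K.D.u ∈ K.P := by
  obtain ⟨u0, h0, hu⟩ := K.exists_lift
  exact ⟨u0, Subgroup.mem_centralizer_iff.2 fun k hk => K.m_one hm h0 k hk, hu⟩

/-- The elements of 2-power order whose powers reach `z`. -/
noncomputable def V : Finset (CQ K.z) :=
  univ.filter fun v => v ^ 16 = 1 ∧ K.D.z ∈ Subgroup.zpowers v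

theorem mem_V {v : CQ K.z} : v ∈ K.V ↔ v ^ 16 = 1 ∧ K.D.z ∈ Subgroup.zpowers v := by
  simp [V]

theorem V_conj_mem {v : CQ K.z} (hv : v ∈ K.V) (g : CQ K.z) : g * v * g⁻¹ ∈ K.V := by
  rw [K.mem_V] at hv ⊢
  refine ⟨by rw [conj_pow, hv.1, mul_one, mul_inv_cancel], ?_⟩
  refine K.D.z_mem_zpowers_conj (y := g) ?_
  rw [show g⁻¹ * (g * v * g⁻¹) * g = v by group]
  exact hv.2

/-- The five-case numerology. -/
structure IsFive : Prop where
  cp : K.D.cp = 4
  cm : K.D.cm = 6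
  p : K.p = 5
  m : K.m = 1

variable (h5 : K.IsFive)

include h5

theorem h_four' : K.D.h = 4 ∧ K.D.mT = 1 := by
  have h := K.D.mT_eq
  rw [show (K.D.q + 1).natAbs = K.D.cp from rfl, h5.cp] at h
  have := K.D.h_four
  have hm : 0 < K.D.mT := Nat.pos_of_ne_zero fun e => by rw [e, mul_zero] at h; omega
  have : K.D.h ≤ 4 := Nat.le_of_dvd (by norm_num) ⟨_, h⟩
  have hh : K.D.h = 4 := by omega
  rw [hh] at h
  omega

theorem card_T8 : Nat.card K.D.T = 8 := by
  rw [K.D.card_T, show (K.D.q + 1).natAbs = K.D.cp from rfl, h5.cp]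

theorem card_H : Nat.card (CQ K.z) = 240 := by
  rw [K.D.card_eq, show (K.D.q + 1).natAbs = K.D.cp from rfl,
    show (K.D.q - 1).natAbs = K.D.cm from rfl, h5.cp, h5.cm, h5.p]

theorem T_zpowers {t : CQ K.z} (ht : t ∈ K.D.T) : t ∈ Subgroup.zpowers K.D.a := by
  have h := K.D.T_pow_mem ht
  rwa [(K.h_four' h5).2, pow_one] at h

theorem a_P : K.D.a ∈ K.P := by
  haveI := K.P_normal
  have hu := K.u_P h5.m
  obtain ⟨hh, hmT⟩ := K.h_four' h5
  have hua : K.D.u * K.D.a * K.D.u⁻¹ = K.D.a ^ 3 := by rw [K.D.ua, hh]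
  have ha2 : K.D.a ^ 2 ∈ K.P := by
    have h1 : K.D.u * (K.D.a * K.D.u⁻¹ * K.D.a⁻¹) ∈ K.P :=
      mul_mem hu (Subgroup.Normal.conj_mem ‹_› _ (inv_mem hu) K.D.a)
    rwa [show K.D.u * (K.D.a * K.D.u⁻¹ * K.D.a⁻¹) = K.D.u * K.D.a * K.D.u⁻¹ * K.D.a⁻¹ by group,
      hua, pow_succ, mul_inv_cancel_right] at h1
  have hau2 : K.D.a * K.D.u * (K.D.a * K.D.u) = K.D.z := by
    have hui : K.D.u⁻¹ = K.D.u := inv_eq_of_mul_eq_one_right K.D.uu
    have e := hua
    rw [hui] at e
    rw [show K.D.a * K.D.u * (K.D.a * K.D.u) = K.D.a * (K.D.u * K.D.a * K.D.u) by group, e,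
      ← pow_succ', ← K.D.az, hh]
  have hauL : K.D.a * K.D.u ∈ K.D.L :=
    (Subgroup.mul_mem_iff_of_index_two K.D.L_index).2 (iff_of_false K.D.a_not K.D.u_not)
  have ho : orderOf (K.D.a * K.D.u) = 4 := by
    have h4 : (K.D.a * K.D.u) ^ 2 ^ (1 + 1) = 1 := by
      rw [show 2 ^ (1 + 1) = 2 * 2 from rfl, pow_mul, pow_two (K.D.a * K.D.u), hau2, pow_two, K.D.zz]
    haveI : Fact (Nat.Prime 2) := ⟨Nat.prime_two⟩
    refine orderOf_eq_prime_pow (p := 2) (n := 1) ?_ h4
    rw [pow_one, pow_two, hau2]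
    exact K.D.z_ne
  obtain ⟨g, hg⟩ := K.D.four _ hauL ho
  obtain ⟨i, hi⟩ := K.T_zpowers h5 (K.D.mem_T.2 hg)
  have hi' : K.D.a ^ i = g * (K.D.a * K.D.u) * g⁻¹ := hi
  have hmem : g * (K.D.a * K.D.u) * g⁻¹ ∈ K.P := by
    rw [← hi']
    rcases Int.even_or_odd' i with ⟨j, rfl | rfl⟩
    · rw [_root_.zpow_mul, zpow_ofNat]; exact Subgroup.zpow_mem _ ha2 j
    · exfalso
      haveI := K.D.L_normal
      have hL : K.D.a ^ (2 * j + 1) ∈ K.D.L := hi' ▸ Subgroup.Normal.conj_mem ‹_› _ hauL g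
      rw [_root_.zpow_add, zpow_one, _root_.zpow_mul, zpow_ofNat] at hL
      exact K.D.a_not ((Subgroup.mul_mem_cancel_left _ (Subgroup.zpow_mem _
        (by rw [pow_two]; exact K.D.sq_mem_L _) j)).1 hL)
  have hau : K.D.a * K.D.u ∈ K.P := by
    have := Subgroup.Normal.conj_mem ‹_› _ hmem g⁻¹
    rwa [show g⁻¹ * (g * (K.D.a * K.D.u) * g⁻¹) * g⁻¹⁻¹ = K.D.a * K.D.u by group] at this
  exact (Subgroup.mul_mem_cancel_right _ hu).1 hau

theorem t_P {t : CQ K.z} (ht : t ∈ K.D.T) : t ∈ K.P :=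
  (Subgroup.zpowers_le.2 (K.a_P h5)) (K.T_zpowers h5 ht)

theorem T_pow16 {t : CQ K.z} (ht : t ∈ K.D.T) : t ^ 16 = 1 := by
  have h := congrArg Subtype.val (pow_card_eq_one' (x := (⟨t, ht⟩ : K.D.T)))
  rw [K.card_T8 h5] at h
  simp only [Subgroup.coe_pow, Subgroup.coe_one] at h
  rw [show 16 = 8 * 2 from rfl, pow_mul, h, one_pow]

theorem V_conj_T {v : CQ K.z} (hv : v ∈ K.V) : ∃ g, g * v * g⁻¹ ∈ K.D.T := by
  haveI : Fact (Nat.Prime 2) := ⟨Nat.prime_two⟩
  obtain ⟨hh, hmT⟩ := K.h_four' h5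
  set A := Subgroup.zpowers K.D.a
  set B := Subgroup.zpowers K.D.u
  have hA : IsPGroup 2 A := IsPGroup.of_card (n := 3) (by rw [Nat.card_zpowers, K.D.ao, hh]; norm_num)
  have hB : IsPGroup 2 B := IsPGroup.of_card (n := 1) (by
    rw [Nat.card_zpowers, pow_one]
    exact orderOf_eq_prime (by rw [pow_two, K.D.uu]) K.D.u_ne.1)
  have key : ∀ w ∈ A, K.D.u * w * K.D.u⁻¹ ∈ A := by
    rintro _ ⟨i, rfl⟩
    show K.D.u * K.D.a ^ i * K.D.u⁻¹ ∈ _
    rw [← conj_zpow, K.D.ua]
    exact Subgroup.zpow_mem _ (Subgroup.pow_mem _ (Subgroup.mem_zpowers _) _) i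
  have hle : B ≤ Subgroup.normalizer (A : Set (CQ K.z)) := by
    rw [Subgroup.zpowers_le, Subgroup.mem_normalizer_iff]
    intro w
    refine ⟨key w, fun hw => ?_⟩
    have h := key _ hw
    rwa [show K.D.u * (K.D.u * w * K.D.u⁻¹) * K.D.u⁻¹ = w by
      rw [show K.D.u * (K.D.u * w * K.D.u⁻¹) * K.D.u⁻¹ = (K.D.u * K.D.u) * w * (K.D.u * K.D.u)⁻¹ by
        group, K.D.uu, one_mul, inv_one, mul_one]] at h
  set Q := B ⊔ A
  have hQ2 : IsPGroup 2 Q := IsPGroup.to_sup_of_normal_right' hB hA hle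
  obtain ⟨c, hc⟩ := IsPGroup.iff_card.1 hQ2
  have hcA : Nat.card A = 2 ^ 3 := by rw [Nat.card_zpowers, K.D.ao, hh]; norm_num
  have huA : K.D.u ∉ A := fun hu => by
    obtain ⟨i, hi⟩ := hu
    exact K.D.u_not_T (by rw [← hi]; exact Subgroup.zpow_mem _ K.D.a_mem i)
  have hlt : A < Q := lt_of_le_of_ne le_sup_right fun e =>
    huA (e ▸ Subgroup.mem_sup_left (Subgroup.mem_zpowers _))
  have h16 : Nat.card Q = 16 := by
    have h1 : 2 ^ 3 < 2 ^ c := by rw [← hcA, ← hc]; exact (Set.toFinite _).card_lt_card hlt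
    have h2 : 2 ^ c ∣ 240 := by rw [← K.card_H h5, ← hc]; exact Subgroup.card_subgroup_dvd_card _
    have hc4 : 4 ≤ c := (Nat.pow_lt_pow_iff_right (by norm_num)).1 h1
    have hc5 : c < 5 := by
      by_contra hh
      exact absurd ((pow_dvd_pow 2 (Nat.not_lt.1 hh)).trans h2) (by norm_num)
    rw [hc, show c = 4 by omega]; norm_num
  have hsyl : Nat.card Q = 2 ^ (Nat.card (CQ K.z)).factorization 2 := by
    rw [h16, K.card_H h5, show 240 = 2 ^ 4 * 15 by norm_num, Nat.factorization_mul (by norm_num) (by norm_num),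
      Nat.prime_two.factorization_pow, Finsupp.add_apply, Finsupp.single_eq_same,
      Nat.factorization_eq_zero_of_not_dvd (show ¬ 2 ∣ 15 by norm_num)]
    norm_num
  let QS : Sylow 2 (CQ K.z) := Sylow.ofCard Q hsyl
  obtain ⟨hv16, hvz⟩ := K.mem_V.1 hv
  have hvp : IsPGroup 2 (Subgroup.zpowers v) := by
    obtain ⟨b, -, hb⟩ := (Nat.dvd_prime_pow Nat.prime_two).1
      (orderOf_dvd_of_pow_eq_one (show v ^ 2 ^ 4 = 1 by norm_num; exact hv16))
    exact IsPGroup.of_card (n := b) (by rw [Nat.card_zpowers, hb])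
  obtain ⟨Sv, hSv⟩ := hvp.exists_le_sylow
  obtain ⟨g, hg⟩ := MulAction.exists_smul_eq (CQ K.z) Sv QS
  set w := g * v * g⁻¹ with hw
  have hwQ : w ∈ Q := by
    have h : w ∈ ((g • Sv : Sylow 2 (CQ K.z)) : Subgroup (CQ K.z)) := by
      rw [Sylow.coe_subgroup_smul]; exact ⟨v, hSv (Subgroup.mem_zpowers v), rfl⟩
    rw [hg] at h
    exact h
  by_cases hwA : w ∈ A
  · exact ⟨g, (Subgroup.zpowers_le.2 K.D.a_mem) hwA⟩
  have hidx : (A.subgroupOf Q).index = 2 := by
    have h1 := Subgroup.card_mul_index (A.subgroupOf Q)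
    rw [Nat.card_congr (Subgroup.subgroupOfEquivOfLe (le_sup_right : A ≤ Q)).toEquiv, hcA, h16] at h1
    omega
  have hwu : w * K.D.u ∈ A := by
    have h := (Subgroup.mul_mem_iff_of_index_two hidx (a := (⟨w, hwQ⟩ : Q))
      (b := ⟨K.D.u, Subgroup.mem_sup_left (Subgroup.mem_zpowers _)⟩)).2 (iff_of_false hwA huA)
    exact h
  obtain ⟨i, hi⟩ := hwu
  have hi' : K.D.a ^ i = w * K.D.u := hi
  have hwe : w = K.D.a ^ i * K.D.u := by rw [hi', mul_assoc, K.D.uu, mul_one]
  have hwsq : w * w = K.D.a ^ (4 * i) := by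
    have hui : K.D.u⁻¹ = K.D.u := inv_eq_of_mul_eq_one_right K.D.uu
    have e : K.D.u * K.D.a ^ i * K.D.u⁻¹ = K.D.a ^ (3 * i) := by
      rw [← conj_zpow, K.D.ua, hh, _root_.zpow_mul]; norm_num [zpow_ofNat]
    rw [hui] at e
    rw [hwe, show K.D.a ^ i * K.D.u * (K.D.a ^ i * K.D.u) = K.D.a ^ i * (K.D.u * K.D.a ^ i * K.D.u) by
      group, e, ← _root_.zpow_add]
    congr 1; ring
  have hwz : K.D.z ∈ Subgroup.zpowers w := (K.mem_V.1 (K.V_conj_mem hv g)).2
  have ha8 : K.D.a ^ (8 : ℤ) = 1 := by rw [K.D.a_zpow_eq_one, hh]; norm_num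
  rcases Int.even_or_odd' i with ⟨j, hj | hj⟩
  · exfalso
    have h1 : w * w = 1 := by
      rw [hwsq, hj, show 4 * (2 * j) = 8 * j by ring, _root_.zpow_mul, ha8, _root_.one_zpow]
    obtain ⟨l, hl⟩ := hwz
    rcases Int.even_or_odd' l with ⟨d, rfl | rfl⟩
    · simp only [_root_.zpow_mul, zpow_two, h1, _root_.one_zpow] at hl
      exact K.D.z_ne hl.symm
    · simp only [_root_.zpow_add, zpow_one, _root_.zpow_mul, zpow_two, h1, _root_.one_zpow,
        one_mul] at hl
      exact hwA (hl ▸ ⟨(K.D.h : ℤ), by show K.D.a ^ (K.D.h : ℤ) = K.D.z; rw [zpow_natCast, K.D.az]⟩)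
  · have hwL : w ∈ K.D.L := by
      rw [hwe, Subgroup.mul_mem_iff_of_index_two K.D.L_index, hj, _root_.zpow_add, zpow_one,
        _root_.zpow_mul]
      refine iff_of_false (fun h => K.D.a_not ((Subgroup.mul_mem_cancel_left _
        (Subgroup.zpow_mem _ (by rw [zpow_two]; exact K.D.sq_mem_L _) j)).1 h)) K.D.u_not
    have ho : orderOf w = 4 := by
      have h1 : w * w = K.D.z := by
        rw [hwsq, hj, show 4 * (2 * j + 1) = 8 * j + 4 by ring, _root_.zpow_add, _root_.zpow_mul,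
          ha8, _root_.one_zpow, one_mul, ← K.D.az, hh]
        norm_num [zpow_ofNat]
      refine orderOf_eq_prime_pow (p := 2) (n := 1) ?_ ?_
      · rw [pow_one, pow_two, h1]; exact K.D.z_ne
      · rw [show 2 ^ (1 + 1) = 2 * 2 from rfl, pow_mul, pow_two w, h1, pow_two, K.D.zz]
    obtain ⟨f, hf⟩ := K.D.four w hwL ho
    refine ⟨f * g, K.D.mem_T.2 ?_⟩
    rw [show f * g * v * (f * g)⁻¹ = f * w * f⁻¹ by rw [hw]; group]
    exact hf

theorem T_z {t : CQ K.z} (ht : t ∈ K.D.T) (h1 : t ≠ 1) : K.D.z ∈ Subgroup.zpowers t := by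
  refine K.D.z_mem_of_kappa (t := ⟨t, ht⟩) fun h => h1 ?_
  rw [K.D.κ_eq_one, (K.h_four' h5).2, pow_one] at h
  exact h

theorem card_V : K.V.card = 91 := by
  obtain ⟨hh, hmT⟩ := K.h_four' h5
  have hzV : K.D.z ∈ K.V :=
    K.mem_V.2 ⟨K.T_pow16 h5 K.D.z_T, Subgroup.mem_zpowers _⟩
  set T' : Finset (CQ K.z) := univ.filter fun t => t ∈ K.D.T ∧ t ≠ 1 ∧ t ≠ K.D.z with hT'
  have hT'c : T'.card = 6 := by
    have h8 : (univ.filter fun t : CQ K.z => t ∈ K.D.T).card = 8 := by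
      rw [← K.card_T8 h5, Nat.card_eq_fintype_card, Fintype.card_subtype]
    have e : T' = ((univ.filter fun t : CQ K.z => t ∈ K.D.T).erase 1).erase K.D.z := by
      ext t; simp [hT']; tauto
    rw [e, card_erase_of_mem (mem_erase.2 ⟨K.D.z_ne, mem_filter.2 ⟨mem_univ _, K.D.z_T⟩⟩),
      card_erase_of_mem (mem_filter.2 ⟨mem_univ _, one_mem _⟩), h8]
  set N : Finset (CQ K.z) := univ.filter fun n => n ∈ K.D.T ∨ K.D.u⁻¹ * n ∈ K.D.T with hN
  have hNc : N.card = 16 := by
    rw [hN, filter_or, card_union_of_disjoint]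
    · have h8 : (univ.filter fun t : CQ K.z => t ∈ K.D.T).card = 8 := by
        rw [← K.card_T8 h5, Nat.card_eq_fintype_card, Fintype.card_subtype]
      have h8' : (univ.filter fun t : CQ K.z => K.D.u⁻¹ * t ∈ K.D.T).card = 8 := by
        rw [← h8]
        exact card_equiv (Equiv.mulLeft K.D.u⁻¹) fun t => by simp
      rw [h8, h8']
    · rw [disjoint_filter]
      intro t _ h1 h2
      exact K.D.u_not_T (inv_mem_iff.1 ((Subgroup.mul_mem_cancel_right _ h1).1 h2))
  have hcount : (univ ×ˢ T' : Finset (CQ K.z × CQ K.z)).card = 16 * (K.V.erase K.D.z).card := by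
    rw [card_eq_sum_card_fiberwise (f := fun q : CQ K.z × CQ K.z => q.1 * q.2 * q.1⁻¹)
      (t := K.V.erase K.D.z) (fun q hq => ?_)]
    · rw [sum_congr rfl fun v hv => ?_, sum_const, smul_eq_mul, mul_comm]
      obtain ⟨hvz, hvV⟩ := mem_erase.1 hv
      obtain ⟨g1, hg1⟩ := K.V_conj_T h5 hvV
      set t0 := g1 * v * g1⁻¹ with ht0
      have ht0' : t0 ≠ 1 ∧ t0 ≠ K.D.z := by
        refine ⟨fun e => ?_, fun e => hvz ?_⟩
        · have hv1 : v = 1 := by
            calc v = g1⁻¹ * t0 * g1 := by rw [ht0]; group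
              _ = 1 := by rw [e]; group
          have := (K.mem_V.1 hvV).2
          rw [hv1, Subgroup.zpowers_one_eq_bot, Subgroup.mem_bot] at this
          exact K.D.z_ne this
        · calc v = g1⁻¹ * t0 * g1 := by rw [ht0]; group
            _ = g1⁻¹ * K.D.z * g1 := by rw [e]
            _ = K.D.z := K.D.z_conj g1
      rw [← hNc]
      refine card_bij' (fun q _ => g1 * q.1) (fun n _ => (g1⁻¹ * n, n⁻¹ * t0 * n)) (fun q hq => ?_)
        (fun n hn => ?_) (fun q hq => ?_) (fun n hn => mul_inv_cancel_left _ _)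
      · obtain ⟨hq1, hq2⟩ := mem_filter.1 hq
        obtain ⟨hqT, hq1', hqz⟩ := (mem_filter.1 (mem_product.1 hq1).2).2
        refine mem_filter.2 ⟨mem_univ _, ?_⟩
        have e : g1 * q.1 * q.2 * (g1 * q.1)⁻¹ = t0 := by
          rw [ht0, ← hq2]; group
        exact (K.D.T_norm (g1 * q.1) q.2 (K.D.mem_T.1 hqT) hq1' hqz
          (by rw [e]; exact K.D.mem_T.1 hg1)).imp K.D.mem_T.2 K.D.mem_T.2
      · have hnT : n⁻¹ * t0 * n ∈ K.D.T := by
          rcases (mem_filter.1 hn).2 with h | h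
          · exact mul_mem (mul_mem (inv_mem h) hg1) h
          · set s := K.D.u⁻¹ * n
            have hns : n = K.D.u * s := (mul_inv_cancel_left _ _).symm
            have h2 : K.D.u⁻¹ * t0 * K.D.u ∈ K.D.T := by
              have hui : K.D.u⁻¹ = K.D.u := inv_eq_of_mul_eq_one_right K.D.uu
              have := K.D.u_conj_T hg1
              rw [hui] at this ⊢
              exact this
            rw [hns, show (K.D.u * s)⁻¹ * t0 * (K.D.u * s) = s⁻¹ * (K.D.u⁻¹ * t0 * K.D.u) * s by group]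
            exact mul_mem (mul_mem (inv_mem h) h2) h
        refine mem_filter.2 ⟨mem_product.2 ⟨mem_univ _, mem_filter.2 ⟨mem_univ _, hnT, fun e => ht0'.1 ?_,
          fun e => ht0'.2 (K.D.conj_z_iff.1 e)⟩⟩, ?_⟩
        · calc t0 = n * (n⁻¹ * t0 * n) * n⁻¹ := by group
            _ = 1 := by rw [show n⁻¹ * t0 * n = 1 from e]; group
        · show g1⁻¹ * n * (n⁻¹ * t0 * n) * (g1⁻¹ * n)⁻¹ = v
          rw [ht0]; group
      · have hq2 := (mem_filter.1 hq).2
        refine Prod.ext (inv_mul_cancel_left _ _) ?_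
        show (g1 * q.1)⁻¹ * t0 * (g1 * q.1) = q.2
        rw [ht0, ← hq2]
        group
    · obtain ⟨hqT, hq1, hqz⟩ := (mem_filter.1 (mem_product.1 hq).2).2
      refine mem_erase.2 ⟨fun e => hqz ?_, K.V_conj_mem (K.mem_V.2
        ⟨K.T_pow16 h5 hqT, K.T_z h5 hqT hq1⟩) q.1⟩
      calc q.2 = q.1⁻¹ * (q.1 * q.2 * q.1⁻¹) * q.1 := by group
        _ = q.1⁻¹ * K.D.z * q.1 := by rw [show q.1 * q.2 * q.1⁻¹ = K.D.z from e]
        _ = K.D.z := K.D.z_conj q.1
  rw [card_product, card_univ, ← Nat.card_eq_fintype_card, K.card_H h5, hT'c,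
    card_erase_of_mem hzV] at hcount
  have : 0 < K.V.card := card_pos.2 ⟨_, hzV⟩
  omega

theorem pow16_commutes {c : K.C} (hc : c ^ 16 = 1) (hP : K.π c ∈ K.P) {k : K.C} (hk : k ∈ K.O) :
    k * c = c * k := by
  obtain ⟨d, hd, hde⟩ := hP
  set e := d⁻¹ * c with he
  have heO : e ∈ K.O := (SetLike.ext_iff.1 K.ker_π _).1 (by
    rw [MonoidHom.mem_ker, he, map_mul, map_inv, hde, inv_mul_cancel])
  have hdk : ∀ j ∈ K.O, j * d = d * j := fun j hj => Subgroup.mem_centralizer_iff.1 hd j hj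
  have hce : c = d * e := by rw [he, mul_inv_cancel_left]
  have he16 : e ^ 16 = (d ^ 16)⁻¹ := by
    refine eq_inv_of_mul_eq_one_right ?_
    rw [← (show Commute d e from (hdk e heO).symm).mul_pow, ← hce, hc]
  have hek : Commute (e ^ 16) k := by
    rw [he16]
    exact ((show Commute d k from (hdk k hk).symm).pow_left 16).inv_left
  have hco : (16 : ℕ).Coprime (orderOf e) := by
    have h1 : orderOf (⟨e, heO⟩ : K.O) ∣ Nat.card K.O := orderOf_dvd_natCard _
    rw [← Subgroup.orderOf_coe] at h1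
    exact ((Nat.coprime_two_left.2 K.O_odd).pow_left 4).coprime_dvd_right h1
  obtain ⟨j, hj⟩ := exists_pow_eq_self_of_coprime hco
  have hek' : e * k = k * e := by rw [← hj]; exact (hek.pow_left j).eq
  calc k * c = k * d * e := by rw [mul_assoc, ← hce]
    _ = d * (k * e) := by rw [hdk k hk, mul_assoc]
    _ = d * e * k := by rw [← hek', ← mul_assoc d e k]
    _ = c * k := by rw [← hce]

theorem card_Sz : (univ.filter fun g : G => g ^ 16 = 1 ∧ K.z ∈ Subgroup.zpowers g).card = 91 := by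
  rw [← K.card_V h5]
  have hC : ∀ g : G, K.z ∈ Subgroup.zpowers g → g ∈ K.C := fun g hg => by
    obtain ⟨i, hi⟩ := hg
    refine Subgroup.mem_centralizer_singleton_iff.2 ?_
    rw [← show g ^ i = K.z from hi]
    exact (Commute.self_zpow g i).eq
  have hVP : ∀ v ∈ K.V, v ∈ K.P := fun v hv => by
    haveI := K.P_normal
    obtain ⟨g, hg⟩ := K.V_conj_T h5 hv
    have := Subgroup.Normal.conj_mem ‹_› _ (K.t_P h5 hg) g⁻¹
    rwa [show g⁻¹ * (g * v * g⁻¹) * g⁻¹⁻¹ = v by group] at this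
  have hzlift : ∀ c : K.C, K.D.z ∈ Subgroup.zpowers (K.π c) → K.zC ∈ Subgroup.zpowers c :=
    fun c hc => mem_zpowers_lift K.π K.zC_order K.zC_comm (by rw [K.π_z]; exact K.D.z_ne)
      K.ker_not_dvd (by rw [K.π_z]; exact hc)
  refine card_bij (fun g hg => K.π ⟨g, hC g (mem_filter.1 hg).2.2⟩) (fun g hg => ?_)
    (fun g hg g' hg' he => ?_) (fun v hv => ?_)
  · obtain ⟨h16, i, hi⟩ := (mem_filter.1 hg).2
    set c : K.C := ⟨g, hC g (mem_filter.1 hg).2.2⟩
    refine K.mem_V.2 ⟨?_, i, ?_⟩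
    · rw [← map_pow, show c ^ 16 = 1 from Subtype.ext (by rw [Subgroup.coe_pow]; exact h16), map_one]
    · show K.π c ^ i = K.D.z
      rw [← map_zpow, ← K.π_z]
      congr 1
      exact Subtype.ext (by rw [Subgroup.coe_zpow]; exact hi)
  · set c : K.C := ⟨g, hC g (mem_filter.1 hg).2.2⟩ with hc
    set c' : K.C := ⟨g', hC g' (mem_filter.1 hg').2.2⟩ with hc'
    have h1 : c ^ 16 = 1 := Subtype.ext (by rw [Subgroup.coe_pow]; exact (mem_filter.1 hg).2.1)
    have h1' : c' ^ 16 = 1 := Subtype.ext (by rw [Subgroup.coe_pow]; exact (mem_filter.1 hg').2.1)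
    set k := c⁻¹ * c' with hk
    have hkO : k ∈ K.O := (SetLike.ext_iff.1 K.ker_π _).1 (by
      rw [MonoidHom.mem_ker, hk, map_mul, map_inv, he, inv_mul_cancel])
    have hP : K.π c ∈ K.P := hVP _ (K.mem_V.2 ⟨by rw [← map_pow, h1, map_one], by
      obtain ⟨i, hi⟩ := (mem_filter.1 hg).2.2
      refine ⟨i, ?_⟩
      show K.π c ^ i = K.D.z
      rw [← map_zpow, ← K.π_z]
      congr 1
      exact Subtype.ext (by rw [Subgroup.coe_zpow]; exact hi)⟩)
    have hck := K.pow16_commutes h5 h1 hP hkO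
    have hk16 : k ^ 16 = 1 := by
      have := (show Commute c k from hck.symm).mul_pow 16
      rw [hk, mul_inv_cancel_left, h1', h1, one_mul] at this
      exact this.symm
    have h2 : orderOf (⟨k, hkO⟩ : K.O) ∣ Nat.card K.O := orderOf_dvd_natCard _
    rw [← Subgroup.orderOf_coe] at h2
    have hk1 : k = 1 := orderOf_eq_one_iff.1 (Nat.eq_one_of_dvd_coprimes
      ((Nat.coprime_two_left.2 K.O_odd).pow_left 4) (orderOf_dvd_of_pow_eq_one hk16) h2)
    have : c = c' := inv_mul_eq_one.1 hk1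
    exact congrArg Subtype.val this
  · obtain ⟨d, -, hd⟩ := hVP v hv
    obtain ⟨h16, hz⟩ := K.mem_V.1 hv
    have hco : (Nat.card K.O).Coprime (orderOf v) :=
      ((Nat.coprime_two_right.2 K.O_odd).pow_right 4).coprime_dvd_right (orderOf_dvd_of_pow_eq_one h16)
    obtain ⟨j, hj⟩ := exists_pow_eq_self_of_coprime hco
    set c := (d ^ Nat.card K.O) ^ j with hc
    have hπc : K.π c = v := by rw [hc, map_pow, map_pow, hd, hj]
    have hd16 : d ^ 16 ∈ K.O := (SetLike.ext_iff.1 K.ker_π _).1 (by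
      rw [MonoidHom.mem_ker, map_pow, hd, h16])
    have hc16 : c ^ 16 = 1 := by
      have h := congrArg Subtype.val (pow_card_eq_one' (x := (⟨d ^ 16, hd16⟩ : K.O)))
      simp only [Subgroup.coe_pow, Subgroup.coe_one] at h
      rw [hc, ← pow_mul, ← pow_mul, show Nat.card K.O * (j * 16) = 16 * Nat.card K.O * j by ring,
        pow_mul, pow_mul, h, one_pow]
    have hzc := hzlift c (hπc.symm ▸ hz)
    refine ⟨(c : G), mem_filter.2 ⟨mem_univ _, ?_, ?_⟩, hπc⟩
    · have := congrArg Subtype.val hc16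
      simpa using this
    · obtain ⟨i, hi⟩ := hzc
      exact ⟨i, congrArg Subtype.val hi⟩

/-- The contradiction. -/
theorem five_false (hN : Nat.card G = 85680 * Nat.card K.O) : False := by
  have hidx : K.C.index = 357 := by
    have h := Subgroup.card_mul_index K.C
    rw [K.card_C, hN, h5.cp, h5.cm, h5.p] at h
    have ho : 0 < Nat.card K.O := Nat.card_pos
    exact Nat.eq_of_mul_eq_mul_left (Nat.mul_pos ho (by norm_num : 0 < 2 * 5 * (4 * 6)))
      (h.trans (by ring))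
  set S : G → Finset G := fun j => univ.filter fun g => g ^ 16 = 1 ∧ j ∈ Subgroup.zpowers g with hS
  have hSc : ∀ j ∈ Char.classFinset K.z, (S j).card = 91 := by
    intro j hj
    obtain ⟨g, rfl⟩ := isConj_iff.1 (Char.mem_classFinset.1 hj)
    rw [← K.card_Sz h5]
    refine card_bij' (fun v _ => g⁻¹ * v * g) (fun v _ => g * v * g⁻¹) (fun v hv => ?_) (fun v hv => ?_)
      (fun v _ => by group) (fun v _ => by group)
    · obtain ⟨h1, i, hi⟩ := (mem_filter.1 hv).2
      have hi' : v ^ i = g * K.z * g⁻¹ := hi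
      refine mem_filter.2 ⟨mem_univ _, ?_, i, ?_⟩
      · have := conj_pow (i := 16) (a := g⁻¹) (b := v)
        rw [inv_inv] at this
        rw [this, h1]; group
      · show (g⁻¹ * v * g) ^ i = K.z
        have := conj_zpow (i := i) (a := g⁻¹) (b := v)
        rw [inv_inv] at this
        rw [this, hi']; group
    · obtain ⟨h1, i, hi⟩ := (mem_filter.1 hv).2
      refine mem_filter.2 ⟨mem_univ _, ?_, i, ?_⟩
      · rw [conj_pow, h1]; group
      · show (g * v * g⁻¹) ^ i = g * K.z * g⁻¹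
        rw [conj_zpow, show v ^ i = K.z from hi]
  have heq : (univ.filter fun g : G => g ^ 16 = 1) = insert 1 ((Char.classFinset K.z).biUnion S) := by
    ext g
    simp only [mem_insert, mem_biUnion, hS, mem_filter, mem_univ, true_and]
    constructor
    · intro h
      by_cases h1 : g = 1
      · exact Or.inl h1
      right
      obtain ⟨b, -, hb⟩ := (Nat.dvd_prime_pow Nat.prime_two).1
        (orderOf_dvd_of_pow_eq_one (show g ^ 2 ^ 4 = 1 by norm_num; exact h))
      have h2 : 2 ∣ orderOf g := by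
        rw [hb]
        refine dvd_pow_self 2 fun e => h1 ?_
        rw [e, pow_zero] at hb
        exact orderOf_eq_one_iff.1 hb
      have hj : orderOf (g ^ (orderOf g / 2)) = 2 := orderOf_pow_orderOf_div (orderOf_pos g).ne' h2
      refine ⟨g ^ (orderOf g / 2), ?_, h, Subgroup.pow_mem _ (Subgroup.mem_zpowers g) _⟩
      rw [Char.mem_classFinset]
      exact K.oneClass _ hj
    · rintro (rfl | ⟨j, -, h, -⟩)
      · exact one_pow _
      · exact h
  have hcard : (univ.filter fun g : G => g ^ 16 = 1).card = 32488 := by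
    rw [heq, card_insert_of_notMem, card_biUnion, sum_congr rfl hSc, sum_const, Char.card_classFinset,
      show (Subgroup.centralizer ({K.z} : Set G)).index = 357 from hidx, smul_eq_mul]
    · intro a ha b hb hne
      rw [Function.onFun, disjoint_left]
      intro g hga hgb
      have ho : ∀ j ∈ Char.classFinset K.z, orderOf j = 2 := fun j hj => by
        obtain ⟨h1, h2⟩ := K.mem_I.1 hj
        exact orderOf_eq_prime (by rw [pow_two]; exact h1) h2
      exact hne (cyclic_invol_unique (mem_filter.1 hga).2.2 (mem_filter.1 hgb).2.2 (ho a ha) (ho b hb))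
    · intro h
      obtain ⟨j, hj, hj'⟩ := mem_biUnion.1 h
      have h2 := (mem_filter.1 hj').2.2
      rw [Subgroup.zpowers_one_eq_bot, Subgroup.mem_bot] at h2
      exact (K.mem_I.1 hj).2 h2
  have hd := Counting.dvd_card_pow_eq_one (G := G) 16
    (by rw [hN]; exact Dvd.dvd.mul_right (by norm_num) _)
  rw [Nat.card_eq_fintype_card, Fintype.card_subtype, hcard] at hd
  norm_num at hd

end Ctx

end Cfsg.Agent.SDPack
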