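import Cfsg.Agent.Lib.SDPack.Order
import Cfsg.Agent.Lib.Char.Complete

/-!
The order formula and the divisibility of `1 + x - q²`.
-/

set_option autoImplicit false
set_option linter.style.haveILetI false
set_option linter.unusedSectionVars false
set_option linter.unusedFintypeInType false

namespace Cfsg.Agent.SDPack

open Cfsg Cfsg.Agent.Char Cfsg.Agent.Blocks Finset
open scoped Classical

universe u

namespace Ctx

variable {G : Type u} [Group G] [Fintype G] (K : Ctx G)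

theorem q_cm : K.D.q * (K.D.cm : ℤ) = (K.p : ℤ) * (K.D.q - 1) := by
  have := K.D.hq
  have := K.D.hp.two_le
  rcases Int.natAbs_eq K.D.q with e | e <;> unfold Model.cm
  · rw [show ((K.D.q - 1).natAbs : ℤ) = K.D.q - 1 by omega, show (K.p : ℤ) = K.D.q by omega]
  · rw [show ((K.D.q - 1).natAbs : ℤ) = -(K.D.q - 1) by omega, show (K.p : ℤ) = -K.D.q by omega]
    ring

theorem index_ne : (K.C.index : ℂ) ≠ 0 := Nat.cast_ne_zero.2 Subgroup.index_ne_zero_of_finite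

theorem sum_I_const : ∑ _a ∈ classFinset K.z, ∑ _b ∈ classFinset K.z, (1 : ℂ) =
    (K.C.index : ℂ) ^ 2 := by
  simp only [sum_const, nsmul_eq_mul, mul_one, card_classFinset]
  ring

theorem sum_I_signed {χ : IrrCharacter G} {s D S : ℤ} (hs : s * s = 1) (hd : s * deg χ = D) {v : ℤ}
    (hv : s * v = S) (hz : (v : ℂ) = (χ : G → ℂ) K.z) :
    ∑ a ∈ classFinset K.z, ∑ b ∈ classFinset K.z, (s : ℂ) * (χ : G → ℂ) (a * b) =
      (K.C.index : ℂ) ^ 2 * ((S : ℂ) ^ 2 / (D : ℂ)) := by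
  simp only [← mul_sum]
  rw [sum_class_pairs, card_classFinset, ← hz, ← deg_cast, ← signed_sq hs hd hv (deg_ne _)]
  ring

theorem fam_γ_sum (i : Fin (K.D.hN - 1)) :
    ∑ a ∈ classFinset K.z, ∑ b ∈ classFinset K.z, K.fam.γ i (a * b) =
      (K.C.index : ℂ) * ((K.m : ℂ) ^ 2 * ((K.p : ℂ) * K.D.cm * ((K.D.cp : ℂ) * K.D.cp))) := by
  show ∑ a ∈ classFinset K.z, ∑ b ∈ classFinset K.z, indFun K.C (K.famC.γ i) (a * b) = _
  rw [K.sum_I_ind fun c h => (K.famC_off c h).1 i]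
  congr 1
  rw [← K.D.sum_J_γ i, ← K.sum_W_pairs]
  rfl

theorem fam_φ_sum : ∑ a ∈ classFinset K.z, ∑ b ∈ classFinset K.z, K.fam.φ (a * b) = 0 := by
  show ∑ a ∈ classFinset K.z, ∑ b ∈ classFinset K.z, indFun K.C K.famC.φ (a * b) = _
  rw [K.sum_I_ind fun c h => (K.famC_off c h).2.2.1]
  have h : ∑ a ∈ K.W, ∑ b ∈ K.W, K.famC.φ (a * b) =
      (K.m : ℂ) ^ 2 * ∑ i ∈ K.D.J, ∑ j ∈ K.D.J, K.D.φH (i * j) := K.sum_W_pairs K.D.φH
  rw [h, K.D.sum_J_φ, mul_zero, mul_zero]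

include K in
/-- No nontrivial linear character. -/
theorem deg_one {χ : IrrCharacter G} (h : deg χ = 1) : χ = Char.principal G := by
  haveI := K.simple
  have h1 : (χ : G → ℂ) 1 = 1 := by rw [← deg_cast, h, Int.cast_one]
  obtain ⟨f, hf⟩ := exists_hom_of_degree_one (IsIrrCharacter.isCharacter χ.2) h1
  refine Subtype.ext (funext fun g => ?_)
  show (χ : G → ℂ) g = 1
  rcases (MonoidHom.normal_ker f).eq_bot_or_eq_top with hk | hk
  · refine absurd ⟨⟨fun a b => ?_⟩⟩ K.ncomm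
    exact (MonoidHom.ker_eq_bot_iff f).1 hk (by rw [map_mul, map_mul, mul_comm])
  · have : f g = 1 := MonoidHom.mem_ker.1 (hk ▸ Subgroup.mem_top g)
    simp only [hf, this, Units.val_one]

/-- The main formula. -/
theorem order_formula : ∃ x g : ℤ, x ≠ 0 ∧ x + 1 ≠ 0 ∧ g = 1 + x - K.D.q ^ 2 ∧ g ≠ 0 ∧
    g ∣ K.D.q ^ 2 * (K.D.q ^ 2 - 1) ∧
    (Nat.card G : ℤ) * K.D.q * (x - K.D.q + 1) ^ 2 =
      (Nat.card K.C : ℤ) * ((K.m : ℤ) * K.p * K.D.cp) ^ 2 * (K.D.q - 1) * (x * (x + 1)) := by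
  obtain ⟨M, hMp, hM, E, hzX, hzP⟩ := K.exists_data
  have hx := E.x_ne
  have hx1 := E.x_add_one_ne
  have hb := E.b_ne
  have hxb := E.x_sub_b_ne
  set q := K.D.q with hq
  set x := E.x with hxdef
  set b := E.b with hbdef
  have hi := K.index_ne
  have zA : E.sA * E.zi K.hz2 E.A = -q := by rw [E.zA, hzX]; ring
  have zR : E.sR * E.zi K.hz2 E.R = -1 := by rw [E.zR, hzX, hzP]; ring
  have xC : (x : ℂ) ≠ 0 := Int.cast_ne_zero.2 hx
  have x1C : (x : ℂ) + 1 ≠ 0 := by exact_mod_cast hx1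
  have bC : (b : ℂ) ≠ 0 := Int.cast_ne_zero.2 hb
  have xbC : (x : ℂ) - b ≠ 0 := by exact_mod_cast hxb
  have x1C' : ((-1 - x : ℤ) : ℂ) ≠ 0 := Int.cast_ne_zero.2 (by omega)
  -- the two relations
  have h1 : (K.C.index : ℂ) * (1 + ((-q : ℤ) : ℂ) ^ 2 / ((-1 - x : ℤ) : ℂ) +
      ((q - 1 : ℤ) : ℂ) ^ 2 / (x : ℂ)) =
      (K.m : ℂ) ^ 2 * ((K.p : ℂ) * K.D.cm * ((K.D.cp : ℂ) * K.D.cp)) := by
    refine mul_left_cancel₀ hi ?_
    rw [← K.fam_γ_sum K.fam.e0]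
    simp only [E.hγ, sum_add_distrib]
    rw [K.sum_I_const, K.sum_I_signed E.hsA E.dA zA (E.zi_cast _ _),
      K.sum_I_signed (E.hsX _) (E.dX _) ((E.zXa K.hz2 K.fam.e0).trans hzX) (E.zi_cast _ _)]
    ring
  have h2 : (1 : ℂ) + ((-q : ℤ) : ℂ) ^ 2 / ((-1 - x : ℤ) : ℂ) + (q : ℂ) ^ 2 / (b : ℂ) +
      ((-1 : ℤ) : ℂ) ^ 2 / ((x - b : ℤ) : ℂ) = 0 := by
    refine mul_left_cancel₀ (pow_ne_zero 2 hi) ?_
    rw [mul_zero, ← K.fam_φ_sum]
    simp only [E.hφ, sum_add_distrib]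
    rw [K.sum_I_const, K.sum_I_signed E.hsA E.dA zA (E.zi_cast _ _),
      K.sum_I_signed E.hsP (D := b) rfl (S := q) hzP (E.zi_cast _ _),
      K.sum_I_signed E.hsR E.dR zR (E.zi_cast _ _)]
    ring
  have e1 : ((-1 - x : ℤ) : ℂ) = -((x : ℂ) + 1) := by push_cast; ring
  rw [e1] at h1 h2
  push_cast at h1 h2
  field_simp at h1 h2
  have k2 : (x - b + 1) * (b * (1 + x) + q ^ 2 * (x - b)) = 0 := by
    have : (((x - b + 1) * (b * (1 + x) + q ^ 2 * (x - b)) : ℤ) : ℂ) = 0 := by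
      push_cast
      linear_combination h2
    exact_mod_cast this
  have hne : x - b + 1 ≠ 0 := by
    intro h
    have hd : E.sR * deg E.R = -1 := by rw [E.dR]; omega
    have hdeg : deg E.R = 1 := by
      rcases Int.mul_eq_neg_one_iff_eq_one_or_neg_one.1 hd with ⟨-, e⟩ | ⟨-, e⟩
      · have := deg_pos E.R; omega
      · exact e
    have := K.deg_one hdeg
    have hinj := E.mem_inj (a₁ := Sum.inl 3) (a₂ := Sum.inl 0) (by
      rw [E.mem_eq]; simpa using this)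
    exact absurd (Sum.inl_injective hinj) (by decide)
  have k3 : b * (1 + x) + q ^ 2 * (x - b) = 0 := (mul_eq_zero.1 k2).resolve_left hne
  have k3' : (1 + x - q ^ 2) * b = -(q ^ 2 * x) := by linear_combination k3
  have hg : 1 + x - q ^ 2 ≠ 0 := by
    intro h
    rw [h, zero_mul, eq_comm, neg_eq_zero] at k3'
    rcases mul_eq_zero.1 k3' with h' | h'
    · exact K.D.hp.ne_zero (by rw [← K.D.hq, ← hq, pow_eq_zero_iff two_ne_zero |>.1 h']; rfl)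
    · exact hx h'
  refine ⟨x, 1 + x - q ^ 2, hx, hx1, rfl, hg, ⟨-b - q ^ 2, by linear_combination k3'⟩, ?_⟩
  have hN : (Nat.card G : ℂ) = (Nat.card K.C : ℂ) * (K.C.index : ℂ) := by
    exact_mod_cast (Subgroup.card_mul_index K.C).symm
  have hqc : (q : ℂ) * K.D.cm = (K.p : ℂ) * ((q : ℂ) - 1) := by exact_mod_cast K.q_cm
  have : (((Nat.card G : ℤ) * q * (x - q + 1) ^ 2 : ℤ) : ℂ) =
      (((Nat.card K.C : ℤ) * ((K.m : ℤ) * K.p * K.D.cp) ^ 2 * (q - 1) * (x * (x + 1)) : ℤ) : ℂ) := by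
    push_cast
    rw [hN]
    linear_combination (Nat.card K.C : ℂ) * (q : ℂ) * h1 +
      (Nat.card K.C : ℂ) * (K.m : ℂ) ^ 2 * (K.p : ℂ) * (K.D.cp : ℂ) ^ 2 * (x : ℂ) * ((x : ℂ) + 1) * hqc
  exact_mod_cast this

end Ctx

end Cfsg.Agent.SDPack
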