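import Cfsg.Agent.Lib.SDPack.Shape
import Cfsg.Agent.Lib.Blocks.SecondMain
import Cfsg.Agent.Lib.Blocks.Misc

/-!
The characters of the exceptional families: distinct signed irreducible members of the principal
2-block.
-/

set_option autoImplicit false
set_option linter.style.haveILetI false
set_option linter.unusedSectionVars false

namespace Cfsg.Agent.SDPack

open Cfsg Cfsg.Agent.Char Cfsg.Agent.Blocks Finset
open scoped ComplexConjugate

universe u

variable {G : Type u} [Group G] [Fintype G]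

/-- A system of exceptional functions: generalised characters vanishing on the elements of odd
order, with the inner products and the values at `z` of the semidihedral case. -/
structure Fam (G : Type u) [Group G] [Fintype G] (z : G) (q : ℤ) (Ne No : ℕ) where
  γ : Fin Ne → G → ℂ
  f : Fin No → G → ℂ
  φ : G → ℂ
  α : G → ℂ
  e0 : Fin Ne
  hNe : Ne ≠ 2
  hNo : 2 ≤ No
  gγ : ∀ a, IsGeneralizedCharacter G (γ a)
  gf : ∀ a, IsGeneralizedCharacter G (f a)
  gφ : IsGeneralizedCharacter G φ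
  gα : IsGeneralizedCharacter G α
  γγ : ∀ a b, classInner (γ a) (γ b) = if a = b then 3 else 2
  γφ : ∀ a, classInner (γ a) φ = 2
  φφ : classInner φ φ = 4
  ff : ∀ a b, classInner (f a) (f b) = if a = b then 2 else 1
  fγ : ∀ a b, classInner (f a) (γ b) = if b = e0 then 1 else 0
  fφ : ∀ a, classInner (f a) φ = 0
  αα : classInner α α = 3
  αγ : ∀ a, classInner α (γ a) = 1
  αφ : classInner α φ = 2
  αf : ∀ a, classInner α (f a) = 0
  γ1 : ∀ a, classInner (γ a) (fun _ => 1) = 1
  f1 : ∀ a, classInner (f a) (fun _ => 1) = 0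
  φ1 : classInner φ (fun _ => 1) = 1
  α1 : classInner α (fun _ => 1) = 1
  γodd : ∀ a g, ¬ 2 ∣ orderOf g → γ a g = 0
  fodd : ∀ a g, ¬ 2 ∣ orderOf g → f a g = 0
  φodd : ∀ g, ¬ 2 ∣ orderOf g → φ g = 0
  αodd : ∀ g, ¬ 2 ∣ orderOf g → α g = 0
  γz : ∀ a, γ a z = 0
  fz : ∀ a, f a z = 2 * (q : ℂ) - 2
  φz : φ z = 0
  αz : α z = 2 * (q : ℂ) + 2

/-- The distinct signed members with the expansions of the exceptional functions. -/
structure Mems {z : G} {q : ℤ} {Ne No : ℕ} (F : Fam G z q Ne No) (M : Ideal AlgInt) [M.IsPrime] where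
  A : IrrCharacter G
  P : IrrCharacter G
  R : IrrCharacter G
  E : IrrCharacter G
  X : Fin Ne → IrrCharacter G
  Y : Fin No → IrrCharacter G
  sA : ℤ
  sP : ℤ
  sR : ℤ
  sE : ℤ
  sX : Fin Ne → ℤ
  sY : Fin No → ℤ
  hsA : sA * sA = 1
  hsP : sP * sP = 1
  hsR : sR * sR = 1
  hsE : sE * sE = 1
  hsX : ∀ a, sX a * sX a = 1
  hsY : ∀ a, sY a * sY a = 1
  hγ : ∀ a g, F.γ a g = 1 + (sA : ℂ) * (A : G → ℂ) g + (sX a : ℂ) * (X a : G → ℂ) g
  hφ : ∀ g, F.φ g = 1 + (sA : ℂ) * (A : G → ℂ) g + (sP : ℂ) * (P : G → ℂ) g +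
    (sR : ℂ) * (R : G → ℂ) g
  hf : ∀ a g, F.f a g = (sX F.e0 : ℂ) * (X F.e0 : G → ℂ) g - (sY a : ℂ) * (Y a : G → ℂ) g
  hα : ∀ g, F.α g = 1 + (sP : ℂ) * (P : G → ℂ) g + (sE : ℂ) * (E : G → ℂ) g
  mem : Fin 5 ⊕ (Fin Ne ⊕ Fin No) → IrrCharacter G
  mem_eq : mem = Sum.elim ![Char.principal G, A, P, R, E] (Sum.elim X Y)
  mem_inj : Function.Injective mem
  mem_block : ∀ i, mem i ∈ principalBlock M G

/-- The coefficients of a generalised character without the principal one. -/
theorem exists_reduced {f : G → ℂ} (h : IsGeneralizedCharacter G f) {k : ℤ}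
    (hk : classInner f (fun _ => 1) = (k : ℂ)) :
    ∃ c : IrrCharacter G → ℤ, c (Char.principal G) = 0 ∧
      (∀ g, f g = (k : ℂ) + ∑ ψ, (c ψ : ℂ) * (ψ : G → ℂ) g) ∧
      ∀ ψ, ψ ≠ Char.principal G → classInner f (ψ : G → ℂ) = (c ψ : ℂ) := by
  classical
  obtain ⟨c, hc, hcoef⟩ := IsGeneralizedCharacter.exists_coeff h
  refine ⟨Function.update c (Char.principal G) 0, Function.update_self _ _ _, fun g => ?_,
    fun ψ hψ => by rw [Function.update_of_ne hψ, hcoef]⟩
  have h0 : (c (Char.principal G) : ℂ) = (k : ℂ) := (hcoef _).symm.trans hk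
  conv_lhs => rw [hc]
  rw [Finset.sum_apply, ← add_sum_erase _ _ (mem_univ (Char.principal G)),
    ← add_sum_erase _ (fun ψ => (Function.update c (Char.principal G) 0 ψ : ℂ) * (ψ : G → ℂ) g)
      (mem_univ (Char.principal G))]
  simp only [Pi.smul_apply, smul_eq_mul, Function.update_self, Int.cast_zero, zero_mul, zero_add, h0]
  rw [show ((Char.principal G : IrrCharacter G) : G → ℂ) g = 1 from rfl, mul_one]
  congr 1
  exact sum_congr rfl fun ψ hψ => by rw [Function.update_of_ne (ne_of_mem_erase hψ)]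

/-- Inner products of the reduced coefficients. -/
theorem reduced_inner {a b : G → ℂ} {k l : ℤ} {c e : IrrCharacter G → ℤ}
    (hc0 : c (Char.principal G) = 0) (he0 : e (Char.principal G) = 0)
    (hc : ∀ g, a g = (k : ℂ) + ∑ ψ, (c ψ : ℂ) * (ψ : G → ℂ) g)
    (he : ∀ g, b g = (l : ℂ) + ∑ ψ, (e ψ : ℂ) * (ψ : G → ℂ) g) {n : ℤ}
    (hab : classInner a b = (n : ℂ)) : ∑ ψ, c ψ * e ψ = n - k * l := by
  classical
  have conv : ∀ {a : G → ℂ} {k : ℤ} {c : IrrCharacter G → ℤ}, c (Char.principal G) = 0 →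
      (∀ g, a g = (k : ℂ) + ∑ ψ, (c ψ : ℂ) * (ψ : G → ℂ) g) →
      a = ∑ ψ, ((if ψ = Char.principal G then k else c ψ : ℤ) : ℂ) • (ψ : G → ℂ) := by
    intro a k c h0 h
    funext g
    rw [h g, Finset.sum_apply, ← add_sum_erase _ _ (mem_univ (Char.principal G))]
    conv_rhs => rw [← add_sum_erase _ _ (mem_univ (Char.principal G))]
    simp only [Pi.smul_apply, smul_eq_mul, h0, Int.cast_zero, zero_mul, zero_add, if_pos]
    rw [show ((Char.principal G : IrrCharacter G) : G → ℂ) g = 1 from rfl, mul_one]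
    congr 1
    exact sum_congr rfl fun ψ hψ => by rw [if_neg (ne_of_mem_erase hψ)]
  rw [conv hc0 hc, conv he0 he, classInner_combination₂] at hab
  simp only [map_intCast] at hab
  have h2 : (∑ ψ, (if ψ = Char.principal G then k else c ψ) *
      (if ψ = Char.principal G then l else e ψ)) = n := by exact_mod_cast hab
  rw [← add_sum_erase _ _ (mem_univ (Char.principal G)), if_pos rfl, if_pos rfl] at h2
  rw [← add_sum_erase _ _ (mem_univ (Char.principal G)), hc0, zero_mul, zero_add, ← h2,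
    add_sub_cancel_left]
  exact sum_congr rfl fun ψ hψ => by
    rw [if_neg (ne_of_mem_erase hψ), if_neg (ne_of_mem_erase hψ)]

/-- The degree as an integer. -/
noncomputable def deg (χ : IrrCharacter G) : ℤ := (charDegree (χ : G → ℂ) : ℤ)

theorem deg_cast (χ : IrrCharacter G) : (deg χ : ℂ) = (χ : G → ℂ) 1 := by
  rw [deg, irr_one_eq_charDegree]; norm_num

theorem deg_principal : deg (Char.principal G) = 1 := by
  have h := deg_cast (Char.principal G)
  rw [show ((Char.principal G : IrrCharacter G) : G → ℂ) 1 = 1 from rfl] at h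
  exact_mod_cast h

theorem deg_ne (χ : IrrCharacter G) : deg χ ≠ 0 := fun h =>
  irr_one_ne_zero χ (by rw [← deg_cast, h, Int.cast_zero])

theorem deg_pos (χ : IrrCharacter G) : 0 < deg χ :=
  lt_of_le_of_ne (by rw [deg]; positivity) (deg_ne χ).symm

/-- The degrees in a block of a function vanishing on the elements of odd order cancel. -/
theorem block_degree {M : Ideal AlgInt} [M.IsPrime] (hM : IsPModular 2 M) {f : G → ℂ}
    (hf : ∀ g, ¬ 2 ∣ orderOf g → f g = 0) {k : ℤ} {c : IrrCharacter G → ℤ}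
    (hc0 : c (Char.principal G) = 0)
    (hc : ∀ g, f g = (k : ℂ) + ∑ ψ, (c ψ : ℂ) * (ψ : G → ℂ) g)
    [DecidablePred (· ∈ principalBlock M G)] :
    k + ∑ ψ, c ψ * (if ψ ∈ principalBlock M G then deg ψ else 0) = 0 := by
  classical
  have hB := isPBlock_principalBlock M G
  have h0 : blockPart (principalBlock M G) f 1 = 0 := by
    rw [blockPart_eq_pair, sum_eq_zero fun x _ => ?_, mul_zero]
    by_cases hx : 2 ∣ orderOf x
    · rw [blockPair_regular_singular hM hB (by simp) hx, mul_zero]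
    · rw [hf x hx, zero_mul]
  have conv : f = ∑ ψ, ((if ψ = Char.principal G then k else c ψ : ℤ) : ℂ) • (ψ : G → ℂ) := by
    funext g
    rw [hc g, Finset.sum_apply, ← add_sum_erase _ _ (mem_univ (Char.principal G))]
    conv_rhs => rw [← add_sum_erase _ _ (mem_univ (Char.principal G))]
    simp only [Pi.smul_apply, smul_eq_mul, hc0, Int.cast_zero, zero_mul, zero_add, if_pos]
    rw [show ((Char.principal G : IrrCharacter G) : G → ℂ) g = 1 from rfl, mul_one]
    congr 1
    exact sum_congr rfl fun ψ hψ => by rw [if_neg (ne_of_mem_erase hψ)]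
  rw [blockPart_eq_sum, sum_filter] at h0
  have h2 : ∑ ψ, (if ψ = Char.principal G then k else c ψ) *
      (if ψ ∈ principalBlock M G then deg ψ else 0) = 0 := by
    have hk : ∀ ψ : IrrCharacter G, classInner f (ψ : G → ℂ) =
        ((if ψ = Char.principal G then k else c ψ : ℤ) : ℂ) := fun ψ => by
      rw [conv, classInner_combination]
    simp only [hk, ← deg_cast] at h0
    have h3 : ((∑ ψ, (if ψ = Char.principal G then k else c ψ) *
        (if ψ ∈ principalBlock M G then deg ψ else 0) : ℤ) : ℂ) = ((0 : ℤ) : ℂ) := by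
      rw [Int.cast_zero]
      refine Eq.trans ?_ h0
      push_cast
      exact sum_congr rfl fun ψ _ => by split_ifs <;> simp
    exact_mod_cast h3
  rw [← add_sum_erase _ _ (mem_univ (Char.principal G)), if_pos rfl,
    if_pos principal_mem_principalBlock, deg_principal, mul_one] at h2
  refine Eq.trans ?_ h2
  congr 1
  rw [← add_sum_erase _ _ (mem_univ (Char.principal G)), hc0, zero_mul, zero_add]
  exact sum_congr rfl fun ψ hψ => by rw [if_neg (ne_of_mem_erase hψ)]

variable {z : G} {q : ℤ} {Ne No : ℕ}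

/-- Every system of exceptional functions has its members in the principal block. -/
theorem Fam.exists_mems (F : Fam G z q Ne No) {M : Ideal AlgInt} [M.IsPrime]
    (hM : IsPModular 2 M) : Nonempty (Mems F M) := by
  classical
  choose cγ cγ0 cγe cγi using fun a => exists_reduced (k := 1) (F.gγ a) (by rw [F.γ1]; norm_num)
  choose cf cf0 cfe cfi using fun a => exists_reduced (k := 0) (F.gf a) (by rw [F.f1]; norm_num)
  obtain ⟨cφ, cφ0, cφe, cφi⟩ := exists_reduced (k := 1) F.gφ (by rw [F.φ1]; norm_num)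
  obtain ⟨cα, cα0, cαe, cαi⟩ := exists_reduced (k := 1) F.gα (by rw [F.α1]; norm_num)
  have one : ¬ 2 ∣ orderOf (1 : G) := by simp
  have degsum : ∀ {f : G → ℂ} {k : ℤ} {c : IrrCharacter G → ℤ},
      (∀ g, f g = (k : ℂ) + ∑ ψ, (c ψ : ℂ) * (ψ : G → ℂ) g) → f 1 = 0 →
      ∑ ψ, c ψ * deg ψ = -k := by
    intro f k c hc h1
    have h : ((k + ∑ ψ, c ψ * deg ψ : ℤ) : ℂ) = ((0 : ℤ) : ℂ) := by
      rw [Int.cast_zero, ← h1, hc 1]
      push_cast
      exact congrArg _ (sum_congr rfl fun ψ _ => by rw [deg_cast])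
    have : k + ∑ ψ, c ψ * deg ψ = 0 := by exact_mod_cast h
    linarith
  let v : Vecs (IrrCharacter G) deg Ne No := {
    γ := cγ, f := cf, φ := cφ, α := cα, e0 := F.e0, hNe := F.hNe, hNo := F.hNo
    γγ := fun a b => by
      rw [reduced_inner (cγ0 a) (cγ0 b) (cγe a) (cγe b) (n := if a = b then 3 else 2)
        (by rw [F.γγ]; split_ifs <;> norm_num)]
      split_ifs <;> norm_num
    γφ := fun a => by
      rw [reduced_inner (cγ0 a) cφ0 (cγe a) cφe (n := 2) (by rw [F.γφ]; norm_num)]; norm_num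
    φφ := by rw [reduced_inner cφ0 cφ0 cφe cφe (n := 4) (by rw [F.φφ]; norm_num)]; norm_num
    ff := fun a b => by
      rw [reduced_inner (cf0 a) (cf0 b) (cfe a) (cfe b) (n := if a = b then 2 else 1)
        (by rw [F.ff]; split_ifs <;> norm_num)]
      split_ifs <;> norm_num
    fγ := fun a b => by
      rw [reduced_inner (cf0 a) (cγ0 b) (cfe a) (cγe b) (n := if b = F.e0 then 1 else 0)
        (by rw [F.fγ]; split_ifs <;> norm_num)]
      split_ifs <;> norm_num
    fφ := fun a => by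
      rw [reduced_inner (cf0 a) cφ0 (cfe a) cφe (n := 0) (by rw [F.fφ]; norm_num)]; norm_num
    αα := by rw [reduced_inner cα0 cα0 cαe cαe (n := 3) (by rw [F.αα]; norm_num)]; norm_num
    αγ := fun a => by
      rw [reduced_inner cα0 (cγ0 a) cαe (cγe a) (n := 1) (by rw [F.αγ]; norm_num)]; norm_num
    αφ := by rw [reduced_inner cα0 cφ0 cαe cφe (n := 2) (by rw [F.αφ]; norm_num)]; norm_num
    αf := fun a => by
      rw [reduced_inner cα0 (cf0 a) cαe (cfe a) (n := 0) (by rw [F.αf]; norm_num)]; norm_num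
    γd := fun a => degsum (cγe a) (F.γodd a 1 one)
    φd := degsum cφe (F.φodd 1 one)
    fd := fun a => by rw [degsum (cfe a) (F.fodd a 1 one), neg_zero] }
  obtain ⟨sh⟩ := v.exists_shape
  -- evaluation
  have two : ∀ (i j : IrrCharacter G) (s t : ℤ) (g : G),
      ∑ ψ, (((Pi.single i s + Pi.single j t : IrrCharacter G → ℤ) ψ : ℤ) : ℂ) * (ψ : G → ℂ) g =
        (s : ℂ) * (i : G → ℂ) g + (t : ℂ) * (j : G → ℂ) g := by
    intro i j s t g
    simp only [Pi.add_apply, Int.cast_add, add_mul, sum_add_distrib]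
    congr 1 <;> rw [sum_eq_single _ (fun l _ hl => by
      rw [Pi.single_eq_of_ne hl, Int.cast_zero, zero_mul]) (fun h => absurd (mem_univ _) h),
      Pi.single_eq_same]
  have three : ∀ (i j l : IrrCharacter G) (s t r : ℤ) (g : G),
      ∑ ψ, (((Pi.single i s + (Pi.single j t + Pi.single l r) : IrrCharacter G → ℤ) ψ : ℤ) : ℂ) *
        (ψ : G → ℂ) g = (s : ℂ) * (i : G → ℂ) g + ((t : ℂ) * (j : G → ℂ) g +
          (r : ℂ) * (l : G → ℂ) g) := by
    intro i j l s t r g
    simp only [Pi.add_apply, Int.cast_add, add_mul, sum_add_distrib]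
    congr 1
    swap
    congr 1
    all_goals rw [sum_eq_single _ (fun m _ hl => by
      rw [Pi.single_eq_of_ne hl, Int.cast_zero, zero_mul]) (fun h => absurd (mem_univ _) h),
      Pi.single_eq_same]
  have hγ : ∀ a g, F.γ a g = 1 + (sh.sA : ℂ) * (sh.A : G → ℂ) g +
      (sh.sX a : ℂ) * (sh.X a : G → ℂ) g := fun a g => by
    rw [cγe a g, show cγ a = Pi.single sh.A sh.sA + Pi.single (sh.X a) (sh.sX a) from sh.hγ a, two,
      Int.cast_one, add_assoc]
  have hφ : ∀ g, F.φ g = 1 + (sh.sA : ℂ) * (sh.A : G → ℂ) g + (sh.sP : ℂ) * (sh.P : G → ℂ) g +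
      (sh.sR : ℂ) * (sh.R : G → ℂ) g := fun g => by
    rw [cφe g, show cφ = _ from sh.hφ, three, Int.cast_one]
    ring
  have hf : ∀ a g, F.f a g = (sh.sX F.e0 : ℂ) * (sh.X F.e0 : G → ℂ) g -
      (sh.sY a : ℂ) * (sh.Y a : G → ℂ) g := fun a g => by
    rw [cfe a g, show cf a = _ from sh.hf a, two, Int.cast_zero, zero_add, Int.cast_neg, neg_mul,
      ← sub_eq_add_neg]
  have hα : ∀ g, F.α g = 1 + (sh.sP : ℂ) * (sh.P : G → ℂ) g + (sh.sE : ℂ) * (sh.E : G → ℂ) g :=
    fun g => by rw [cαe g, show cα = _ from sh.hα, two, Int.cast_one, add_assoc]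
  -- none is principal
  have ne : ∀ {c : IrrCharacter G → ℤ} {i : IrrCharacter G}, c (Char.principal G) = 0 → c i ≠ 0 →
      i ≠ Char.principal G := fun h0 hi e => hi (e ▸ h0)
  have sne : ∀ {s : ℤ}, s * s = 1 → s ≠ 0 := fun h e => by simp [e] at h
  have nA : sh.A ≠ Char.principal G := ne (cγ0 F.e0) (by
    rw [show cγ F.e0 = _ from sh.hγ F.e0]; simp [sh.AX F.e0, sne sh.hsA])
  have nX : ∀ a, sh.X a ≠ Char.principal G := fun a => ne (cγ0 a) (by
    rw [show cγ a = _ from sh.hγ a]; simp [(sh.AX a).symm, sne (sh.hsX a)])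
  have nY : ∀ o, sh.Y o ≠ Char.principal G := fun o => ne (cf0 o) (by
    rw [show cf o = _ from sh.hf o]; simp [(sh.XY _ o).symm, sne (sh.hsY o)])
  have nP : sh.P ≠ Char.principal G := ne cα0 (by
    rw [show cα = _ from sh.hα]; simp [sh.PE, sne sh.hsP])
  have nE : sh.E ≠ Char.principal G := ne cα0 (by
    rw [show cα = _ from sh.hα]; simp [sh.PE.symm, sne sh.hsE])
  have nR : sh.R ≠ Char.principal G := ne cφ0 (by
    rw [show cφ = _ from sh.hφ]; simp [sh.AR.symm, sh.PR.symm, sne sh.hsR])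
  -- membership in the principal block
  set I : IrrCharacter G → ℤ := fun ψ => if ψ ∈ principalBlock M G then deg ψ else 0 with hI
  have bγ : ∀ a, 1 + (sh.sA * I sh.A + sh.sX a * I (sh.X a)) = 0 := fun a => by
    have h := block_degree hM (F.γodd a) (cγ0 a) (cγe a)
    rwa [show cγ a = _ from sh.hγ a, dot_two] at h
  have bf : ∀ o, sh.sX F.e0 * I (sh.X F.e0) + -sh.sY o * I (sh.Y o) = 0 := fun o => by
    have h := block_degree hM (F.fodd o) (cf0 o) (cfe o)
    rwa [show cf o = _ from sh.hf o, dot_two, zero_add] at h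
  have bα : 1 + (sh.sP * I sh.P + sh.sE * I sh.E) = 0 := by
    have h := block_degree hM F.αodd cα0 cαe
    rwa [show cα = _ from sh.hα, dot_two] at h
  have bφ : 1 + (sh.sA * I sh.A + (sh.sP * I sh.P + sh.sR * I sh.R)) = 0 := by
    have h := block_degree hM F.φodd cφ0 cφe
    rw [show cφ = _ from sh.hφ] at h
    simpa only [Pi.add_apply, add_mul, sum_add_distrib, dot_single] using h
  have dγ : ∀ a, sh.sA * deg sh.A + sh.sX a * deg (sh.X a) = -1 := fun a => by
    have h := v.γd a; rwa [sh.hγ a, dot_two] at h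
  have dφ : sh.sA * deg sh.A + (sh.sP * deg sh.P + sh.sR * deg sh.R) = -1 := by
    have h := v.φd
    rw [sh.hφ] at h
    simpa only [Pi.add_apply, add_mul, sum_add_distrib, dot_single] using h
  have dα : sh.sP * deg sh.P + sh.sE * deg sh.E = -1 := by
    have h := degsum cαe (F.αodd 1 one)
    rwa [show cα = _ from sh.hα, dot_two] at h
  have nz : ∀ {s : ℤ} (χ : IrrCharacter G), s * s = 1 → s * deg χ ≠ 0 :=
    fun χ h => mul_ne_zero (sne h) (deg_ne χ)
  have Ival : ∀ χ, I χ = deg χ ∧ χ ∈ principalBlock M G ∨ I χ = 0 := fun χ => by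
    by_cases h : χ ∈ principalBlock M G
    · exact Or.inl ⟨if_pos h, h⟩
    · exact Or.inr (if_neg h)
  have hAX : sh.A ∈ principalBlock M G ∧ ∀ a, sh.X a ∈ principalBlock M G := by
    have base : ∀ a, sh.A ∈ principalBlock M G ∧ sh.X a ∈ principalBlock M G := by
      intro a
      have hn1 := nz sh.A sh.hsA
      have hn2 := nz (sh.X a) (sh.hsX a)
      have hb := bγ a
      have hd := dγ a
      rcases Ival sh.A with ⟨e1, m1⟩ | e1 <;> rcases Ival (sh.X a) with ⟨e2, m2⟩ | e2
      · exact ⟨m1, m2⟩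
      all_goals rw [e1, e2] at hb
      all_goals simp only [mul_zero, add_zero, zero_add] at hb
      · exact absurd (by linarith) hn2
      · exact absurd (by linarith) hn1
      · omega
    exact ⟨(base F.e0).1, fun a => (base a).2⟩
  have hIX : ∀ a, I (sh.X a) = deg (sh.X a) := fun a => if_pos (hAX.2 a)
  have hIA : I sh.A = deg sh.A := if_pos hAX.1
  have hY : ∀ o, sh.Y o ∈ principalBlock M G := by
    intro o
    rcases Ival (sh.Y o) with ⟨-, m⟩ | e
    · exact m
    · exfalso
      have := bf o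
      rw [e, hIX, mul_zero, add_zero] at this
      exact nz _ (sh.hsX F.e0) this
  have hPR : sh.P ∈ principalBlock M G ∧ sh.E ∈ principalBlock M G ∧ sh.R ∈ principalBlock M G := by
    have hn1 := nz sh.P sh.hsP
    have hn2 := nz sh.R sh.hsR
    have hn3 := nz sh.E sh.hsE
    have hn4 := nz sh.A sh.hsA
    have hn5 := nz (sh.X F.e0) (sh.hsX F.e0)
    have hd := dγ F.e0
    rw [hIA] at bφ
    rcases Ival sh.E with ⟨e2, m2⟩ | e2
    · rcases Ival sh.P with ⟨e1, m1⟩ | e1
      · rcases Ival sh.R with ⟨e3, m3⟩ | e3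
        · exact ⟨m1, m2, m3⟩
        · rw [e1, e3, mul_zero, add_zero] at bφ
          exact absurd (by linarith) hn2
      · rcases Ival sh.R with ⟨e3, m3⟩ | e3
        · rw [e1, e3, mul_zero, zero_add] at bφ
          exact absurd (by linarith) hn1
        · rw [e1, e3, mul_zero, mul_zero, add_zero, add_zero] at bφ
          exact absurd (by linarith) hn5
    · rw [e2, mul_zero, add_zero] at bα
      rcases Ival sh.P with ⟨e1, m1⟩ | e1
      · rw [e1] at bα
        exact absurd (by linarith) hn3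
      · rw [e1, mul_zero] at bα
        omega
  refine ⟨{ A := sh.A, P := sh.P, R := sh.R, E := sh.E, X := sh.X, Y := sh.Y, sA := sh.sA,
            sP := sh.sP, sR := sh.sR, sE := sh.sE, sX := sh.sX, sY := sh.sY, hsA := sh.hsA,
            hsP := sh.hsP, hsR := sh.hsR, hsE := sh.hsE, hsX := sh.hsX, hsY := sh.hsY,
            hγ := hγ, hφ := hφ, hf := hf, hα := hα, mem := _, mem_eq := rfl, mem_inj := ?_,
            mem_block := ?_ }⟩
  · refine Function.Injective.sumElim ?_ ?_ ?_
    · intro i j h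
      fin_cases i <;> fin_cases j <;>
        simp [nA, nP, nR, nE, nA.symm, nP.symm, nR.symm, nE.symm, sh.AP, sh.AR, sh.AE, sh.PR,
          sh.PE, sh.RE, sh.AP.symm, sh.AR.symm, sh.AE.symm, sh.PR.symm, sh.PE.symm,
          sh.RE.symm] at h ⊢
    · exact Function.Injective.sumElim sh.X_inj sh.Y_inj fun a b => sh.XY a b
    · intro i j
      rcases j with a | o <;> fin_cases i <;>
        simp [(nX _).symm, (nY _).symm, sh.AX, sh.PX, sh.RX, sh.EX, sh.AY, sh.PY, sh.RY, sh.EY]
  · rintro (i | a | o)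
    · fin_cases i <;>
        simp [principal_mem_principalBlock, hAX.1, hPR.1, hPR.2.1, hPR.2.2]
    · exact hAX.2 a
    · exact hY o

end Cfsg.Agent.SDPack
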