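import Cfsg.Agent.Lib.SDPack.FuncsU
import Cfsg.Agent.Lib.SDPack.Members

/-!
The exceptional functions on `H`.
-/

set_option autoImplicit false
set_option linter.style.haveILetI false
set_option linter.unusedSectionVars false
set_option linter.unusedFintypeInType false

namespace Cfsg.Agent.SDPack

open Cfsg Cfsg.Agent.Char Finset
open scoped ComplexConjugate Classical

universe u

theorem classInner_comm_int {G : Type u} [Group G] [Fintype G] {a b : G → ℂ} {n : ℤ}
    (h : classInner a b = n) : classInner b a = n := by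
  rw [← classInner_conj_symm a b, h, map_intCast]

/-- An inner product with a function vanishing off a central involution. -/
theorem inner_fix_zero {A : Type u} [Group A] [Fintype A] {ζ : A} (hζ : ζ ≠ 1) {θ F : A → ℂ}
    (h1 : θ 1 = 0) (hF : ∀ s, s ≠ 1 → s ≠ ζ → F s = 0) :
    classInner θ F = (Nat.card A : ℂ)⁻¹ * (θ ζ * conj (F ζ)) := by
  have h := inner_fix hζ (E := 0) h1 hF
  rwa [classInner_zero_right, zero_add, Pi.zero_apply, sub_zero] at h

namespace Model

variable {H : Type u} [Group H] [Fintype H] {p : ℕ} (D : Model H p)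

theorem z_ne' {A : Subgroup H} (hz : D.z ∈ A) : (⟨D.z, hz⟩ : A) ≠ 1 := D.z_inj hz

/-! ### Induced from `U` -/

theorem Φ_gen : IsGeneralizedCharacter H D.Φ :=
  IsGeneralizedCharacter.indFun _ (IsGeneralizedCharacter.sub
    (IsGeneralizedCharacter.of_isCharacter (IsIrrCharacter.isCharacter
      (isIrrCharacter_linear ((powMonoidHom 2).comp D.ν))))
    (IsGeneralizedCharacter.of_isCharacter (IsIrrCharacter.isCharacter
      (isIrrCharacter_linear ((powMonoidHom (p + 2)).comp D.ν)))))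

theorem Φ_class : IsClassFunction H D.Φ := isClassFunction_indFun _ _

include D in
theorem p_ge : 3 ≤ p := by
  have := D.hp.two_le
  have := D.hp2
  omega

theorem Φ_Φ : classInner D.Φ D.Φ = 2 * (p : ℂ) := by
  rw [show classInner D.Φ D.Φ = classInner (indFun D.U D.θU) D.Φ from rfl,
    classInner_indFun_left _ _ D.Φ_class,
    inner_fix (D.z_ne' D.z_U) (E := fun v => D.nf p v - 1) D.θU_one D.Φ_U]
  have h3 := D.p_ge
  have e : classInner D.θU (fun v => D.nf p v - 1) = 0 := by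
    rw [show (fun v => D.nf p v - 1) = D.nf p - D.nf 0 by rw [D.nf_zero]; rfl, θU]
    simp only [classInner_sub_left, classInner_sub_right]
    rw [D.nf_inner (by omega) (by omega), D.nf_inner (by omega) (by omega),
      D.nf_inner (by omega) (by omega), D.nf_inner (by omega) (by omega), if_neg (by omega),
      if_neg (by omega), if_neg (by omega), if_neg (by omega)]
    ring
  have hν : D.nf p ⟨D.z, D.z_U⟩ = -1 := by
    rw [nf, D.ν_z, (D.hp.odd_of_ne_two D.hp2).neg_one_pow]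
    simp
  rw [e, zero_add, D.θU_z, D.card_U, hν]
  simp only [D.Φ_z, map_sub, map_mul, map_neg, map_one, Complex.conj_natCast, map_ofNat]
  have hp : (p : ℂ) ≠ 0 := Nat.cast_ne_zero.2 D.hp.ne_zero
  have hprod : (D.cp : ℂ) * D.cm = (p : ℂ) * p - 1 := by
    have h1 := D.cp_mul
    have h2 : (D.cp : ℂ) + D.cm = 2 * p := by exact_mod_cast D.cp_add_cm
    have h3 := D.cm_mul
    have h4 : ((D.q : ℂ)) * D.q = (p : ℂ) * p := by
      have : D.q * D.q = (p : ℤ) * p := by rw [← Int.natAbs_mul_self (a := D.q), D.hq]; push_cast; rfl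
      exact_mod_cast this
    have : ((D.cp : ℤ) * D.cm : ℤ) = (p : ℤ) * p - 1 := by
      have := D.hq
      have := D.hp.two_le
      rcases Int.natAbs_eq D.q with e | e <;> unfold cp cm
      · rw [show ((D.q + 1).natAbs : ℤ) = D.q + 1 by omega,
          show ((D.q - 1).natAbs : ℤ) = D.q - 1 by omega, show (p : ℤ) = D.q by omega]
        ring
      · rw [show ((D.q + 1).natAbs : ℤ) = -(D.q + 1) by omega,
          show ((D.q - 1).natAbs : ℤ) = -(D.q - 1) by omega, show (p : ℤ) = -D.q by omega]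
        ring
    exact_mod_cast this
  rw [hprod]
  push_cast
  field_simp
  ring

theorem Φ_const : classInner D.Φ (fun _ => 1) = 0 := by
  rw [Φ, classInner_indFun_left _ _ (fun _ _ => rfl), ← D.nf_zero, θU, classInner_sub_left,
    D.nf_inner (by have := D.p_ge; omega) (by have := D.p_ge; omega),
    D.nf_inner (by have := D.p_ge; omega) (by have := D.p_ge; omega), if_neg (by omega),
    if_neg (by omega), sub_zero]

/-- The sign character as a function. -/
noncomputable def εf : H → ℂ := fun g => (D.ε g : ℂ)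

theorem εf_class : IsClassFunction H D.εf :=
  IsCharacter.isClassFunction (IsIrrCharacter.isCharacter (isIrrCharacter_linear D.ε))

theorem Φ_εf : classInner D.Φ D.εf = 0 := by
  rw [Φ, classInner_indFun_left _ _ D.εf_class, ← D.Φ_const, Φ,
    classInner_indFun_left _ _ (fun _ _ => rfl)]
  congr 1
  funext v
  simp [εf, D.ε_pos (D.U_le_L v.2)]

/-! ### Induced from `T` -/

/-- A difference of two powers of `κ`. -/
noncomputable def dT (a b : ℤ) : D.T → ℂ := D.kf a - D.kf b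

/-- The induced difference. -/
noncomputable def IT (a b : ℤ) : H → ℂ := indFun D.T (D.dT a b)

theorem dT_one (a b : ℤ) : D.dT a b 1 = 0 := by simp [dT, kf]

theorem IT_class (a b : ℤ) : IsClassFunction H (D.IT a b) := isClassFunction_indFun _ _

theorem IT_gen (a b : ℤ) : IsGeneralizedCharacter H (D.IT a b) :=
  IsGeneralizedCharacter.indFun _ (IsGeneralizedCharacter.sub
    (IsGeneralizedCharacter.of_isCharacter (IsIrrCharacter.isCharacter
      (isIrrCharacter_linear ((zpowGroupHom a).comp D.κ))))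
    (IsGeneralizedCharacter.of_isCharacter (IsIrrCharacter.isCharacter
      (isIrrCharacter_linear ((zpowGroupHom b).comp D.κ)))))

theorem IT_z (a b : ℤ) : D.IT a b D.z = (p : ℂ) * D.cm * D.dT a b ⟨D.z, D.z_T⟩ := by
  rw [IT, D.z_ind _ D.z_T, D.index_T]
  push_cast
  ring

/-- The inner product with a class function given on `T` off the centre. -/
theorem IT_inner {a b : ℤ} {F : H → ℂ} (hF : IsClassFunction H F) {E : D.T → ℂ}
    (hE : ∀ t : D.T, t ≠ 1 → t ≠ ⟨D.z, D.z_T⟩ → F t = E t) :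
    classInner (D.IT a b) F = classInner (D.dT a b) E + (2 * (D.cp : ℂ))⁻¹ *
      (D.dT a b ⟨D.z, D.z_T⟩ * conj (F D.z - E ⟨D.z, D.z_T⟩)) := by
  rw [IT, classInner_indFun_left _ _ hF, inner_fix (D.z_ne' D.z_T) (D.dT_one a b) hE, D.card_T]
  congr 2
  unfold cp
  push_cast
  rfl

theorem IT_IT {a b c d c' d' : ℤ}
    (hc : ∀ t : D.T, D.kf c ⟨D.u * t * D.u⁻¹, D.u_conj_T t.2⟩ = D.kf c' t)
    (hd : ∀ t : D.T, D.kf d ⟨D.u * t * D.u⁻¹, D.u_conj_T t.2⟩ = D.kf d' t) :
    classInner (D.IT a b) (D.IT c d) = classInner (D.dT a b) (D.dT c d + D.dT c' d') +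
      (2 * (D.cp : ℂ))⁻¹ * (D.dT a b ⟨D.z, D.z_T⟩ *
        conj (((p : ℂ) * D.cm - 2) * D.dT c d ⟨D.z, D.z_T⟩)) := by
  have he : ∀ t : D.T, D.dT c d ⟨D.u * t * D.u⁻¹, D.u_conj_T t.2⟩ = D.dT c' d' t := fun t => by
    simp only [dT, Pi.sub_apply, hc, hd]
  rw [D.IT_inner (D.IT_class c d) (E := D.dT c d + D.dT c' d') fun t h1 h2 => ?_]
  · congr 3
    have hz : D.dT c' d' ⟨D.z, D.z_T⟩ = D.dT c d ⟨D.z, D.z_T⟩ := by
      rw [← he ⟨D.z, D.z_T⟩]
      congr 1
      exact Subtype.ext (by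
        show D.u * D.z * D.u⁻¹ = D.z
        rw [D.z_comm, mul_inv_cancel_right])
    rw [D.IT_z, Pi.add_apply, hz]
    congr 1
    ring
  · rw [IT, D.T_ind t.2 (D.ne_of_coe D.z_T h1 h2), Pi.add_apply, ← he]

theorem Φ_IT (a b : ℤ) : classInner D.Φ (D.IT a b) =
    (D.cm : ℂ) * conj (D.dT a b ⟨D.z, D.z_T⟩) := by
  rw [Φ, classInner_indFun_left _ _ (D.IT_class a b),
    inner_fix_zero (D.z_ne' D.z_U) D.θU_one fun v h1 h2 => ?_]
  · rw [D.θU_z, D.card_U]
    show _ * (2 * conj (D.IT a b D.z)) = _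
    rw [D.IT_z]
    simp only [map_mul, Complex.conj_natCast]
    have hp : (p : ℂ) ≠ 0 := Nat.cast_ne_zero.2 D.hp.ne_zero
    push_cast
    field_simp
  · exact indFun_eq_zero_of_forall _ _ (D.U_not_T v.2 (D.ne_of_coe D.z_U h1 h2))

theorem IT_const (a b : ℤ) : classInner (D.IT a b) (fun _ => 1) =
    classInner (D.dT a b) (D.kf 0) := by
  rw [IT, classInner_indFun_left _ _ (fun _ _ => rfl)]
  congr 1

/-! ### Induced from `T₁` -/

/-- The sign character restricted to `T₁` minus `η`. -/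
noncomputable def θ1 : D.T1 → ℂ := fun t => D.εf t - (D.η t : ℂ)

theorem θ1_one : D.θ1 1 = 0 := by simp [θ1, εf]

theorem θ1_z : D.θ1 ⟨D.z, D.z_T1⟩ = 2 := by
  rw [θ1, D.η_z, εf, D.ε_pos D.z_mem]
  norm_num

/-- The function induced from `T₁`. -/
noncomputable def Ψ : H → ℂ := indFun D.T1 D.θ1

theorem Ψ_class : IsClassFunction H D.Ψ := isClassFunction_indFun _ _

theorem Ψ_gen : IsGeneralizedCharacter H D.Ψ :=
  IsGeneralizedCharacter.indFun _ (IsGeneralizedCharacter.sub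
    (IsGeneralizedCharacter.of_isCharacter (IsIrrCharacter.isCharacter
      (isIrrCharacter_linear (D.ε.comp D.T1.subtype))))
    (IsGeneralizedCharacter.of_isCharacter (IsIrrCharacter.isCharacter
      (isIrrCharacter_linear D.η))))

theorem Ψ_z : D.Ψ D.z = 2 * ((p : ℂ) * D.cp) := by
  rw [Ψ, D.z_ind _ D.z_T1, D.index_T1, D.θ1_z]
  push_cast
  ring

theorem εf_val {g : H} : (g ∈ D.L ∧ D.εf g = 1) ∨ (g ∉ D.L ∧ D.εf g = -1) := by
  by_cases h : g ∈ D.L
  · exact Or.inl ⟨h, by rw [εf, D.ε_pos h]; rfl⟩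
  · exact Or.inr ⟨h, by rw [εf, D.ε_neg h]; rfl⟩

theorem η_w (t : D.T1) :
    (D.η ⟨D.w * t * D.w⁻¹, D.w_conj_T1 t.2⟩ : ℂ) = D.εf t * (D.η t : ℂ) := by
  obtain ⟨m, hm⟩ := D.mT1_odd
  have hpar : ((t : H) ^ D.mT1 ∈ D.L) ↔ (t : H) ∈ D.L := by
    rw [hm, pow_succ, pow_mul, Subgroup.mul_mem_cancel_left]
    exact pow_mem (by rw [pow_two]; exact D.sq_mem_L _) _
  have hw : D.w * D.u * D.w⁻¹ = D.u * D.z := D.wu
  have hwz : D.w * D.z * D.w⁻¹ = D.z := by rw [D.z_comm, mul_inv_cancel_right]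
  have hwuz : D.w * (D.u * D.z) * D.w⁻¹ = D.u := by
    calc D.w * (D.u * D.z) * D.w⁻¹ = (D.w * D.u * D.w⁻¹) * (D.w * D.z * D.w⁻¹) := by group
      _ = D.u := by rw [hw, hwz, mul_assoc, D.zz, mul_one]
  have huz : D.u * D.z ∉ D.L := fun h =>
    D.u_not ((Subgroup.mul_mem_cancel_right _ D.z_mem).1 h)
  have hconj : ((⟨D.w * t * D.w⁻¹, D.w_conj_T1 t.2⟩ : D.T1) : H) ^ D.mT1 =
      D.w * (t : H) ^ D.mT1 * D.w⁻¹ := conj_pow
  have pos : ∀ {v : D.T1}, ((v : H) ^ D.mT1 = 1 ∨ (v : H) ^ D.mT1 = D.u) → D.η v = 1 :=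
    fun h => by rw [D.η_apply, ηfun, if_pos h]
  have neg : ∀ {v : D.T1}, ((v : H) ^ D.mT1 = D.z ∨ (v : H) ^ D.mT1 = D.u * D.z) → D.η v = -1 :=
    fun h => by rw [D.η_apply, D.ηfun_z_or h]
  rcases D.T1_pow t with e | e | e | e <;> rw [e] at hconj hpar
  · rw [mul_one, mul_inv_cancel] at hconj
    rw [pos (Or.inl hconj), pos (Or.inl e), εf, D.ε_pos (hpar.1 (one_mem _))]
    simp
  · rw [hwz] at hconj
    rw [neg (Or.inl hconj), neg (Or.inl e), εf, D.ε_pos (hpar.1 D.z_mem)]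
    simp
  · rw [hw] at hconj
    rw [neg (Or.inr hconj), pos (Or.inr e), εf, D.ε_neg (fun h => D.u_not (hpar.2 h))]
    simp
  · rw [hwuz] at hconj
    rw [pos (Or.inr hconj), neg (Or.inr e), εf, D.ε_neg (fun h => huz (hpar.2 h))]
    simp

theorem Ψ_T1 (t : D.T1) (h1 : t ≠ 1) (h2 : t ≠ ⟨D.z, D.z_T1⟩) :
    D.Ψ t = 2 * D.εf t - (D.η t : ℂ) - D.εf t * (D.η t : ℂ) := by
  rw [Ψ, D.T1_ind t.2 (D.ne_of_coe D.z_T1 h1 h2)]
  simp only [θ1, D.η_w]
  rw [show D.εf (D.w * t * D.w⁻¹) = D.εf t by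
    show (D.ε _ : ℂ) = (D.ε _ : ℂ)
    rw [D.ε_conj]]
  ring

theorem Ψ_off_T {t : H} (ht : t ∈ D.T) (hs : t ≠ 1 ∧ t ≠ D.z) : D.Ψ t = 0 :=
  indFun_eq_zero_of_forall _ _ (D.T_not_T1 ht hs)

theorem Φ_off_T {t : H} (ht : t ∈ D.T) (hs : t ≠ 1 ∧ t ≠ D.z) : D.Φ t = 0 :=
  indFun_eq_zero_of_forall _ _ (D.T_not_U ht hs)

/-! ### The fourth function -/

/-- The function `α`. -/
noncomputable def αf : H → ℂ := (fun _ => 1) - D.εf + D.Ψ - D.Φ

theorem αf_gen : IsGeneralizedCharacter H D.αf :=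
  IsGeneralizedCharacter.sub (IsGeneralizedCharacter.add (IsGeneralizedCharacter.sub
    (IsGeneralizedCharacter.of_isCharacter isCharacter_one)
    (IsGeneralizedCharacter.of_isCharacter (IsIrrCharacter.isCharacter
      (isIrrCharacter_linear D.ε)))) D.Ψ_gen) D.Φ_gen

theorem αf_class : IsClassFunction H D.αf := IsGeneralizedCharacter.isClassFunction D.αf_gen

theorem αf_z : D.αf D.z = 2 * (D.q : ℂ) + 2 := by
  simp only [αf, Pi.add_apply, Pi.sub_apply, D.Ψ_z, D.Φ_z, εf, D.ε_pos D.z_mem]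
  have h := D.cm_mul
  push_cast
  linear_combination 2 * h

theorem εf_z : D.εf D.z = 1 := by rw [εf, D.ε_pos D.z_mem]; rfl

theorem εf_one_inner : classInner D.εf (fun _ => 1) = 0 := by
  refine classInner_irr_of_ne (isIrrCharacter_linear D.ε) isIrrCharacter_one ?_
  intro e
  have := congrFun e D.u
  norm_num [εf, D.ε_neg D.u_not] at this

theorem θ1_one_inner : classInner D.θ1 (fun _ => 1) = 0 := by
  rw [show D.θ1 = (fun t : D.T1 => (D.ε.comp D.T1.subtype t : ℂ)) - fun t => (D.η t : ℂ) from rfl,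
    classInner_sub_left, classInner_irr_of_ne (isIrrCharacter_linear (D.ε.comp D.T1.subtype))
      isIrrCharacter_one, classInner_irr_of_ne (isIrrCharacter_linear D.η) isIrrCharacter_one,
    sub_zero]
  · intro e
    have := congrFun e ⟨D.z, D.z_T1⟩
    simp only [D.η_z] at this
    norm_num at this
  · intro e
    have := congrFun e ⟨D.u, D.u_mem⟩
    simp only [MonoidHom.comp_apply, Subgroup.coe_subtype, D.ε_neg D.u_not] at this
    norm_num at this

theorem θ1_ε_inner : classInner D.θ1 (fun t : D.T1 => D.εf t) = 1 := by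
  rw [show D.θ1 = (fun t : D.T1 => (D.ε.comp D.T1.subtype t : ℂ)) - fun t => (D.η t : ℂ) from rfl,
    classInner_sub_left]
  rw [show classInner (fun t : D.T1 => (D.ε.comp D.T1.subtype t : ℂ)) (fun t : D.T1 => D.εf t) = 1
      from classInner_self_irr (isIrrCharacter_linear (D.ε.comp D.T1.subtype)),
    show classInner (fun t : D.T1 => (D.η t : ℂ)) (fun t : D.T1 => D.εf t) = 0 from
      classInner_irr_of_ne (isIrrCharacter_linear D.η)
        (isIrrCharacter_linear (D.ε.comp D.T1.subtype)) ?_, sub_zero]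
  intro e
  have := congrFun e ⟨D.z, D.z_T1⟩
  norm_num [D.η_z, D.εf_z] at this

theorem Ψ_Φ : classInner D.Ψ D.Φ = 2 * (D.cp : ℂ) := by
  have h : classInner D.Φ D.Ψ = ((2 * D.cp : ℤ) : ℂ) := by
    rw [Φ, classInner_indFun_left _ _ D.Ψ_class,
      inner_fix_zero (D.z_ne' D.z_U) D.θU_one fun v h1 h2 => ?_]
    · rw [D.θU_z, D.card_U]
      show _ * (2 * conj (D.Ψ D.z)) = _
      rw [D.Ψ_z]
      simp only [map_mul, Complex.conj_natCast, map_ofNat]
      have hp : (p : ℂ) ≠ 0 := Nat.cast_ne_zero.2 D.hp.ne_zero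
      push_cast
      field_simp
    · exact indFun_eq_zero_of_forall _ _ (D.U_not_T1 v.2 (D.ne_of_coe D.z_U h1 h2))
  rw [classInner_comm_int h]
  push_cast
  ring

theorem Ψ_Ψ : classInner D.Ψ D.Ψ = 3 + 2 * ((p : ℂ) * D.cp - 2) / D.cm := by
  set e1 : D.T1 → ℂ := fun t => (D.η t : ℂ)
  set e2 : D.T1 → ℂ := fun t => D.εf t * (D.η t : ℂ)
  set e0 : D.T1 → ℂ := fun t => D.εf t
  rw [show classInner D.Ψ D.Ψ = classInner (indFun D.T1 D.θ1) D.Ψ from rfl,
    classInner_indFun_left _ _ D.Ψ_class,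
    inner_fix (D.z_ne' D.z_T1) (E := e0 + e0 - e1 - e2) D.θ1_one fun t h1 h2 => ?_]
  · have i0 : IsIrrCharacter D.T1 e0 := isIrrCharacter_linear (D.ε.comp D.T1.subtype)
    have i1 : IsIrrCharacter D.T1 e1 := isIrrCharacter_linear D.η
    have i2 : IsIrrCharacter D.T1 e2 := by
      have h := isIrrCharacter_linear (D.ε.comp D.T1.subtype * D.η)
      simpa [e2, εf] using h
    have n01 : e0 ≠ e1 := fun e => by
      have := congrFun e ⟨D.z, D.z_T1⟩
      simp only [e0, e1, D.η_z, D.εf_z] at this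
      norm_num at this
    have n02 : e0 ≠ e2 := fun e => by
      have := congrFun e ⟨D.z, D.z_T1⟩
      simp only [e0, e2, D.η_z, D.εf_z] at this
      norm_num at this
    have n12 : e1 ≠ e2 := fun e => by
      have := congrFun e ⟨D.u, D.u_mem⟩
      simp only [e1, e2, D.η_u, εf, D.ε_neg D.u_not] at this
      norm_num at this
    rw [show D.θ1 = e0 - e1 from rfl]
    simp only [classInner_sub_left, classInner_sub_right, classInner_add_right,
      classInner_self_irr i0, classInner_self_irr i1, classInner_irr_of_ne i0 i1 n01,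
      classInner_irr_of_ne i1 i0 n01.symm, classInner_irr_of_ne i0 i2 n02,
      classInner_irr_of_ne i1 i2 n12]
    rw [D.Ψ_z, D.card_T1]
    simp only [Pi.sub_apply, Pi.add_apply, e0, e1, e2, D.η_z, D.εf_z]
    simp only [Units.val_neg, Units.val_one, map_sub, map_mul, map_neg, map_one,
      Complex.conj_natCast, map_ofNat, map_add]
    have hm : ((D.cm : ℕ) : ℂ) ≠ 0 := Nat.cast_ne_zero.2 D.cm_pos.ne'
    show _ + ((2 * D.cm : ℕ) : ℂ)⁻¹ * _ = _
    push_cast
    field_simp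
    ring
  · rw [D.Ψ_T1 t h1 h2]
    simp only [Pi.sub_apply, Pi.add_apply, e0, e1, e2]
    ring

theorem αf_const : classInner D.αf (fun _ => 1) = 1 := by
  rw [αf, classInner_sub_left, classInner_add_left, classInner_sub_left, D.εf_one_inner, D.Φ_const,
    classInner_self_irr isIrrCharacter_one, Ψ, classInner_indFun_left _ _ (fun _ _ => rfl),
    D.θ1_one_inner]
  ring

theorem αf_αf : classInner D.αf D.αf = 3 := by
  have hεε : classInner D.εf D.εf = 1 := classInner_self_irr (isIrrCharacter_linear D.ε)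
  have h1ε : classInner (fun _ : H => (1 : ℂ)) D.εf = ((0 : ℤ) : ℂ) :=
    classInner_comm_int (by rw [D.εf_one_inner, Int.cast_zero])
  have h1Φ : classInner (fun _ : H => (1 : ℂ)) D.Φ = ((0 : ℤ) : ℂ) :=
    classInner_comm_int (by rw [D.Φ_const, Int.cast_zero])
  have hεΦ : classInner D.εf D.Φ = ((0 : ℤ) : ℂ) :=
    classInner_comm_int (by rw [D.Φ_εf, Int.cast_zero])
  have hΨ1 : classInner D.Ψ (fun _ => 1) = ((0 : ℤ) : ℂ) := by
    rw [Ψ, classInner_indFun_left _ _ (fun _ _ => rfl), D.θ1_one_inner, Int.cast_zero]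
  have hΨε : classInner D.Ψ D.εf = ((1 : ℤ) : ℂ) := by
    rw [Ψ, classInner_indFun_left _ _ D.εf_class, D.θ1_ε_inner, Int.cast_one]
  have hΦΨ : classInner D.Φ D.Ψ = ((2 * D.cp : ℤ) : ℂ) :=
    classInner_comm_int (by rw [D.Ψ_Φ]; push_cast; ring)
  rw [αf]
  simp only [classInner_sub_left, classInner_add_left, classInner_sub_right, classInner_add_right,
    classInner_self_irr isIrrCharacter_one, D.εf_one_inner, h1ε, h1Φ, hεε, hεΦ, hΨ1, hΨε, D.Φ_const,
    D.Φ_εf, D.Ψ_Φ, hΦΨ, D.Φ_Φ, D.Ψ_Ψ, classInner_comm_int hΨ1, classInner_comm_int hΨε]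
  have hm : ((D.cm : ℕ) : ℂ) ≠ 0 := Nat.cast_ne_zero.2 D.cm_pos.ne'
  have hsum : (D.cp : ℂ) + D.cm = 2 * p := by exact_mod_cast D.cp_add_cm
  push_cast
  field_simp
  have hprod : (D.cp : ℂ) * D.cm = (p : ℂ) * p - 1 := by
    have h1 := D.cp_mul
    have h2 := D.cm_mul
    linear_combination (1/2 : ℂ) * h1 - (1/2 : ℂ) * h2 + (p/2 : ℂ) * hsum
  linear_combination (2 * (p : ℂ)) * hsum - 4 * hprod

theorem IT_αf (a b : ℤ) : classInner (D.IT a b) D.αf =
    classInner (D.dT a b) (D.kf 0 - D.kf (D.h : ℤ)) +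
      (2 * (D.cp : ℂ))⁻¹ * (D.dT a b ⟨D.z, D.z_T⟩ * (2 * (D.q : ℂ) + 2)) := by
  rw [D.IT_inner D.αf_class (E := D.kf 0 - D.kf (D.h : ℤ)) fun t h1 h2 => ?_]
  · congr 3
    rw [Pi.sub_apply, D.kf_h, D.αf_z]
    rw [show D.kf 0 ⟨D.z, D.z_T⟩ = 1 by simp [kf]]
    show conj (_ - (1 - D.εf D.z)) = _
    rw [D.εf_z]
    simp only [map_sub, map_add, map_mul, map_one, map_ofNat, map_intCast]
    ring
  · have hs := D.ne_of_coe D.z_T h1 h2
    simp only [αf, Pi.add_apply, Pi.sub_apply, D.Ψ_off_T t.2 hs, D.Φ_off_T t.2 hs, D.kf_h]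
    simp [kf, εf]

/-! ### The vanishing -/

theorem IT_off {a b : ℤ} {g : H} (hg : D.z ∉ Subgroup.zpowers g) : D.IT a b g = 0 := by
  rw [IT, indFun_apply, sum_eq_zero fun y _ => ?_, mul_zero]
  by_cases hy : y⁻¹ * g * y ∈ D.T
  · rw [extendByZero_mem _ _ hy, dT, Pi.sub_apply, kf, kf]
    by_cases hk : D.κ ⟨_, hy⟩ = 1
    · simp [hk]
    · exact absurd (D.z_mem_zpowers_conj (D.z_mem_of_kappa hk)) hg
  · exact extendByZero_not_mem _ _ hy

theorem Φ_off {g : H} (hg : D.z ∉ Subgroup.zpowers g) : D.Φ g = 0 :=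
  D.Φ_eq_zero fun h => hg (h ▸ Subgroup.pow_mem _ (Subgroup.mem_zpowers g) p)

theorem odd_of_off_L {g : H} (hg : D.z ∉ Subgroup.zpowers g) (hL : g ∈ D.L) :
    ¬ 2 ∣ orderOf g := by
  intro h2
  have hj : orderOf (g ^ (orderOf g / 2)) = 2 :=
    orderOf_pow_orderOf_div (orderOf_pos g).ne' h2
  rcases D.L_invol _ (pow_mem hL (orderOf g / 2))
    (by have := pow_orderOf_eq_one (g ^ (orderOf g / 2)); rwa [hj, pow_two] at this) with e | e
  · rw [e, orderOf_one] at hj; omega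
  · exact hg (e ▸ Subgroup.pow_mem _ (Subgroup.mem_zpowers g) _)

theorem αf_off {g : H} (hg : D.z ∉ Subgroup.zpowers g) : D.αf g = 0 := by
  simp only [αf, Pi.add_apply, Pi.sub_apply, D.Φ_off hg, sub_zero]
  by_cases hL : g ∈ D.L
  · have hodd := D.odd_of_off_L hg hL
    have h0 : D.Ψ g = 0 := by
      rw [Ψ, indFun_apply, sum_eq_zero fun y _ => ?_, mul_zero]
      by_cases hy : y⁻¹ * g * y ∈ D.T1
      · rw [extendByZero_mem _ _ hy]
        have ho : ¬ 2 ∣ orderOf (y⁻¹ * g * y) := by rwa [orderOf_conj']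
        have hmem : y⁻¹ * g * y ∈ D.L := D.odd_mem_L (Nat.odd_iff.2 (Nat.two_dvd_ne_zero.1 ho))
        have hη : (y⁻¹ * g * y) ^ D.mT1 = 1 := by
          have hd := orderOf_pow_dvd (x := y⁻¹ * g * y) D.mT1
          have h4 : orderOf ((y⁻¹ * g * y) ^ D.mT1) ∣ 2 := by
            refine orderOf_dvd_of_pow_eq_one ?_
            rcases D.T1_pow ⟨_, hy⟩ with e | e | e | e <;> simp only at e <;> rw [e, pow_two]
            · rw [mul_one]
            · exact D.zz
            · exact D.uu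
            · rw [mul_assoc, ← mul_assoc D.z, ← D.z_comm D.u, mul_assoc D.u, D.zz, mul_one, D.uu]
          rcases (Nat.dvd_prime Nat.prime_two).1 h4 with e | e
          · exact orderOf_eq_one_iff.1 e
          · rw [e] at hd; exact absurd hd ho
        simp only [θ1]
        rw [εf, D.ε_pos hmem, D.η_apply, ηfun, if_pos (Or.inl hη)]
        simp
      · exact extendByZero_not_mem _ _ hy
    rw [h0, εf, D.ε_pos hL]
    simp
  · have h2 : 2 ∣ orderOf g := by
      by_contra h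
      exact hL (D.odd_mem_L (Nat.odd_iff.2 (Nat.two_dvd_ne_zero.1 h)))
    set j := g ^ (orderOf g / 2) with hjd
    have hj : orderOf j = 2 := orderOf_pow_orderOf_div (orderOf_pos g).ne' h2
    have hjz : j ≠ D.z := fun e => hg (e ▸ Subgroup.pow_mem _ (Subgroup.mem_zpowers g) _)
    have hj1 : j ≠ 1 := fun e => by rw [e, orderOf_one] at hj; omega
    obtain ⟨y, hy⟩ := isConj_iff.1 (D.J_conj j (by have := pow_orderOf_eq_one j; rwa [hj, pow_two] at this) hj1 hjz)
    have hmem : y⁻¹ * g * y ∈ D.T1 := by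
      refine D.mem_T1.2 ?_
      have hgj : g * j = j * g := ((Commute.refl g).pow_right _).eq
      rw [← hy] at hgj
      calc y⁻¹ * g * y * D.u = y⁻¹ * (g * (y * D.u * y⁻¹)) * y := by group
        _ = y⁻¹ * ((y * D.u * y⁻¹) * g) * y := by rw [hgj]
        _ = _ := by group
    have hnL : y⁻¹ * g * y ∉ D.L := fun h => hL (by
      have := D.L_normal.conj_mem _ h y
      rwa [show y * (y⁻¹ * g * y) * y⁻¹ = g by group] at this)
    have hval : D.Ψ g = D.Ψ (y⁻¹ * g * y) := by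
      have := D.Ψ_class g y⁻¹
      rw [inv_inv] at this
      exact this.symm
    rw [hval, D.Ψ_T1 ⟨_, hmem⟩ (fun e => hnL (by rw [show y⁻¹ * g * y = 1 from congrArg Subtype.val e]; exact one_mem _))
      (fun e => hnL (by rw [show y⁻¹ * g * y = D.z from congrArg Subtype.val e]; exact D.z_mem))]
    simp only [εf, D.ε_neg hnL, D.ε_neg hL]
    push_cast
    ring

end Model

end Cfsg.Agent.SDPack
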