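import Cfsg.Agent.Lib.SDPack.Tori

/-!
The building blocks of the exceptional functions on `H` and their values.
-/

set_option autoImplicit false
set_option linter.style.haveILetI false
set_option linter.unusedSectionVars false
set_option linter.unusedFintypeInType false

namespace Cfsg.Agent.SDPack

open Cfsg Cfsg.Agent.Char Finset
open scoped ComplexConjugate

universe u

namespace Model

variable {H : Type u} [Group H] [Fintype H] {p : ℕ} (D : Model H p)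

/-! ### Arithmetic -/

/-- `|q + 1|`. -/
def cp : ℕ := (D.q + 1).natAbs

/-- `|q - 1|`. -/
def cm : ℕ := (D.q - 1).natAbs

theorem q_ne : D.q ≠ 1 ∧ D.q ≠ -1 := by
  have := D.hp.two_le
  have := D.hq
  constructor <;> intro e <;> rw [e] at this <;> simp at this <;> omega

theorem cp_pos : 0 < D.cp := by have := D.q_ne; unfold cp; omega

theorem cm_pos : 0 < D.cm := by have := D.q_ne; unfold cm; omega

theorem cp_add_cm : D.cp + D.cm = 2 * p := by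
  have := D.hq; have := D.hp.two_le; unfold cp cm; omega

theorem cp_mul : ((D.cp : ℂ) - p) * (D.cm : ℂ) = (D.q : ℂ) - 1 := by
  have h : ((D.cp : ℤ) - p) * (D.cm : ℤ) = D.q - 1 := by
    have := D.hq
    have := D.hp.two_le
    rcases Int.natAbs_eq D.q with e | e <;> unfold cp cm
    · rw [show ((D.q + 1).natAbs : ℤ) = D.q + 1 by omega,
        show ((D.q - 1).natAbs : ℤ) = D.q - 1 by omega, show (p : ℤ) = D.q by omega]
      ring
    · rw [show ((D.q + 1).natAbs : ℤ) = -(D.q + 1) by omega,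
        show ((D.q - 1).natAbs : ℤ) = -(D.q - 1) by omega, show (p : ℤ) = -D.q by omega]
      ring
  exact_mod_cast h

theorem cm_mul : ((p : ℂ) - D.cm) * (D.cp : ℂ) = (D.q : ℂ) + 1 := by
  have h : ((p : ℤ) - D.cm) * (D.cp : ℤ) = D.q + 1 := by
    have := D.hq
    have := D.hp.two_le
    rcases Int.natAbs_eq D.q with e | e <;> unfold cp cm
    · rw [show ((D.q + 1).natAbs : ℤ) = D.q + 1 by omega,
        show ((D.q - 1).natAbs : ℤ) = D.q - 1 by omega, show (p : ℤ) = D.q by omega]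
      ring
    · rw [show ((D.q + 1).natAbs : ℤ) = -(D.q + 1) by omega,
        show ((D.q - 1).natAbs : ℤ) = -(D.q - 1) by omega, show (p : ℤ) = -D.q by omega]
      ring
  exact_mod_cast h

theorem index_T : D.T.index = p * D.cm := by
  have h := Subgroup.card_mul_index D.T
  rw [D.card_T, D.card_eq, show 2 * p * ((D.q + 1).natAbs * (D.q - 1).natAbs)
    = 2 * D.cp * (p * D.cm) by unfold cp cm; ring] at h
  exact Nat.eq_of_mul_eq_mul_left (Nat.mul_pos two_pos D.cp_pos) h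

theorem index_T1 : D.T1.index = p * D.cp := by
  have h := Subgroup.card_mul_index D.T1
  rw [D.card_T1, D.card_eq, show 2 * p * ((D.q + 1).natAbs * (D.q - 1).natAbs)
    = 2 * D.cm * (p * D.cp) by unfold cp cm; ring] at h
  exact Nat.eq_of_mul_eq_mul_left (Nat.mul_pos two_pos D.cm_pos) h

theorem index_U : D.U.index = D.cp * D.cm := by
  have h := Subgroup.card_mul_index D.U
  rw [D.card_U, D.card_eq] at h
  exact Nat.eq_of_mul_eq_mul_left (by have := D.hp.two_le; omega) h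

theorem z_inj {A : Subgroup H} (hz : D.z ∈ A) : (⟨D.z, hz⟩ : A) ≠ 1 := fun e =>
  D.z_ne (congrArg Subtype.val e)

theorem z_conj (y : H) : y⁻¹ * D.z * y = D.z := by
  rw [mul_assoc, ← D.z_comm, inv_mul_cancel_left]

theorem conj_z_iff {y g : H} : y⁻¹ * g * y = D.z ↔ g = D.z := by
  constructor
  · intro h
    calc g = y * (y⁻¹ * g * y) * y⁻¹ := by group
      _ = D.z := by rw [h, D.z_comm y, mul_inv_cancel_right]
  · rintro rfl; exact D.z_conj y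

theorem z_mem_zpowers_conj {y g : H} (h : D.z ∈ Subgroup.zpowers (y⁻¹ * g * y)) :
    D.z ∈ Subgroup.zpowers g := by
  obtain ⟨i, hi⟩ := h
  refine ⟨i, ?_⟩
  have e : (y⁻¹ * g * y) ^ i = y⁻¹ * g ^ i * y := by
    have := conj_zpow (i := i) (a := y⁻¹) (b := g)
    rwa [inv_inv] at this
  exact D.conj_z_iff.1 (e.symm.trans hi)

theorem even_of_z_mem {g : H} (h : D.z ∈ Subgroup.zpowers g) : 2 ∣ orderOf g := by
  have h2 := orderOf_dvd_of_mem_zpowers h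
  rwa [D.orderOf_z] at h2

/-! ### The sign character -/

open scoped Classical in
/-- The linear character with kernel `L`. -/
noncomputable def ε : H →* ℂˣ where
  toFun g := if g ∈ D.L then 1 else -1
  map_one' := if_pos (one_mem _)
  map_mul' g k := by
    have h := Subgroup.mul_mem_iff_of_index_two D.L_index (a := g) (b := k)
    by_cases hg : g ∈ D.L <;> by_cases hk : k ∈ D.L <;> simp [hg, hk, h]

theorem ε_pos {g : H} (h : g ∈ D.L) : D.ε g = 1 := by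
  classical
  show (if g ∈ D.L then (1 : ℂˣ) else -1) = _
  rw [if_pos h]

theorem ε_neg {g : H} (h : g ∉ D.L) : D.ε g = -1 := by
  classical
  show (if g ∈ D.L then (1 : ℂˣ) else -1) = _
  rw [if_neg h]

theorem ε_conj (y t : H) : D.ε (y * t * y⁻¹) = D.ε t := by
  rw [map_mul, map_mul, mul_comm (D.ε y), mul_assoc, ← map_mul, mul_inv_cancel, map_one, mul_one]

theorem U_le_L {v : H} (hv : v ∈ D.U) : v ∈ D.L := by
  obtain ⟨i, hi⟩ := Subgroup.mem_zpowers_iff.1 (D.g0_gen ⟨v, hv⟩)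
  have e : v = (D.z * D.x) ^ i := by
    have := congrArg Subtype.val hi
    rw [Subgroup.coe_zpow] at this
    exact this.symm
  rw [e]
  exact zpow_mem (mul_mem D.z_mem D.x_mem) i

/-! ### Characters of the first torus -/

/-- A power of `κ` as a function. -/
noncomputable def kf (n : ℤ) : D.T → ℂ := fun t => ((D.κ t ^ n : ℂˣ) : ℂ)

theorem kf_mod {m n : ℤ} (h : 2 * (D.h : ℤ) ∣ m - n) : D.kf m = D.kf n := by
  funext t
  obtain ⟨i, hi⟩ := Subgroup.mem_zpowers_iff.1 (D.T_pow_mem t.2)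
  unfold kf
  rw [D.κ_spec t hi.symm, ← _root_.zpow_mul, ← _root_.zpow_mul,
    show i * m = i * n + i * (m - n) by ring, _root_.zpow_add,
    (D.r_zpow_eq_one (i * (m - n))).2 (Dvd.dvd.mul_left h _), mul_one]

open scoped Classical in
theorem kf_inner (m n : ℤ) :
    classInner (D.kf m) (D.kf n) = if 2 * (D.h : ℤ) ∣ m - n then 1 else 0 := by
  have h := inner_hom D.T ((zpowGroupHom m).comp D.κ) ((zpowGroupHom n).comp D.κ)
  refine h.trans ?_
  by_cases hd : 2 * (D.h : ℤ) ∣ m - n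
  · rw [if_pos hd, if_pos]
    exact MonoidHom.ext fun t => Units.ext (congrFun (D.kf_mod hd) t)
  · rw [if_neg hd, if_neg]
    intro e
    apply hd
    have e' := DFunLike.congr_fun e ⟨D.a, D.a_mem⟩
    simp only [MonoidHom.comp_apply, zpowGroupHom_apply, D.κ_a, ← _root_.zpow_mul] at e'
    have h1 : D.r ^ ((D.mT : ℤ) * (m - n)) = 1 := by
      rw [mul_sub, _root_.zpow_sub, e', mul_inv_cancel]
    rw [D.r_zpow_eq_one] at h1
    refine (Int.isCoprime_iff_nat_coprime.2 ?_).dvd_of_dvd_mul_left h1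
    obtain ⟨k, -, hk⟩ := D.hh
    rw [Int.natAbs_mul]
    simp only [Int.natAbs_natCast, Int.reduceAbs, hk, ← pow_succ']
    exact Nat.Coprime.pow_left _ (Nat.coprime_two_left.2 D.mT_odd)

theorem kf_u (n : ℤ) (t : D.T) :
    D.kf n ⟨D.u * t * D.u⁻¹, D.u_conj_T t.2⟩ = D.kf (((D.h : ℤ) - 1) * n) t := by
  unfold kf
  rw [D.κ_u, ← _root_.zpow_mul]

theorem kf_u_even {n : ℤ} (hn : 2 ∣ n) (t : D.T) :
    D.kf n ⟨D.u * t * D.u⁻¹, D.u_conj_T t.2⟩ = D.kf (-n) t := by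
  obtain ⟨k, rfl⟩ := hn
  rw [D.kf_u, D.kf_mod (m := ((D.h : ℤ) - 1) * (2 * k)) (n := -(2 * k)) ⟨k, by ring⟩]

theorem kf_u_odd {n : ℤ} (hn : Odd n) (t : D.T) :
    D.kf n ⟨D.u * t * D.u⁻¹, D.u_conj_T t.2⟩ = D.kf ((D.h : ℤ) - n) t := by
  obtain ⟨k, rfl⟩ := hn
  rw [D.kf_u, D.kf_mod (m := ((D.h : ℤ) - 1) * (2 * k + 1)) (n := (D.h : ℤ) - (2 * k + 1))
    ⟨k, by ring⟩]

theorem kf_z_even {n : ℤ} (hn : 2 ∣ n) : D.kf n ⟨D.z, D.z_T⟩ = 1 := by
  obtain ⟨k, rfl⟩ := hn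
  unfold kf
  rw [D.κ_z, D.r_h, _root_.zpow_mul]
  simp

theorem kf_z_odd {n : ℤ} (hn : Odd n) : D.kf n ⟨D.z, D.z_T⟩ = -1 := by
  unfold kf
  rw [D.κ_z, D.r_h, hn.neg_one_zpow]
  simp

theorem kf_h (t : D.T) : D.kf (D.h : ℤ) t = (D.ε (t : H) : ℂ) := by
  unfold kf
  by_cases hL : (t : H) ∈ D.L
  · rw [(D.T_mem_L_iff t).1 hL, D.ε_pos hL]
  · have h1 : D.κ t ^ (D.h : ℤ) * D.κ t ^ (D.h : ℤ) = 1 := by
      obtain ⟨i, hi⟩ := Subgroup.mem_zpowers_iff.1 (D.T_pow_mem t.2)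
      rw [D.κ_spec t hi.symm, ← _root_.zpow_mul, ← _root_.zpow_add, D.r_zpow_eq_one]
      exact ⟨i, by ring⟩
    rw [D.ε_neg hL]
    rcases mul_self_eq_one_iff.1 (show ((D.κ t ^ (D.h : ℤ) : ℂˣ) : ℂ) * ((D.κ t ^ (D.h : ℤ) : ℂˣ) : ℂ)
      = 1 by rw [← Units.val_mul, h1, Units.val_one]) with e | e
    · exact absurd ((D.T_mem_L_iff t).2 (Units.ext e)) hL
    · rw [e]; rfl

theorem z_mem_of_kappa {t : D.T} (h : D.κ t ≠ 1) : D.z ∈ Subgroup.zpowers (t : H) := by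
  rw [ne_eq, D.κ_eq_one] at h
  obtain ⟨i, hi⟩ := Subgroup.mem_zpowers_iff.1 (D.T_pow_mem t.2)
  obtain ⟨k, hk, he⟩ := D.hh
  have hord : orderOf ((t : H) ^ D.mT) ∣ 2 ^ (k + 1) := by
    rw [pow_succ', ← he, ← D.ao, ← hi]
    exact orderOf_dvd_of_mem_zpowers ⟨i, rfl⟩
  obtain ⟨j, -, hj⟩ := (Nat.dvd_prime_pow Nat.prime_two).1 hord
  obtain ⟨j', rfl⟩ : ∃ j', j = j' + 1 := by
    refine ⟨j - 1, ?_⟩
    rcases j with - | j
    · exact absurd (orderOf_eq_one_iff.1 (by simpa using hj)) h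
    · omega
  set c := ((t : H) ^ D.mT) ^ 2 ^ j' with hcdef
  have hc1 : c ≠ 1 := by
    intro e
    have := orderOf_dvd_of_pow_eq_one e
    rw [hj, Nat.pow_dvd_pow_iff_le_right (by norm_num)] at this
    omega
  have hcc : c * c = 1 := by
    rw [hcdef, ← pow_add, ← two_mul, ← pow_succ', ← hj, pow_orderOf_eq_one]
  have hca : c = D.a ^ (i * ((2 : ℤ) ^ j')) := by
    rw [hcdef, ← hi, ← zpow_natCast, ← _root_.zpow_mul]; push_cast; rfl
  set l := i * ((2 : ℤ) ^ j')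
  have hl : (D.h : ℤ) ∣ l := by
    have := (D.a_zpow_eq_one (l + l)).1 (by rw [_root_.zpow_add, ← hca, hcc])
    rw [← two_mul] at this
    exact Int.dvd_of_mul_dvd_mul_left two_ne_zero this
  obtain ⟨e, he'⟩ := hl
  have hz : c = D.z := by
    rcases Int.even_or_odd' e with ⟨d, rfl | rfl⟩
    · exact absurd (by rw [hca, D.a_zpow_eq_one, he']; exact ⟨d, by ring⟩) hc1
    · rw [hca, he', show (D.h : ℤ) * (2 * d + 1) = (D.h : ℤ) + 2 * D.h * d by ring,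
        _root_.zpow_add, (D.a_zpow_eq_one (2 * D.h * d)).2 ⟨d, rfl⟩, mul_one, zpow_natCast, D.az]
  rw [← hz, hcdef, ← pow_mul]
  exact Subgroup.pow_mem _ (Subgroup.mem_zpowers _) _

/-! ### The supports -/

theorem not_dvd_cp : ¬ p ∣ 2 * D.cp := fun h => by
  have h2 := (D.hp.dvd_mul).1 h
  rcases h2 with h2 | h2
  · exact D.hp2 ((Nat.prime_dvd_prime_iff_eq D.hp Nat.prime_two).1 h2)
  · have h3 : (p : ℤ) ∣ D.q + 1 := Int.natCast_dvd.2 h2
    have h4 : (p : ℤ) ∣ D.q := Int.natCast_dvd.2 (by rw [D.hq])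
    have h5 := dvd_sub h3 h4
    rw [add_sub_cancel_left] at h5
    exact D.hp.ne_one (by simpa using Int.eq_one_of_dvd_one (by positivity) h5)

theorem not_dvd_cm : ¬ p ∣ 2 * D.cm := fun h => by
  have h2 := (D.hp.dvd_mul).1 h
  rcases h2 with h2 | h2
  · exact D.hp2 ((Nat.prime_dvd_prime_iff_eq D.hp Nat.prime_two).1 h2)
  · have h3 : (p : ℤ) ∣ D.q - 1 := Int.natCast_dvd.2 h2
    have h4 : (p : ℤ) ∣ D.q := Int.natCast_dvd.2 (by rw [D.hq])
    have h5 := dvd_sub h4 h3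
    rw [sub_sub_cancel] at h5
    exact D.hp.ne_one (by simpa using Int.eq_one_of_dvd_one (by positivity) h5)

theorem T_conj_centralizes {s y g : H} (hs : s ≠ 1 ∧ s ≠ D.z) (h : y⁻¹ * s * y ∈ D.T)
    (hg : g * s = s * g) : y⁻¹ * g * y ∈ D.T := by
  refine D.mem_T.2 (D.T_cent _ (D.mem_T.1 h) ?_ ?_ _ ?_)
  · intro e; exact hs.1 (by
      calc s = y * (y⁻¹ * s * y) * y⁻¹ := by group
        _ = 1 := by rw [e]; group)
  · intro e; exact hs.2 (D.conj_z_iff.1 e)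
  · calc y⁻¹ * g * y * (y⁻¹ * s * y) = y⁻¹ * (g * s) * y := by group
      _ = y⁻¹ * (s * g) * y := by rw [hg]
      _ = _ := by group

theorem T1_conj_centralizes {s y g : H} (hs : s ≠ 1 ∧ s ≠ D.z) (h : y⁻¹ * s * y ∈ D.T1)
    (hg : g * s = s * g) : y⁻¹ * g * y ∈ D.T1 := by
  refine D.mem_T1.2 (D.T1_cent _ (D.mem_T1.1 h) ?_ ?_ _ ?_)
  · intro e; exact hs.1 (by
      calc s = y * (y⁻¹ * s * y) * y⁻¹ := by group
        _ = 1 := by rw [e]; group)
  · intro e; exact hs.2 (D.conj_z_iff.1 e)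
  · calc y⁻¹ * g * y * (y⁻¹ * s * y) = y⁻¹ * (g * s) * y := by group
      _ = y⁻¹ * (s * g) * y := by rw [hg]
      _ = _ := by group

theorem orderOf_conj' (y g : H) : orderOf (y⁻¹ * g * y) = orderOf g := by
  have h := orderOf_injective (MulAut.conj y⁻¹).toMonoidHom (MulAut.conj y⁻¹).injective g
  simpa using h

theorem U_not_T {v : H} (hv : v ∈ D.U) (hs : v ≠ 1 ∧ v ≠ D.z) (y : H) : y⁻¹ * v * y ∉ D.T := by
  intro h
  have hx := D.T_conj_centralizes hs h (g := D.x) (D.mem_U.1 hv).symm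
  have := Subgroup.orderOf_dvd_natCard D.T hx
  rw [orderOf_conj', D.xo, D.card_T] at this
  exact D.not_dvd_cp this

theorem U_not_T1 {v : H} (hv : v ∈ D.U) (hs : v ≠ 1 ∧ v ≠ D.z) (y : H) :
    y⁻¹ * v * y ∉ D.T1 := by
  intro h
  have hx := D.T1_conj_centralizes hs h (g := D.x) (D.mem_U.1 hv).symm
  have := Subgroup.orderOf_dvd_natCard D.T1 hx
  rw [orderOf_conj', D.xo, D.card_T1] at this
  exact D.not_dvd_cm this

theorem T_not_T1 {t : H} (ht : t ∈ D.T) (hs : t ≠ 1 ∧ t ≠ D.z) (y : H) : y⁻¹ * t * y ∉ D.T1 := by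
  intro h
  have hx := D.T1_conj_centralizes hs h (g := D.a) (D.mem_T.1 ht).symm
  obtain ⟨k, hk, he⟩ := D.hh
  have ho : orderOf (y⁻¹ * D.a * y) = 2 ^ (k + 1) := by
    rw [orderOf_conj', D.ao, he, pow_succ']
  have h2 : (y⁻¹ * D.a * y) * (y⁻¹ * D.a * y) = 1 := by
    rcases D.T1_two _ (D.mem_T1.1 hx) ⟨k + 1, ho⟩ with e | e | e | e <;> rw [e]
    · rw [one_mul]
    · exact D.zz
    · exact D.uu
    · rw [mul_assoc, ← mul_assoc D.z, ← D.z_comm D.u, mul_assoc D.u, D.zz, mul_one, D.uu]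
  have h3 := orderOf_dvd_of_pow_eq_one (show (y⁻¹ * D.a * y) ^ 2 ^ 1 = 1 by
    rw [pow_one, pow_two]; exact h2)
  rw [ho, Nat.pow_dvd_pow_iff_le_right (by norm_num)] at h3
  omega

theorem T_sq {t : H} (ht : t ∈ D.T) (h : t * t = 1) : t = 1 ∨ t = D.z := by
  by_cases hk : D.κ ⟨t, ht⟩ = 1
  · left
    rw [D.κ_eq_one] at hk
    obtain ⟨m, hm⟩ := D.mT_odd
    rw [hm, pow_succ, pow_mul, show ((⟨t, ht⟩ : D.T) : H) = t from rfl, pow_two, h, one_pow,
      one_mul] at hk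
    exact hk
  · obtain ⟨i, hi⟩ := D.z_mem_of_kappa hk
    rcases Int.even_or_odd' i with ⟨d, rfl | rfl⟩
    · simp only [_root_.zpow_mul, zpow_two, h, _root_.one_zpow] at hi
      exact absurd hi.symm D.z_ne
    · right
      simp only [_root_.zpow_add, zpow_one, _root_.zpow_mul, zpow_two, h, _root_.one_zpow,
        one_mul] at hi
      exact hi

theorem T1_not_T {s : H} (hs1 : s ∈ D.T1) (hs : s ≠ 1 ∧ s ≠ D.z) (y : H) :
    y⁻¹ * s * y ∉ D.T := by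
  intro h
  have hx := D.T_conj_centralizes hs h (g := D.u) (D.mem_T1.1 hs1).symm
  rcases D.T_sq hx (by
    calc y⁻¹ * D.u * y * (y⁻¹ * D.u * y) = y⁻¹ * (D.u * D.u) * y := by group
      _ = 1 := by rw [D.uu]; group) with e | e
  · exact D.u_ne.1 (by
      calc D.u = y * (y⁻¹ * D.u * y) * y⁻¹ := by group
        _ = 1 := by rw [e]; group)
  · exact D.u_ne.2 (D.conj_z_iff.1 e)

theorem T_not_U {t : H} (ht : t ∈ D.T) (hs : t ≠ 1 ∧ t ≠ D.z) (y : H) : y⁻¹ * t * y ∉ D.U := by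
  intro h
  refine D.U_not_T h ⟨fun e => hs.1 ?_, fun e => hs.2 (D.conj_z_iff.1 e)⟩ y⁻¹ ?_
  · calc t = y * (y⁻¹ * t * y) * y⁻¹ := by group
      _ = 1 := by rw [e]; group
  · rw [show y⁻¹⁻¹ * (y⁻¹ * t * y) * y⁻¹ = t by group]; exact ht

theorem T1_not_U {t : H} (ht : t ∈ D.T1) (hs : t ≠ 1 ∧ t ≠ D.z) (y : H) :
    y⁻¹ * t * y ∉ D.U := by
  intro h
  refine D.U_not_T1 h ⟨fun e => hs.1 ?_, fun e => hs.2 (D.conj_z_iff.1 e)⟩ y⁻¹ ?_
  · calc t = y * (y⁻¹ * t * y) * y⁻¹ := by group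
      _ = 1 := by rw [e]; group
  · rw [show y⁻¹⁻¹ * (y⁻¹ * t * y) * y⁻¹ = t by group]; exact ht

theorem T_ind {t : H} (ht : t ∈ D.T) (hs : t ≠ 1 ∧ t ≠ D.z) (θ : D.T → ℂ) :
    indFun D.T θ t = θ ⟨t, ht⟩ + θ ⟨D.u * t * D.u⁻¹, D.u_conj_T ht⟩ :=
  ind_torus D.T (fun _ ha _ hb => D.T_comm _ _ (D.mem_T.1 ha) (D.mem_T.1 hb)) D.u_not_T ht _
    (fun g hg => (D.T_norm g t (D.mem_T.1 ht) hs.1 hs.2 (D.mem_T.1 hg)).imp D.mem_T.2 D.mem_T.2) θ

theorem T1_ind {t : H} (ht : t ∈ D.T1) (hs : t ≠ 1 ∧ t ≠ D.z) (θ : D.T1 → ℂ) :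
    indFun D.T1 θ t = θ ⟨t, ht⟩ + θ ⟨D.w * t * D.w⁻¹, D.w_conj_T1 ht⟩ :=
  ind_torus D.T1 (fun _ ha _ hb => D.T1_comm _ _ (D.mem_T1.1 ha) (D.mem_T1.1 hb)) D.w_not_T1 ht _
    (fun g hg => (D.T1_norm g t (D.mem_T1.1 ht) hs.1 hs.2 (D.mem_T1.1 hg)).imp D.mem_T1.2
      D.mem_T1.2) θ

theorem z_ind (A : Subgroup H) (hA : D.z ∈ A) (θ : A → ℂ) :
    indFun A θ D.z = (A.index : ℂ) * θ ⟨D.z, hA⟩ :=
  ind_central A D.z_comm hA θ

theorem ne_of_coe {A : Subgroup H} (hz : D.z ∈ A) {s : A} (h1 : s ≠ 1) (h2 : s ≠ ⟨D.z, hz⟩) :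
    (s : H) ≠ 1 ∧ (s : H) ≠ D.z :=
  ⟨fun e => h1 (Subtype.ext e), fun e => h2 (Subtype.ext e)⟩

end Model

end Cfsg.Agent.SDPack
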