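import Cfsg.Agent.Lib.SDPack.FuncsBase

/-!
The function induced from the centraliser of the unipotent element.
-/

set_option autoImplicit false
set_option linter.style.haveILetI false
set_option linter.unusedSectionVars false
set_option linter.unusedFintypeInType false

namespace Cfsg.Agent.SDPack

open Cfsg Cfsg.Agent.Char Finset
open scoped ComplexConjugate Classical

universe u

namespace Model

variable {H : Type u} [Group H] [Fintype H] {p : ℕ} (D : Model H p)

theorem x_pow_p : D.x ^ p = 1 := by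
  have h := pow_orderOf_eq_one D.x
  rwa [D.xo] at h

theorem z_pow_p : D.z ^ p = D.z := by
  have h : p % 2 = 1 := Nat.odd_iff.1 (D.hp.odd_of_ne_two D.hp2)
  rw [← pow_mod_orderOf, D.orderOf_z, h, pow_one]

theorem z_x_pow (n : ℕ) : (D.z ^ n * D.x ^ n) ^ p = D.z ^ n := by
  rw [(show Commute (D.z ^ n) (D.x ^ n) from ((show Commute D.z D.x from
    (D.z_comm D.x).symm).pow_pow n n)).mul_pow, ← pow_mul D.x, mul_comm n, pow_mul D.x, D.x_pow_p,
    one_pow, mul_one, ← pow_mul, mul_comm, pow_mul, D.z_pow_p]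

/-- A power of `ν` as a function. -/
noncomputable def nf (n : ℕ) : D.U → ℂ := fun v => ((D.ν v ^ n : ℂˣ) : ℂ)

theorem nf_zero : D.nf 0 = fun _ => 1 := by
  funext v
  simp [nf]

theorem nf_inner {m n : ℕ} (hm : m < 2 * p) (hn : n < 2 * p) :
    classInner (D.nf m) (D.nf n) = if m = n then 1 else 0 := by
  have h := inner_hom D.U ((powMonoidHom m).comp D.ν) ((powMonoidHom n).comp D.ν)
  refine h.trans ?_
  by_cases hd : m = n
  · rw [if_pos hd, if_pos (by rw [hd])]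
  · rw [if_neg hd, if_neg]
    intro e
    have e' := DFunLike.congr_fun e D.g0
    simp only [MonoidHom.comp_apply, powMonoidHom_apply, D.ν_g0] at e'
    exact hd (D.σ_prim.pow_inj hm hn e')

theorem U_pow_p (v : D.U) : (v : H) ^ p = 1 ∨ (v : H) ^ p = D.z := by
  refine D.L_invol _ (pow_mem (D.U_le_L v.2) _) ?_
  have h := pow_card_eq_one' (x := v)
  rw [D.card_U] at h
  rw [← pow_add, ← two_mul]
  exact congrArg Subtype.val h

theorem ν_z : D.ν ⟨D.z, D.z_U⟩ = -1 := by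
  have e : (⟨D.z, D.z_U⟩ : D.U) = D.g0 ^ p := by
    refine Subtype.ext ?_
    show D.z = ((D.g0 ^ p : D.U) : H)
    rw [Subgroup.coe_pow]
    show D.z = (D.z * D.x) ^ p
    rw [(show Commute D.z D.x from (D.z_comm D.x).symm).mul_pow, D.x_pow_p, mul_one, D.z_pow_p]
  rw [e, map_pow, D.ν_g0]
  have h2 : D.σ ^ p * D.σ ^ p = 1 := by rw [← pow_add, ← two_mul]; exact D.σ_prim.pow_eq_one
  rcases mul_self_eq_one_iff.1 (show ((D.σ ^ p : ℂˣ) : ℂ) * ((D.σ ^ p : ℂˣ) : ℂ) = 1
    by rw [← Units.val_mul, h2, Units.val_one]) with e | e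
  · exact absurd (Units.ext e) (D.σ_prim.pow_ne_one_of_pos_of_lt D.hp.ne_zero (by
      have := D.hp.two_le; omega))
  · exact Units.ext (by rw [e]; rfl)

theorem ν_x_sq : D.ν ⟨D.x, D.x_U⟩ ^ 2 = D.σ ^ 2 := by
  have hxp : D.x ^ p = 1 := D.x_pow_p
  have e : (⟨D.x, D.x_U⟩ : D.U) = D.g0 ^ (p + 1) := by
    refine Subtype.ext ?_
    rw [Subgroup.coe_pow]
    show D.x = (D.z * D.x) ^ (p + 1)
    rw [(show Commute D.z D.x from (D.z_comm D.x).symm).mul_pow, pow_succ D.x, hxp, one_mul,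
      pow_succ, D.z_pow_p, D.zz, one_mul]
  rw [e, map_pow, D.ν_g0, ← pow_mul, show (p + 1) * 2 = 2 * p + 2 by ring, pow_add,
    D.σ_prim.pow_eq_one, one_mul]

/-- The function on `U` that is induced. -/
noncomputable def θU : D.U → ℂ := D.nf 2 - D.nf (p + 2)

theorem θU_val (v : D.U) : (v : H) ^ p = 1 ∧ D.θU v = 0 ∨
    (v : H) ^ p = D.z ∧ D.θU v = 2 * D.nf 2 v := by
  rcases D.U_pow_p v with h | h
  · refine Or.inl ⟨h, ?_⟩
    have e : D.ν v ^ p = 1 := by
      rw [← map_pow, show v ^ p = 1 from Subtype.ext (by rw [Subgroup.coe_pow]; exact h), map_one]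
    simp only [θU, nf, Pi.sub_apply, pow_add, e, one_mul, sub_self]
  · refine Or.inr ⟨h, ?_⟩
    have e : D.ν v ^ p = -1 := by
      rw [← map_pow, show v ^ p = ⟨D.z, D.z_U⟩ from Subtype.ext (by rw [Subgroup.coe_pow]; exact h),
        D.ν_z]
    simp only [θU, nf, Pi.sub_apply, pow_add, e]
    push_cast
    ring

theorem θU_z : D.θU ⟨D.z, D.z_U⟩ = 2 := by
  rcases D.θU_val ⟨D.z, D.z_U⟩ with h | h
  · have h1 := h.1
    rw [show ((⟨D.z, D.z_U⟩ : D.U) : H) = D.z from rfl, D.z_pow_p] at h1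
    exact absurd h1 D.z_ne
  · rw [h.2, nf, D.ν_z]
    simp

theorem θU_one : D.θU 1 = 0 := by simp [θU, nf]

/-- The function induced from `U`. -/
noncomputable def Φ : H → ℂ := indFun D.U D.θU

theorem Φ_eq_zero {g : H} (h : g ^ p ≠ D.z) : D.Φ g = 0 := by
  rw [Φ, indFun_apply, sum_eq_zero fun y _ => ?_, mul_zero]
  by_cases hy : y⁻¹ * g * y ∈ D.U
  · rw [extendByZero_mem _ _ hy]
    rcases D.θU_val ⟨_, hy⟩ with h' | h'
    · exact h'.2
    · exfalso
      have h1 := h'.1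
      have e : (y⁻¹ * g * y) ^ p = y⁻¹ * g ^ p * y := by
        have := conj_pow (i := p) (a := y⁻¹) (b := g)
        rwa [inv_inv] at this
      exact h (D.conj_z_iff.1 (e.symm.trans h1))
  · exact extendByZero_not_mem _ _ hy

theorem Φ_z : D.Φ D.z = 2 * ((D.cp : ℂ) * D.cm) := by
  rw [Φ, D.z_ind _ D.z_U, D.θU_z, D.index_U]
  push_cast
  ring

theorem conj_card {j : ℕ} (hj : ¬ p ∣ j) :
    (univ.filter fun y : H => y⁻¹ * D.x * y = D.x ^ j).card = 2 * p := by
  obtain ⟨g, hg⟩ := D.U_conj j hj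
  rw [← D.card_U, Nat.card_eq_fintype_card, ← Finset.card_univ]
  refine (card_bij (fun (c : D.U) _ => (c : H) * g⁻¹) (fun c _ => ?_) (fun c _ d _ h => ?_)
    (fun y hy => ⟨⟨y * g, D.mem_U.2 ?_⟩, mem_univ _, by simp⟩)).symm
  · refine mem_filter.2 ⟨mem_univ _, ?_⟩
    rw [← hg, _root_.mul_inv_rev, inv_inv]
    calc g * (c : H)⁻¹ * D.x * ((c : H) * g⁻¹) = g * ((c : H)⁻¹ * (D.x * c)) * g⁻¹ := by group
      _ = g * ((c : H)⁻¹ * ((c : H) * D.x)) * g⁻¹ := by rw [D.mem_U.1 c.2]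
      _ = _ := by group
  · exact Subtype.ext (mul_right_cancel h)
  · have hy' := (mem_filter.1 hy).2
    rw [← hg] at hy'
    calc y * g * D.x = y * (g * D.x * g⁻¹) * g := by group
      _ = y * (y⁻¹ * D.x * y) * g := by rw [hy']
      _ = _ := by group

theorem U_elem (v : D.U) : ∃ n : ℕ, (v : H) = D.z ^ n * D.x ^ n := by
  obtain ⟨i, hi⟩ := Subgroup.mem_zpowers_iff.1 (D.g0_gen v)
  obtain ⟨n, hn⟩ : ∃ n : ℕ, D.g0 ^ n = v := by
    have hv : v ∈ Submonoid.powers D.g0 := by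
      rw [mem_powers_iff_mem_zpowers]; exact ⟨i, hi⟩
    obtain ⟨n, hn⟩ := hv
    exact ⟨n, hn⟩
  refine ⟨n, ?_⟩
  rw [← hn, Subgroup.coe_pow]
  exact (show Commute D.z D.x from (D.z_comm D.x).symm).mul_pow n

theorem sum_sigma {k : ℕ} (hk : ¬ p ∣ k) :
    ∑ j ∈ Ico 1 p, ((D.σ ^ (2 * (j * k)) : ℂˣ) : ℂ) = -1 := by
  have h2 : IsPrimitiveRoot (D.σ ^ 2) p := D.σ_prim.pow (by have := D.hp.two_le; omega) rfl
  have hk' : IsPrimitiveRoot ((((D.σ ^ 2) ^ k : ℂˣ)) : ℂ) p :=
    IsPrimitiveRoot.coe_units_iff.2 (h2.pow_of_coprime k ((D.hp.coprime_iff_not_dvd.2 hk).symm))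
  have hs := hk'.geom_sum_eq_zero D.hp.one_lt
  rw [Finset.range_eq_Ico, sum_eq_sum_Ico_succ_bot D.hp.pos, pow_zero] at hs
  have e : ∀ j, (((D.σ ^ 2) ^ k : ℂˣ) : ℂ) ^ j = ((D.σ ^ (2 * (j * k)) : ℂˣ) : ℂ) := fun j => by
    rw [← Units.val_pow_eq_pow_val, ← pow_mul, ← pow_mul]
    ring_nf
  simp only [e] at hs
  exact eq_neg_of_add_eq_zero_right hs

theorem Φ_unip {k : ℕ} (hk : ¬ p ∣ k) : D.Φ (D.z * D.x ^ k) = -2 := by
  classical
  have hxp : D.x ^ p = 1 := D.x_pow_p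
  have hterm : ∀ y : H, extendByZero D.U D.θU (y⁻¹ * (D.z * D.x ^ k) * y) =
      ∑ j ∈ Ico 1 p, if y⁻¹ * D.x * y = D.x ^ j then 2 * ((D.σ ^ (2 * (j * k)) : ℂˣ) : ℂ) else 0 := by
    intro y
    have e : y⁻¹ * (D.z * D.x ^ k) * y = D.z * (y⁻¹ * D.x * y) ^ k := by
      have := conj_pow (i := k) (a := y⁻¹) (b := D.x)
      rw [inv_inv] at this
      rw [this, ← mul_assoc y⁻¹ D.z, D.z_comm y⁻¹]
      group
    rw [e]
    have hco : k.Coprime (orderOf (y⁻¹ * D.x * y)) := by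
      rw [Model.orderOf_conj', D.xo]; exact (D.hp.coprime_iff_not_dvd.2 hk).symm
    by_cases hc : y⁻¹ * D.x * y ∈ D.U
    · obtain ⟨n, hn⟩ := D.U_elem ⟨_, hc⟩
      simp only at hn
      have hp1 : (y⁻¹ * D.x * y) ^ p = 1 := by
        have := conj_pow (i := p) (a := y⁻¹) (b := D.x)
        rw [inv_inv] at this
        rw [this, hxp, mul_one, inv_mul_cancel]
      have hzn : D.z ^ n = 1 := by
        rw [hn, D.z_x_pow] at hp1
        exact hp1
      rw [hzn, one_mul, ← pow_mod_orderOf, D.xo] at hn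
      have hj : n % p ∈ Ico 1 p := by
        rw [mem_Ico]
        refine ⟨Nat.one_le_iff_ne_zero.2 fun h0 => ?_, Nat.mod_lt _ D.hp.pos⟩
        rw [h0, pow_zero] at hn
        have := Model.orderOf_conj' y D.x
        rw [hn, orderOf_one, D.xo] at this
        exact D.hp.one_lt.ne this
      rw [sum_eq_single (n % p), if_pos hn]
      · rw [hn, ← pow_mul, extendByZero_mem _ _ (mul_mem D.z_U (pow_mem D.x_U _))]
        set v : D.U := ⟨D.z * D.x ^ (n % p * k), mul_mem D.z_U (pow_mem D.x_U _)⟩ with hv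
        have hvp : (v : H) ^ p = D.z := by
          rw [hv]
          show (D.z * D.x ^ (n % p * k)) ^ p = D.z
          rw [(show Commute D.z (D.x ^ (n % p * k)) from (D.z_comm _).symm).mul_pow, ← pow_mul D.x,
            mul_comm (n % p * k), pow_mul D.x, hxp, one_pow, mul_one, D.z_pow_p]
        rcases D.θU_val v with h | h
        · rw [hvp] at h; exact absurd h.1 D.z_ne
        · rw [h.2, nf]
          have ev : v = ⟨D.z, D.z_U⟩ * ⟨D.x, D.x_U⟩ ^ (n % p * k) :=
            Subtype.ext (by rw [hv, Subgroup.coe_mul, Subgroup.coe_pow])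
          rw [ev, map_mul, mul_pow, D.ν_z, neg_one_sq, one_mul, map_pow, ← pow_mul,
            mul_comm (n % p * k) 2, pow_mul, D.ν_x_sq, ← pow_mul]
      · intro j hj' hne
        rw [if_neg]
        intro hj''
        rw [hn] at hj''
        exact hne (pow_injOn_Iio_orderOf (x := D.x) (by rw [D.xo]; exact (mem_Ico.1 hj').2)
          (by rw [D.xo]; exact (mem_Ico.1 hj).2) hj''.symm)
      · exact fun h => absurd hj h
    · rw [sum_eq_zero fun j _ => if_neg fun (h : y⁻¹ * D.x * y = D.x ^ j) => hc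
        (by rw [h]; exact pow_mem D.x_U _), extendByZero_not_mem]
      intro h
      apply hc
      have h2 : (y⁻¹ * D.x * y) ^ k ∈ D.U := by
        have := mul_mem (inv_mem D.z_U) h
        rwa [inv_mul_cancel_left] at this
      obtain ⟨m, hm⟩ := exists_pow_eq_self_of_coprime hco
      rw [← hm]
      exact pow_mem h2 _
  rw [Φ, indFun_apply, sum_congr rfl (fun y _ => hterm y), sum_comm]
  simp only [sum_ite, sum_const_zero, add_zero, sum_const, nsmul_eq_mul]
  rw [sum_congr rfl fun j hj => by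
    rw [D.conj_card (fun hd => by
      have := mem_Ico.1 hj
      have := Nat.le_of_dvd (by omega) hd
      omega)]]
  rw [← mul_sum, ← mul_sum, D.sum_sigma hk, D.card_U]
  have : (p : ℂ) ≠ 0 := Nat.cast_ne_zero.2 D.hp.ne_zero
  push_cast
  field_simp

/-- The restriction of `Φ` to `U` off the centre. -/
theorem Φ_U (v : D.U) (h1 : v ≠ 1) (h2 : v ≠ ⟨D.z, D.z_U⟩) :
    D.Φ v = D.nf p v - 1 := by
  rcases D.θU_val v with h | h
  · rw [D.Φ_eq_zero (by rw [h.1]; exact D.z_ne.symm), nf,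
      ← map_pow, show v ^ p = 1 from Subtype.ext (by rw [Subgroup.coe_pow]; exact h.1), map_one]
    simp
  · obtain ⟨n, hn⟩ := D.U_elem v
    have hxp : D.x ^ p = 1 := D.x_pow_p
    have hodd : D.z ^ n = D.z := by
      have e := h.1
      rw [hn, D.z_x_pow] at e
      exact e
    rw [hodd] at hn
    have hk : ¬ p ∣ n := by
      rintro ⟨c, rfl⟩
      rw [pow_mul, hxp, one_pow, mul_one] at hn
      exact h2 (Subtype.ext hn)
    rw [hn, D.Φ_unip hk, nf, ← map_pow,
      show v ^ p = ⟨D.z, D.z_U⟩ from Subtype.ext (by rw [Subgroup.coe_pow]; exact h.1), D.ν_z]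
    push_cast
    ring

end Model

end Cfsg.Agent.SDPack
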