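import Mathlib.GroupTheory.Sylow
import Mathlib.GroupTheory.Subgroup.Simple
import Cfsg.Prelude.Def_CaseTheorems

/-!
The statement proved by the semidihedral character package.
-/

set_option autoImplicit false

namespace Cfsg.Agent.SDPack

universe u

/-- No finite simple group has semidihedral Sylow 2-subgroups and all odd Sylow subgroups cyclic. -/
def NoSemidihedral : Prop :=
  ∀ (G : Type u) [Group G] [Finite G], IsSimpleGroup G →
    (∀ p : ℕ, p.Prime → p ≠ 2 → ∀ P : Sylow p G, IsCyclic P) →
      ∀ S : Sylow 2 G, ¬ Cfsg.IsQuasiDihedral (S : Subgroup G)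

end Cfsg.Agent.SDPack
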