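import Cfsg.Agent.Lib.SDPack.ModelBase
import Cfsg.Agent.Lib.Classical.SL2Involutions
import Mathlib.Algebra.CharP.Lemmas
import Mathlib.Data.Int.Lemmas

/-!
The construction of the model.
-/

set_option autoImplicit false
set_option linter.unusedSectionVars false

namespace Cfsg.Agent.SDPack

open Matrix Cfsg.Agent.TwoByTwo

universe u

variable {H : Type u} [Group H] [Finite H] {p : ℕ} [Fact p.Prime]

local notation "Mat" => Matrix (Fin 2) (Fin 2) (ZMod p)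

theorem conj_eq_of_mul {G : Type u} [Group G] {g t : G} (h : g * t = t * g) : g * t * g⁻¹ = t := by
  rw [h, mul_inv_cancel_right]

theorem mul_of_conj_eq {G : Type u} [Group G] {g t : G} (h : g * t * g⁻¹ = t) : g * t = t * g :=
  mul_inv_eq_iff_eq_mul.1 h

theorem comm_transport {G : Type u} [Group G] (g : G) {v t : G} (h : v * t = t * v) :
    g * v * g⁻¹ * (g * t * g⁻¹) = g * t * g⁻¹ * (g * v * g⁻¹) := by
  calc g * v * g⁻¹ * (g * t * g⁻¹) = g * (v * t) * g⁻¹ := by group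
    _ = g * (t * v) * g⁻¹ := by rw [h]
    _ = _ := by group

namespace Hyp

variable (Y : Hyp H p)

/-- The number `h`. -/
noncomputable def hn : ℕ := 4 * 2 ^ Y.pres.p

/-- The signed prime. -/
def qz (_Y : Hyp H p) : ℤ := if p % 4 = 3 then (p : ℤ) else -(p : ℤ)

theorem qz_natAbs : Y.qz.natAbs = p := by
  unfold qz; split_ifs <;> simp

include Y in
theorem p_odd : p % 2 = 1 := Nat.odd_iff.1 ((Fact.out : p.Prime).odd_of_ne_two Y.hp)

theorem qz_mod : Y.qz % 4 = 3 := by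
  have := Y.p_odd
  unfold qz; split_ifs <;> omega

theorem hn_r : (Y.hn : ℤ) = 4 * Y.pres.r := by
  rw [hn, QD.Pres.r]; push_cast; rfl

theorem hn_four : 4 ≤ Y.hn := by
  have := Nat.one_le_two_pow (n := Y.pres.p)
  rw [hn]; omega

theorem prod_abs : (Y.qz + 1).natAbs * (Y.qz - 1).natAbs = p ^ 2 - 1 := by
  have hp2 := (Fact.out : p.Prime).two_le
  rw [← Int.natAbs_mul, show (Y.qz + 1) * (Y.qz - 1) = Y.qz ^ 2 - 1 by ring]
  have h : Y.qz ^ 2 = ((p ^ 2 : ℕ) : ℤ) := by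
    unfold qz; split_ifs <;> push_cast <;> ring
  rw [h]
  have h2 : 1 ≤ p ^ 2 := Nat.one_le_pow _ _ (by omega)
  omega

theorem two_parts :
    (∃ t, Odd t ∧ (Y.qz + 1).natAbs = Y.hn * t) ∧ ∃ t, Odd t ∧ (Y.qz - 1).natAbs = 2 * t := by
  haveI : Fact (Nat.Prime 2) := ⟨Nat.prime_two⟩
  have hq := Y.qz_mod
  obtain ⟨t, ht, hte⟩ : ∃ t, Odd t ∧ (Y.qz - 1).natAbs = 2 * t :=
    ⟨(Y.qz - 1).natAbs / 2, by rw [Nat.odd_iff]; omega, by omega⟩
  refine ⟨?_, t, ht, hte⟩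
  have hS := Y.S.card_eq_multiplicity
  rw [show Nat.card (Y.S : Subgroup H) = 2 ^ (Y.pres.p + 4) from Y.pres.hcard] at hS
  have hm := Nat.pow_right_injective le_rfl hS
  rw [Y.card_H, ← Y.prod_abs, hte] at hm
  have hne : (Y.qz + 1).natAbs ≠ 0 := by
    have := Y.qz_natAbs; have := (Fact.out : p.Prime).two_le; omega
  have ht0 : t ≠ 0 := fun e => by rw [e] at ht; exact absurd ht (by decide)
  have hp0 : p ≠ 0 := (Fact.out : p.Prime).ne_zero
  have hfac : ((Y.qz + 1).natAbs).factorization 2 = Y.pres.p + 2 := by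
    have ht2 : t.factorization 2 = 0 := Nat.factorization_eq_zero_of_not_dvd
      (fun h => by rw [Nat.odd_iff] at ht; omega)
    have hp2 : p.factorization 2 = 0 := Nat.factorization_eq_zero_of_not_dvd
      (fun h => by have := Y.p_odd; omega)
    rw [Nat.factorization_mul two_ne_zero (by positivity), Nat.factorization_mul hp0 (by positivity),
      Nat.factorization_mul hne (by positivity), Nat.factorization_mul two_ne_zero ht0,
      Finsupp.add_apply, Finsupp.add_apply, Finsupp.add_apply, Finsupp.add_apply, ht2, hp2,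
      Nat.prime_two.factorization_self] at hm
    omega
  refine ⟨(Y.qz + 1).natAbs / 2 ^ ((Y.qz + 1).natAbs.factorization 2), ?_, ?_⟩
  · exact Nat.odd_iff.2 (Nat.two_dvd_ne_zero.1 (Nat.not_dvd_ordCompl Nat.prime_two hne))
  · rw [hn, show 4 * 2 ^ Y.pres.p = 2 ^ (Y.pres.p + 2) by rw [pow_add]; ring, ← hfac]
    exact (Nat.ordProj_mul_ordCompl_eq_self _ 2).symm

theorem pow_a_eq_one_iff (n : ℕ) : Y.a ^ n = 1 ↔ 2 * Y.hn ∣ n := by
  rw [← orderOf_dvd_iff_pow_eq_one, a, Subgroup.orderOf_coe, Y.pres.hx, hn,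
    show 2 * (4 * 2 ^ Y.pres.p) = 2 ^ (Y.pres.p + 3) by rw [pow_add]; ring]

theorem ao : orderOf Y.a = 2 * Y.hn := by
  rw [a, Subgroup.orderOf_coe, Y.pres.hx, hn, pow_add]; ring

theorem az : Y.a ^ Y.hn = Y.z := by
  rw [Y.z_eq, a, ← Subgroup.coe_pow, QD.Pres.z, ← Y.hn_r, zpow_natCast]

theorem ua : Y.u * Y.a * Y.u⁻¹ = Y.a ^ (Y.hn - 1) := by
  have h := congrArg Subtype.val Y.pres.conj_x
  simp only [Subgroup.coe_mul, Subgroup.coe_inv, Subgroup.coe_zpow] at h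
  rw [a, u, h, ← zpow_natCast, Nat.cast_sub (by have := Y.hn_four; omega), Y.hn_r]
  rfl

theorem sq_mem (g : H) : g * g ∈ Y.L := Subgroup.mul_self_mem_of_index_two Y.L_index g

theorem a_not : Y.a ∉ Y.L := by
  intro ha
  haveI : Fact (Nat.Prime 2) := ⟨Nat.prime_two⟩
  obtain ⟨x, y, hxy⟩ := SL2Inv.exists_sum_two_squares (two_ne Y.hp) (-1 : ZMod p)
  -- two noncommuting elements of order four in `L`
  obtain ⟨M, hM, hMw⟩ : ∃ M : Matrix.SpecialLinearGroup (Fin 2) (ZMod p), M * M = SL2Inv.negOne ∧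
      M * SL2Inv.w = SL2Inv.negOne * (SL2Inv.w * M) := by
    refine ⟨⟨!![x, y; y, -x], by rw [Matrix.det_fin_two_of]; linear_combination -hxy⟩, ?_, ?_⟩
    · refine (SL2Inv.mul_self_eq_negOne_iff _).2 ?_
      simp [Matrix.trace_fin_two]
    · refine Subtype.ext ?_
      show (!![x, y; y, -x] : Mat) * !![0, -1; 1, 0] = -1 * (!![0, -1; 1, 0] * !![x, y; y, -x])
      ext i j
      fin_cases i <;> fin_cases j <;> simp [Matrix.mul_apply, Fin.sum_univ_two]
  set P : H := ((Y.e.symm M : Y.L) : H) with hP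
  have hPL : P ∈ Y.L := (Y.e.symm M).2
  have hPw : P * Y.w4 = Y.z * (Y.w4 * P) := by
    rw [hP, w4, z, ← Subgroup.coe_mul, ← Subgroup.coe_mul, ← Subgroup.coe_mul, ← map_mul, ← map_mul,
      ← map_mul, hMw]
  have hP4 : ∃ k, orderOf P = 2 ^ k := by
    have hPz : P * P = Y.z := by rw [hP, z, ← Subgroup.coe_mul, ← map_mul, hM]
    refine ⟨2, orderOf_eq_prime_pow (n := 1) (fun h => ?_) ?_⟩
    · rw [pow_one, pow_two, hPz] at h; exact Y.z_ne h
    · rw [show (2 : ℕ) ^ (1 + 1) = 2 * 2 by norm_num, pow_mul, pow_two, pow_two, hPz, Y.zz]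
  -- the 2-group they generate is conjugate into the Sylow subgroup
  have h1 : IsPGroup 2 (Subgroup.zpowers P) := by
    obtain ⟨k, hk⟩ := hP4; exact IsPGroup.of_card (n := k) (by rw [Nat.card_zpowers, hk])
  have h2 : IsPGroup 2 (Subgroup.zpowers (Y.w4 : H)) := by
    obtain ⟨k, hk⟩ := Y.w4_two; exact IsPGroup.of_card (n := k) (by rw [Nat.card_zpowers, hk])
  have hle : Subgroup.zpowers P ≤ Subgroup.normalizer (Subgroup.zpowers (Y.w4 : H) : Set H) := by
    rw [Subgroup.zpowers_le]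
    refine Subgroup.mem_normalizer_fintype fun v hv => ?_
    obtain ⟨n, rfl⟩ := Subgroup.mem_zpowers_iff.1 hv
    rw [← conj_zpow, SetLike.mem_coe]
    refine zpow_mem ?_ n
    rw [hPw, mul_assoc, mul_inv_cancel_right, ← Y.w4_sq]
    exact mul_mem (mul_mem (Subgroup.mem_zpowers _) (Subgroup.mem_zpowers _)) (Subgroup.mem_zpowers _)
  obtain ⟨W, hW⟩ := (IsPGroup.to_sup_of_normal_right' h1 h2 hle).exists_le_sylow
  obtain ⟨c, hc⟩ := MulAction.exists_smul_eq H W Y.S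
  have hmem : ∀ v ∈ (W : Subgroup H), c * v * c⁻¹ ∈ (Y.S : Subgroup H) := fun v hv => by
    rw [← hc, Sylow.coe_subgroup_smul]; exact ⟨v, hv, rfl⟩
  have key : ∀ v ∈ (W : Subgroup H), v ∈ Y.L → ∃ i : ℤ, c * v * c⁻¹ = Y.a ^ i := by
    intro v hv hvL
    rcases Y.pres.cases ⟨_, hmem v hv⟩ with ⟨i, hi⟩ | ⟨i, hi⟩
    · exact ⟨i, congrArg Subtype.val hi⟩
    · exfalso
      have hi' : c * v * c⁻¹ = Y.a ^ i * Y.u := congrArg Subtype.val hi
      refine Y.u_not ((Subgroup.mul_mem_cancel_left _ (zpow_mem ha i)).1 ?_)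
      rw [← hi']
      exact Y.normal.conj_mem _ hvL c
  obtain ⟨i, hi⟩ := key P (hW (Subgroup.mem_sup_left (Subgroup.mem_zpowers _))) hPL
  obtain ⟨j, hj⟩ := key _ (hW (Subgroup.mem_sup_right (Subgroup.mem_zpowers _))) Y.w4.2
  have h' := comm_transport c⁻¹ (show (c * P * c⁻¹) * (c * Y.w4 * c⁻¹) = (c * Y.w4 * c⁻¹) * (c * P * c⁻¹) by
    rw [hi, hj, ← _root_.zpow_add, ← _root_.zpow_add, add_comm])
  simp only [inv_inv, mul_assoc, inv_mul_cancel_left, inv_mul_cancel, mul_one] at h'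
  rw [h'] at hPw
  exact Y.z_ne (right_eq_mul.1 hPw)

theorem a_sq_ne : Y.a * Y.a ≠ 1 ∧ Y.a * Y.a ≠ Y.z := by
  have := Y.hn_four
  constructor
  · intro h
    have h' := (Y.pow_a_eq_one_iff 2).1 (by rw [pow_two, h])
    exact absurd (Nat.le_of_dvd two_pos h') (by omega)
  · intro h
    have h' := (Y.pow_a_eq_one_iff 4).1 (by rw [show 4 = 2 + 2 from rfl, pow_add, pow_two, h, Y.zz])
    exact absurd (Nat.le_of_dvd (by norm_num) h') (by omega)

/-- The square of `a` in `L`. -/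
noncomputable def a2 : Y.L := ⟨Y.a * Y.a, Y.sq_mem Y.a⟩

theorem T_eq (g : H) : g * Y.a = Y.a * g ↔ g ∈ Y.cen (Y.e Y.a2).1 := by
  obtain ⟨hns, hiff⟩ := Y.cent_L (l := Y.a2) Y.a_sq_ne.1 Y.a_sq_ne.2
  constructor
  · intro h
    refine (hiff g).1 ?_
    show g * (Y.a * Y.a) = Y.a * Y.a * g
    rw [← mul_assoc, h, mul_assoc, h, ← mul_assoc]
  · intro h
    have ha : Y.a ∈ Y.cen (Y.e Y.a2).1 := (hiff Y.a).1 (by
      show Y.a * (Y.a * Y.a) = Y.a * Y.a * Y.a; rw [mul_assoc])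
    exact Y.cen_comm hns h ha

theorem T_comm {s t : H} (hs : s * Y.a = Y.a * s) (ht : t * Y.a = Y.a * t) : s * t = t * s :=
  Y.cen_comm (Y.cent_L (l := Y.a2) Y.a_sq_ne.1 Y.a_sq_ne.2).1 ((Y.T_eq s).1 hs) ((Y.T_eq t).1 ht)

theorem T_card :
    Nat.card (Subgroup.centralizer ({Y.a} : Set H)) = 2 * (Y.qz + 1).natAbs := by
  obtain ⟨hns, -⟩ := Y.cent_L (l := Y.a2) Y.a_sq_ne.1 Y.a_sq_ne.2
  have he : Subgroup.centralizer ({Y.a} : Set H) = Y.cen (Y.e Y.a2).1 := by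
    ext g; rw [Subgroup.mem_centralizer_singleton_iff]; exact Y.T_eq g
  have hd : 2 * Y.hn ∣ Nat.card (Subgroup.centralizer ({Y.a} : Set H)) := by
    rw [← Y.ao]
    exact Subgroup.orderOf_dvd_natCard _ (Subgroup.mem_centralizer_singleton_iff.2 rfl)
  rw [he] at hd ⊢
  have := Y.hn_four
  obtain ⟨-, t, ht, hte⟩ := Y.two_parts
  have hodd := Y.p_odd
  have h4 : 4 ∣ Y.hn := ⟨2 ^ Y.pres.p, rfl⟩
  have hp2 := (Fact.out : p.Prime).two_le
  rw [Nat.odd_iff] at ht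
  have hq := Y.qz_mod
  unfold qz at hte hq ⊢
  rcases Y.card_cen hns with e | e | e <;> rw [e] at hd ⊢ <;>
    have hd2 := Nat.dvd_of_mul_dvd_mul_left two_pos hd <;>
    have hd4 := h4.trans hd2 <;> split_ifs at hte hq ⊢ <;> omega

/-- The 2-part of the torus is `⟨a⟩`. -/
theorem T_small {t : H} (ht : t * Y.a = Y.a * t) (h4 : t ^ 4 = 1) : t ∈ Y.L := by
  set T := Subgroup.centralizer ({Y.a} : Set H) with hT
  have haT : Y.a ∈ T := Subgroup.mem_centralizer_singleton_iff.2 rfl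
  set aT : T := ⟨Y.a, haT⟩
  set tT : T := ⟨t, Subgroup.mem_centralizer_singleton_iff.2 ht⟩
  have hcomm : ∀ s v : T, s * v = v * s := fun s v => Subtype.ext
    (Y.T_comm (Subgroup.mem_centralizer_singleton_iff.1 s.2)
      (Subgroup.mem_centralizer_singleton_iff.1 v.2))
  haveI : (Subgroup.zpowers aT).Normal := ⟨fun v hv g => by
    rw [hcomm g v, mul_inv_cancel_right]; exact hv⟩
  have hidx : Odd (Subgroup.zpowers aT).index := by
    have h1 := Subgroup.card_mul_index (Subgroup.zpowers aT)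
    rw [Nat.card_zpowers, ← Subgroup.orderOf_coe, show ((aT : T) : H) = Y.a from rfl, Y.ao,
      Y.T_card] at h1
    obtain ⟨⟨m, hm, hme⟩, -⟩ := Y.two_parts
    rw [hme, ← mul_assoc] at h1
    rw [Nat.eq_of_mul_eq_mul_left (by have := Y.hn_four; omega) h1]
    exact hm
  have hmem : tT ∈ Subgroup.zpowers aT := by
    rw [← QuotientGroup.eq_one_iff, ← orderOf_eq_one_iff]
    refine Nat.eq_one_of_dvd_coprimes (a := 2 ^ 2) (b := (Subgroup.zpowers aT).index) ?_ ?_ ?_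
    · exact (Nat.coprime_two_left.2 hidx).pow_left 2
    · refine orderOf_dvd_of_pow_eq_one ?_
      rw [← QuotientGroup.mk_pow, show tT ^ 2 ^ 2 = 1 from Subtype.ext h4]; rfl
    · exact orderOf_dvd_natCard _
  obtain ⟨i, hi⟩ := Subgroup.mem_zpowers_iff.1 hmem
  have hi' : Y.a ^ i = t := congrArg Subtype.val hi
  obtain ⟨j, rfl⟩ : ∃ j, i = 2 * j := by
    refine ⟨i / 2, ?_⟩
    have h : Y.a ^ (4 * i) = 1 := by rw [mul_comm, _root_.zpow_mul, hi', zpow_ofNat]; exact h4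
    rw [← orderOf_dvd_iff_zpow_eq_one, Y.ao] at h
    obtain ⟨c, hc⟩ := h
    have e : (Y.hn : ℤ) = 4 * 2 ^ Y.pres.p := by rw [hn]; push_cast; rfl
    push_cast at hc
    rw [e, show 2 * (4 * 2 ^ Y.pres.p) * c = 4 * (2 * (2 ^ Y.pres.p * c)) by ring] at hc
    omega
  rw [← hi', _root_.zpow_mul, zpow_ofNat, pow_two]
  exact zpow_mem (Y.sq_mem Y.a) j

theorem T_cent {t : H} (ht : t * Y.a = Y.a * t) (h1 : t ≠ 1) (hz : t ≠ Y.z) {g : H}
    (hg : g * t = t * g) : g * Y.a = Y.a * g := by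
  have key : ∀ s ∈ Y.L, s * Y.a = Y.a * s → s ≠ 1 → s ≠ Y.z → g * s = s * g →
      g * Y.a = Y.a * g := by
    intro s hs hsa hs1 hsz hgs
    obtain ⟨hns, hiff⟩ := Y.cent_L (l := ⟨s, hs⟩) hs1 hsz
    exact Y.cen_comm hns ((hiff g).1 hgs) ((hiff Y.a).1 hsa.symm)
  by_cases hL : t ∈ Y.L
  · exact key t hL ht h1 hz hg
  have hne : t * t ≠ 1 ∧ t * t ≠ Y.z := by
    constructor <;> intro e <;> apply hL <;> refine Y.T_small ht ?_ <;>
      rw [show 4 = 2 + 2 from rfl, pow_add, pow_two, e]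
    · rw [one_mul]
    · exact Y.zz
  refine key (t * t) (Y.sq_mem t) ?_ hne.1 hne.2 ?_
  · rw [mul_assoc, ht, ← mul_assoc, ht, mul_assoc]
  · rw [← mul_assoc, hg, mul_assoc, hg, mul_assoc]

theorem coe_inv_adj (s : Y.L) : (Y.e s⁻¹).1 = (Y.e s).1.adjugate := by
  rw [map_inv]; rfl

omit [Finite H] in
theorem adj_lin (c d : ZMod p) (M : Mat) :
    (c • (1 : Mat) + d • M).adjugate = c • (1 : Mat) + d • M.adjugate := by
  ext i j
  fin_cases i <;> fin_cases j <;> simp [Matrix.adjugate_fin_two]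

/-- Conjugation by `u` inverts the part of the torus in `L`. -/
theorem T_inv {t : H} (htL : t ∈ Y.L) (ht : t * Y.a = Y.a * t) : Y.u * t * Y.u⁻¹ = t⁻¹ := by
  haveI := Y.normal
  obtain ⟨A, hA⟩ := exists_acts Y.hp Y.e Y.u
  obtain ⟨hns, hiff⟩ := Y.cent_L (l := Y.a2) Y.a_sq_ne.1 Y.a_sq_ne.2
  have hct : (Y.e Y.a2).1 * (Y.e ⟨t, htL⟩).1 = (Y.e ⟨t, htL⟩).1 * (Y.e Y.a2).1 := by
    have h : Y.a2 * ⟨t, htL⟩ = ⟨t, htL⟩ * Y.a2 := Subtype.ext (by
      show Y.a * Y.a * t = t * (Y.a * Y.a)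
      rw [mul_assoc, ← ht, ← mul_assoc, ← ht, mul_assoc])
    exact congrArg Subtype.val (by rw [← map_mul, h, map_mul] :
      Y.e Y.a2 * Y.e ⟨t, htL⟩ = Y.e ⟨t, htL⟩ * Y.e Y.a2)
  obtain ⟨c, d, hcd⟩ := commute_eq hns hct
  have hua : Y.u * (Y.a * Y.a) * Y.u⁻¹ = (Y.a * Y.a)⁻¹ := by
    rw [show Y.u * (Y.a * Y.a) * Y.u⁻¹ = (Y.u * Y.a * Y.u⁻¹) * (Y.u * Y.a * Y.u⁻¹) by group, Y.ua,
      eq_inv_iff_mul_eq_one, ← pow_add, ← pow_two, ← pow_add, Y.pow_a_eq_one_iff]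
    have := Y.hn_four
    exact ⟨1, by omega⟩
  have h1 := hA Y.a2
  rw [show (⟨Y.u * (Y.a2 : H) * Y.u⁻¹, _⟩ : Y.L) = Y.a2⁻¹ from Subtype.ext hua,
    Y.coe_inv_adj] at h1
  have h2 := hA ⟨t, htL⟩
  rw [hcd, mul_add, add_mul, mul_smul_comm, smul_mul_assoc, mul_one, Units.mul_inv, mul_smul_comm,
    smul_mul_assoc, ← h1, ← adj_lin, ← hcd, ← Y.coe_inv_adj] at h2
  exact congrArg Subtype.val (Y.e.injective (Subtype.ext h2))

theorem disc_ne : (Y.e Y.a2).1.trace ^ 2 ≠ 4 * (Y.e Y.a2).1.det := by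
  intro h
  set M := (Y.e Y.a2).1 with hM
  set s := M.trace / 2 with hs
  have h2 := two_ne (p := p) Y.hp
  have hdet : M.det = 1 := (Y.e Y.a2).2
  rw [hdet, mul_one] at h
  have hs2 : s ^ 2 = 1 := by
    rw [hs, div_pow, h, show (2 : ZMod p) ^ 2 = 4 by norm_num, div_self]
    rw [show (4 : ZMod p) = 2 * 2 by norm_num]; exact mul_ne_zero h2 h2
  have hN : (M - s • (1 : Mat)) ^ 2 = 0 := by
    have e : M.trace = 2 * s := by rw [hs]; field_simp
    rw [pow_two, sub_mul, mul_sub, mul_sub, mul_smul_comm, smul_mul_assoc, mul_one, one_mul,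
      smul_mul_assoc, one_mul, smul_smul, sq_eq M, hdet, e, ← pow_two, hs2, one_smul, ← smul_smul,
      two_smul]
    abel
  haveI : CharP (Mat) p := Matrix.charP p
  have hpow : M ^ p = s ^ p • (1 : Mat) := by
    have hsum : M = (M - s • (1 : Mat)) + s • (1 : Mat) := by abel
    conv_lhs => rw [hsum]
    rw [add_pow_char_of_commute (p := p) ((Commute.one_right _).smul_right s)]
    have hz : (M - s • (1 : Mat)) ^ p = 0 := by
      calc (M - s • (1 : Mat)) ^ p = (M - s • (1 : Mat)) ^ (2 + (p - 2)) := by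
            congr 1; have := (Fact.out : p.Prime).two_le; omega
        _ = 0 := by rw [pow_add, hN, zero_mul]
    rw [hz, zero_add, _root_.smul_pow, one_pow]
  have h4 : M ^ (p * 2) = 1 := by
    rw [pow_mul, hpow, _root_.smul_pow, one_pow, ← pow_mul, mul_comm, pow_mul, hs2, one_pow, one_smul]
  have h5 : Y.a2 ^ (p * 2) = 1 := by
    refine Y.e.injective (Subtype.ext ?_)
    rw [map_pow, map_one]
    exact h4
  have h6 : Y.a ^ (p * 4) = 1 := by
    have := congrArg Subtype.val h5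
    rw [Subgroup.coe_pow, OneMemClass.coe_one] at this
    rw [show p * 4 = 2 * (p * 2) by ring, pow_mul, pow_two]
    exact this
  obtain ⟨c, hc⟩ := (Y.pow_a_eq_one_iff _).1 h6
  have := Y.p_odd
  rw [hn] at hc
  have : p = 2 * (2 ^ Y.pres.p * c) := by
    have h' : p * 4 = 2 * (2 ^ Y.pres.p * c) * 4 := by rw [hc]; ring
    omega
  omega

theorem T_norm {g t : H} (ht : t * Y.a = Y.a * t) (h1 : t ≠ 1) (hz : t ≠ Y.z)
    (hgt : g * t * g⁻¹ * Y.a = Y.a * (g * t * g⁻¹)) :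
    g * Y.a = Y.a * g ∨ Y.u⁻¹ * g * Y.a = Y.a * (Y.u⁻¹ * g) := by
  haveI := Y.normal
  have h1' : g * t * g⁻¹ ≠ 1 := fun e => h1 (by rwa [conj_eq_one_iff] at e)
  have hz' : g * t * g⁻¹ ≠ Y.z := fun e => hz (by
    calc t = g⁻¹ * (g * t * g⁻¹) * g := by group
      _ = Y.z := by rw [e, Y.z_comm, mul_assoc, inv_mul_cancel, mul_one])
  -- `g` normalises the torus
  have hN : g * Y.a * g⁻¹ * Y.a = Y.a * (g * Y.a * g⁻¹) :=
    Y.T_cent hgt h1' hz' (comm_transport g ht.symm)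
  set b : Y.L := ⟨g * (Y.a2 : H) * g⁻¹, Y.normal.conj_mem _ Y.a2.2 g⟩ with hb
  obtain ⟨hns, hiff⟩ := Y.cent_L (l := Y.a2) Y.a_sq_ne.1 Y.a_sq_ne.2
  have hba : (Y.e Y.a2).1 * (Y.e b).1 = (Y.e b).1 * (Y.e Y.a2).1 := by
    have h : Y.a2 * b = b * Y.a2 := Subtype.ext (by
      have hgb : (b : H) * Y.a = Y.a * b := by
        show g * (Y.a * Y.a) * g⁻¹ * Y.a = Y.a * (g * (Y.a * Y.a) * g⁻¹)
        rw [show g * (Y.a * Y.a) * g⁻¹ = (g * Y.a * g⁻¹) * (g * Y.a * g⁻¹) by group, mul_assoc, hN,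
          ← mul_assoc, hN, mul_assoc]
      show Y.a * Y.a * (b : H) = (b : H) * (Y.a * Y.a)
      rw [mul_assoc, ← hgb, ← mul_assoc, ← hgb, mul_assoc])
    exact congrArg Subtype.val (by rw [← map_mul, h, map_mul] :
      Y.e Y.a2 * Y.e b = Y.e b * Y.e Y.a2)
  obtain ⟨c, d, hcd⟩ := commute_eq hns hba
  obtain ⟨A, hA⟩ := exists_acts Y.hp Y.e g
  have hAb := hA Y.a2
  set M := (Y.e Y.a2).1 with hM
  have htr : (Y.e b).1.trace = M.trace := by
    rw [hAb, Matrix.trace_mul_comm, ← mul_assoc, Units.inv_mul, one_mul]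
  have hdet1 : (Y.e b).1.det = 1 := (Y.e b).2
  have hdet : M.det = 1 := (Y.e Y.a2).2
  rw [hcd, det_lin, hdet, mul_one] at hdet1
  rw [hcd, Matrix.trace_add, Matrix.trace_smul, Matrix.trace_smul, Matrix.trace_one,
    Fintype.card_fin, smul_eq_mul, smul_eq_mul, Nat.cast_ofNat] at htr
  have hdisc := Y.disc_ne
  rw [← hM, hdet, mul_one] at hdisc
  have hd : (d - 1) * (d + 1) * (M.trace ^ 2 - 4) = 0 := by
    linear_combination (2 * c + d * M.trace + M.trace) * htr - 4 * hdet1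
  rcases mul_eq_zero.1 ((mul_eq_zero.1 hd).resolve_right (sub_ne_zero.2 hdisc)) with e | e
  · -- `g` fixes `a ^ 2`
    have hd1 : d = 1 := by linear_combination e
    have hc0 : c = 0 := by
      have h2c : 2 * c = 0 := by rw [hd1] at htr; linear_combination htr
      exact (mul_eq_zero.1 h2c).resolve_left (two_ne Y.hp)
    rw [hd1, hc0, zero_smul, zero_add, one_smul] at hcd
    left
    rw [Y.T_eq]
    exact (hiff g).1 (mul_of_conj_eq (congrArg Subtype.val (Y.e.injective (Subtype.ext hcd) : b = Y.a2)))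
  · right
    have hd1 : d = -1 := by linear_combination e
    have hc0 : c = M.trace := by
      refine mul_left_cancel₀ (two_ne (p := p) Y.hp) ?_
      rw [hd1] at htr
      linear_combination htr
    have hadj : (Y.e b).1 = M.adjugate := by
      rw [hcd, hd1, hc0]
      ext i j
      fin_cases i <;> fin_cases j <;> simp [Matrix.adjugate_fin_two, Matrix.trace_fin_two]
    rw [← Y.coe_inv_adj] at hadj
    have hb' : g * (Y.a * Y.a) * g⁻¹ = (Y.a * Y.a)⁻¹ :=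
      congrArg Subtype.val (Y.e.injective (Subtype.ext hadj) : b = Y.a2⁻¹)
    rw [Y.T_eq]
    refine (hiff _).1 (mul_of_conj_eq ?_)
    have hu := Y.T_inv (inv_mem Y.a2.2) (t := (Y.a * Y.a)⁻¹) (by
      rw [eq_comm, mul_inv_eq_iff_eq_mul, mul_assoc, eq_inv_mul_iff_mul_eq, mul_assoc])
    rw [inv_inv] at hu
    show Y.u⁻¹ * g * (Y.a * Y.a) * (Y.u⁻¹ * g)⁻¹ = Y.a * Y.a
    rw [show Y.u⁻¹ * g * (Y.a * Y.a) * (Y.u⁻¹ * g)⁻¹ =
      Y.u⁻¹ * (g * (Y.a * Y.a) * g⁻¹) * Y.u by group, hb']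
    nth_rewrite 2 [← hu]
    rw [show Y.u⁻¹ = Y.u from inv_eq_of_mul_eq_one_right Y.uu]

/-! ### The second torus -/

theorem exists_T1 : ∃ M : Mat, ¬ IsScalar M ∧ ∀ g, g * Y.u = Y.u * g ↔ g ∈ Y.cen M := by
  haveI := Y.normal
  obtain ⟨A, hA⟩ := Matrix.ProjGenLinGroup.mk_surjective (Y.ρ Y.u)
  have hns : ¬ IsScalar A.1 := by
    intro hs
    have h1 : Matrix.ProjGenLinGroup.mk A = 1 := by
      rw [Matrix.ProjGenLinGroup.mk_eq_one, Subgroup.mem_center_iff]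
      intro B
      refine Units.ext ?_
      rw [Units.val_mul, Units.val_mul, isScalar_iff.1 hs, mul_smul_comm, smul_mul_assoc, mul_one,
        one_mul]
    rcases Y.ρ_eq_one.1 (hA.symm.trans h1) with e | e
    · exact Y.u_ne_one e
    · exact Y.u_ne_z e
  have huc : Y.u ∈ Y.cen A.1 := ⟨A, rfl, hA⟩
  refine ⟨A.1, hns, fun g => ⟨fun hg => ?_, fun hg => Y.cen_comm hns hg huc⟩⟩
  -- squares and 2-elements of the centraliser lie in the group of `A`
  have hsq : ∀ g, g * Y.u = Y.u * g → g * g ∈ Y.cen A.1 := by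
    intro g hg
    obtain ⟨B, hB⟩ := Matrix.ProjGenLinGroup.mk_surjective (Y.ρ g)
    have h : Matrix.ProjGenLinGroup.mk (A * B) = Matrix.ProjGenLinGroup.mk (B * A) := by
      rw [map_mul, map_mul, hA, hB, ← map_mul, ← map_mul, hg]
    obtain ⟨v, hv⟩ := Matrix.ProjGenLinGroup.mk_eq_mk_iff.1 h
    have hv' : A.1 * B.1 * (Matrix.GeneralLinearGroup.scalar (Fin 2) v : GL (Fin 2) (ZMod p)).1 =
        B.1 * A.1 := congrArg Units.val hv
    rw [Matrix.GeneralLinearGroup.coe_scalar, scalar_apply] at hv'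
    have hs' : (Matrix.diagonal fun _ : Fin 2 => (v : ZMod p)) = (v : ZMod p) • (1 : Mat) := by
      ext i j; simp [Matrix.one_apply, Matrix.diagonal_apply]
    rw [hs', mul_smul_comm, mul_one] at hv'
    have hdet := congrArg Matrix.det hv'
    rw [Matrix.det_smul, Fintype.card_fin, Matrix.det_mul, Matrix.det_mul, mul_comm B.1.det] at hdet
    have hv2 : (v : ZMod p) ^ 2 = 1 := by
      have hne : A.1.det * B.1.det ≠ 0 := mul_ne_zero A.det_ne_zero B.det_ne_zero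
      exact mul_left_eq_self₀.1 hdet |>.resolve_right hne
    refine ⟨B * B, ?_, by rw [map_mul, hB, map_mul]⟩
    show (B * B).1 * A.1 = A.1 * (B * B).1
    rw [Units.val_mul, mul_assoc, ← hv', mul_smul_comm, ← mul_assoc, ← hv', smul_mul_assoc,
      smul_smul, ← pow_two, hv2, one_smul, mul_assoc]
  haveI : Fact (Nat.Prime 2) := ⟨Nat.prime_two⟩
  obtain ⟨x, y, hxy, hx, hy, hxk, hyodd⟩ := Cfsg.Agent.PBasic.exists_pPart_mul (p := 2) g
  have hcom : ∀ v ∈ Subgroup.zpowers g, v * Y.u = Y.u * v := fun v hv => by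
    obtain ⟨n, rfl⟩ := Subgroup.mem_zpowers_iff.1 hv
    exact ((show Commute g Y.u from hg).zpow_left n).eq
  rw [← hxy]
  refine mul_mem ?_ ?_
  · have hzc : Y.z ∈ Y.cen A.1 := ⟨1, one_mem _, by rw [map_one, (Y.ρ_eq_one).2 (Or.inr rfl)]⟩
    rcases Y.two_cent Y.uu Y.u_ne_one Y.u_ne_z (hcom x hx) hxk with e | e | e | e <;> rw [e]
    exacts [one_mem _, hzc, huc, mul_mem hzc huc]
  · obtain ⟨m, hm⟩ : ∃ m, orderOf y = 2 * m + 1 := by
      have h := Nat.coprime_two_left.1 (by simpa using hyodd.symm)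
      exact h
    have e : y = y ^ (m + 1) * y ^ (m + 1) := by
      have hp := pow_orderOf_eq_one y
      rw [hm] at hp
      rw [← pow_add, show m + 1 + (m + 1) = (2 * m + 1) + 1 by ring, pow_succ, hp, one_mul]
    rw [e]
    exact hsq _ (hcom _ (pow_mem hy _))

theorem T1_comm {s t : H} (hs : s * Y.u = Y.u * s) (ht : t * Y.u = Y.u * t) : s * t = t * s := by
  obtain ⟨M, hM, hiff⟩ := Y.exists_T1
  exact Y.cen_comm hM ((hiff s).1 hs) ((hiff t).1 ht)

theorem T1_two {t : H} (ht : t * Y.u = Y.u * t) (h2 : ∃ k, orderOf t = 2 ^ k) :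
    t = 1 ∨ t = Y.z ∨ t = Y.u ∨ t = Y.u * Y.z := by
  rw [Y.z_comm Y.u]
  exact Y.two_cent Y.uu Y.u_ne_one Y.u_ne_z ht h2

theorem T1_card :
    Nat.card (Subgroup.centralizer ({Y.u} : Set H)) = 2 * (Y.qz - 1).natAbs := by
  classical
  haveI : Fact (Nat.Prime 2) := ⟨Nat.prime_two⟩
  obtain ⟨M, hM, hiff⟩ := Y.exists_T1
  set U := Subgroup.centralizer ({Y.u} : Set H) with hU
  have he : U = Y.cen M := by
    ext g; rw [hU, Subgroup.mem_centralizer_singleton_iff]; exact hiff g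
  have huU : Y.u ∈ U := Subgroup.mem_centralizer_singleton_iff.2 rfl
  have hzU : Y.z ∈ U := Subgroup.mem_centralizer_singleton_iff.2 (Y.z_comm Y.u).symm
  have h8 : ¬ 8 ∣ Nat.card U := fun h => by
    obtain ⟨W, hW⟩ := Sylow.exists_subgroup_card_pow_prime 2 (n := 3) (G := U) h
    have hsub : ∀ v ∈ W, (v : H) = 1 ∨ (v : H) = Y.z ∨ (v : H) = Y.u ∨ (v : H) = Y.u * Y.z := by
      intro v hv
      refine Y.T1_two (Subgroup.mem_centralizer_singleton_iff.1 v.2) ?_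
      obtain ⟨k, hk⟩ := IsPGroup.iff_orderOf.1 (IsPGroup.of_card (n := 3) hW) ⟨v, hv⟩
      exact ⟨k, by rwa [Subgroup.orderOf_mk, ← Subgroup.orderOf_coe] at hk⟩
    have hle : (W.map U.subtype : Set H).ncard ≤
        ({1, Y.z, Y.u, Y.u * Y.z} : Finset H).card := by
      rw [← Set.ncard_coe_finset]
      refine Set.ncard_le_ncard (fun w hw => ?_) (Finset.finite_toSet _)
      obtain ⟨v, hv, rfl⟩ := hw
      simpa using hsub v hv
    rw [← Nat.card_coe_set_eq, SetLike.coe_sort_coe,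
      Subgroup.card_map_of_injective U.subtype_injective, hW] at hle
    have h4 : ({1, Y.z, Y.u, Y.u * Y.z} : Finset H).card ≤ 4 := Finset.card_le_four
    norm_num at hle
    omega
  have h4 : 4 ∣ Nat.card U := by
    -- the four-group
    let K : Subgroup U :=
      { carrier := {v | (v : H) = 1 ∨ (v : H) = Y.z ∨ (v : H) = Y.u ∨ (v : H) = Y.u * Y.z}
        one_mem' := Or.inl rfl
        inv_mem' := by
          intro v hv
          have key : (v : H) * v = 1 := by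
            rcases hv with e | e | e | e <;> rw [e]
            · rw [one_mul]
            · exact Y.zz
            · exact Y.uu
            · rw [mul_assoc, ← mul_assoc Y.z, ← Y.z_comm Y.u, mul_assoc, Y.zz, mul_one, Y.uu]
          rw [show v⁻¹ = v from inv_eq_of_mul_eq_one_right (Subtype.ext key)]
          exact hv
        mul_mem' := by
          intro v w hv hw
          show ((v : H) * w = 1 ∨ (v : H) * w = Y.z ∨ (v : H) * w = Y.u ∨ (v : H) * w = Y.u * Y.z)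
          have huzu : Y.u * (Y.z * Y.u) = Y.z := by
            rw [← Y.z_comm Y.u, ← mul_assoc, Y.uu, one_mul]
          have hz1 : ∀ a : H, Y.z * (Y.z * a) = a := fun a => by rw [← mul_assoc, Y.zz, one_mul]
          have hu1 : ∀ a : H, Y.u * (Y.u * a) = a := fun a => by rw [← mul_assoc, Y.uu, one_mul]
          have hzu : Y.z * Y.u = Y.u * Y.z := (Y.z_comm Y.u).symm
          have hzuz : Y.z * (Y.u * Y.z) = Y.u := by
            rw [← mul_assoc, hzu, mul_assoc, Y.zz, mul_one]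
          have huzuz : Y.u * (Y.z * (Y.u * Y.z)) = 1 := by rw [hzuz, Y.uu]
          rcases hv with e | e | e | e <;> rcases hw with f | f | f | f <;> rw [e, f] <;>
            simp [mul_assoc, Y.zz, Y.uu, hu1, hzu, hzuz, huzuz] }
    have hK : Nat.card K = 4 := by
      have huz : Y.u * Y.z ≠ 1 := fun e => Y.u_ne_z
        (by rw [eq_inv_of_mul_eq_one_left e, inv_eq_of_mul_eq_one_right Y.zz])
      have d1 : ({⟨1, one_mem U⟩, ⟨Y.z, hzU⟩, ⟨Y.u, huU⟩, ⟨Y.u * Y.z, mul_mem huU hzU⟩} :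
          Finset U).card = 4 := by
        have n1 : Y.z ≠ Y.u * Y.z := fun e => Y.u_ne_one (right_eq_mul.1 e)
        have n2 : Y.u ≠ Y.u * Y.z := fun e => Y.z_ne (left_eq_mul.1 e)
        rw [Finset.card_insert_of_notMem, Finset.card_insert_of_notMem,
          Finset.card_insert_of_notMem, Finset.card_singleton]
        · rw [Finset.mem_singleton, Subtype.ext_iff]; exact n2
        · simp only [Finset.mem_insert, Finset.mem_singleton, Subtype.ext_iff, not_or]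
          exact ⟨Y.u_ne_z.symm, n1⟩
        · simp only [Finset.mem_insert, Finset.mem_singleton, Subtype.ext_iff, not_or]
          exact ⟨Y.z_ne.symm, Y.u_ne_one.symm, huz.symm⟩
      rw [← d1, ← Set.ncard_coe_finset, ← Nat.card_coe_set_eq]
      refine Nat.card_congr (Equiv.setCongr ?_)
      ext v
      show _ ↔ v ∈ ((({⟨1, one_mem U⟩, ⟨Y.z, hzU⟩, ⟨Y.u, huU⟩, ⟨Y.u * Y.z, mul_mem huU hzU⟩} :
          Finset U)) : Set U)
      rw [Finset.mem_coe]
      simp only [Finset.mem_insert, Finset.mem_singleton, Subtype.ext_iff]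
      rfl
    exact hK ▸ Subgroup.card_subgroup_dvd_card K
  rw [he] at h4 h8 ⊢
  obtain ⟨⟨t, ht, hte⟩, s, hs, hse⟩ := Y.two_parts
  have hodd := Y.p_odd
  have hp2 := (Fact.out : p.Prime).two_le
  have h4' : 4 ∣ Y.hn := ⟨2 ^ Y.pres.p, rfl⟩
  have h4'' : 4 ∣ (Y.qz + 1).natAbs := hte ▸ h4'.mul_right t
  rw [Nat.odd_iff] at hs
  have hq := Y.qz_mod
  unfold qz at hse hq h4'' ⊢
  rcases Y.card_cen hM with e | e | e <;> rw [e] at h4 h8 ⊢ <;>
    split_ifs at hse hq h4'' ⊢ <;> omega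

theorem T1_cent {t : H} (ht : t * Y.u = Y.u * t) (h1 : t ≠ 1) (hz : t ≠ Y.z) {g : H}
    (hg : g * t = t * g) : g * Y.u = Y.u * g := by
  have key : ∀ s ∈ Y.L, s * Y.u = Y.u * s → s ≠ 1 → s ≠ Y.z → g * s = s * g →
      g * Y.u = Y.u * g := by
    intro s hs hsu hs1 hsz hgs
    obtain ⟨hns, hiff⟩ := Y.cent_L (l := ⟨s, hs⟩) hs1 hsz
    exact Y.cen_comm hns ((hiff g).1 hgs) ((hiff Y.u).1 hsu.symm)
  by_cases hsq : t * t = 1 ∨ t * t = Y.z
  · have h2 : ∃ k, orderOf t = 2 ^ k := by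
      have h4 : t ^ 2 ^ 2 = 1 := by
        rw [show (2 : ℕ) ^ 2 = 2 * 2 by norm_num, pow_mul, pow_two, pow_two]
        rcases hsq with e | e <;> rw [e]
        · rw [one_mul]
        · exact Y.zz
      obtain ⟨k, -, hk⟩ := (Nat.dvd_prime_pow Nat.prime_two).1 (orderOf_dvd_of_pow_eq_one h4)
      exact ⟨k, hk⟩
    rcases Y.T1_two ht h2 with e | e | e | e
    · exact absurd e h1
    · exact absurd e hz
    · rwa [e] at hg
    · rw [e, ← mul_assoc, mul_assoc Y.u Y.z g, ← Y.z_comm g, ← mul_assoc] at hg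
      exact mul_right_cancel hg
  · push Not at hsq
    refine key (t * t) (Y.sq_mem t) ?_ hsq.1 hsq.2 ?_
    · rw [mul_assoc, ht, ← mul_assoc, ht, mul_assoc]
    · rw [← mul_assoc, hg, mul_assoc, hg, mul_assoc]

/-- The element swapping `u` and `u z`. -/
noncomputable def wv : H := Y.a ^ (2 * 2 ^ Y.pres.p)

theorem wv_mem : Y.wv ∈ Y.L := by
  rw [wv, pow_mul, pow_two]; exact pow_mem (Y.sq_mem _) _

theorem wu : Y.wv * Y.u * Y.wv⁻¹ = Y.u * Y.z := by
  have h : Y.pres.x ^ (2 * Y.pres.r) * (Y.pres.x ^ (0 : ℤ) * Y.pres.y) *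
      (Y.pres.x ^ (2 * Y.pres.r))⁻¹ = Y.pres.z * (Y.pres.x ^ (0 : ℤ) * Y.pres.y) := by
    rw [Y.pres.conj_x_form, QD.Pres.z, Y.pres.pq, Y.pres.form_eq_iff]
    exact ⟨-Y.pres.r, by ring⟩
  rw [zpow_zero, one_mul] at h
  have h' := congrArg Subtype.val h
  simp only [Subgroup.coe_mul, Subgroup.coe_inv, Subgroup.coe_zpow] at h'
  rw [Y.z_comm, Y.z_eq, wv, a, ← zpow_natCast]
  push_cast
  exact h'

theorem T1_norm {g t : H} (ht : t * Y.u = Y.u * t) (h1 : t ≠ 1) (hz : t ≠ Y.z)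
    (hgt : g * t * g⁻¹ * Y.u = Y.u * (g * t * g⁻¹)) :
    g * Y.u = Y.u * g ∨ Y.wv⁻¹ * g * Y.u = Y.u * (Y.wv⁻¹ * g) := by
  have h1' : g * t * g⁻¹ ≠ 1 := fun e => h1 (by rwa [conj_eq_one_iff] at e)
  have hz' : g * t * g⁻¹ ≠ Y.z := fun e => hz (by
    calc t = g⁻¹ * (g * t * g⁻¹) * g := by group
      _ = Y.z := by rw [e, Y.z_comm, mul_assoc, inv_mul_cancel, mul_one])
  have hN : g * Y.u * g⁻¹ * Y.u = Y.u * (g * Y.u * g⁻¹) :=
    Y.T1_cent hgt h1' hz' (comm_transport g ht.symm)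
  have ho : ∃ k, orderOf (g * Y.u * g⁻¹) = 2 ^ k := ⟨1, by
    rw [← MulAut.conj_apply, MulEquiv.orderOf_eq, pow_one]
    exact orderOf_eq_prime (by rw [pow_two, Y.uu]) Y.u_ne_one⟩
  rcases Y.T1_two hN ho with e | e | e | e
  · rw [conj_eq_one_iff] at e; exact absurd e Y.u_ne_one
  · exfalso
    refine Y.u_ne_z ?_
    calc Y.u = g⁻¹ * (g * Y.u * g⁻¹) * g := by group
      _ = Y.z := by rw [e, Y.z_comm, mul_assoc, inv_mul_cancel, mul_one]
  · exact Or.inl (mul_of_conj_eq e)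
  · refine Or.inr (mul_of_conj_eq ?_)
    rw [show Y.wv⁻¹ * g * Y.u * (Y.wv⁻¹ * g)⁻¹ = Y.wv⁻¹ * (g * Y.u * g⁻¹) * Y.wv by group, e,
      ← Y.wu]
    group

/-! ### The unipotent element -/

/-- The transvection. -/
def uni (p : ℕ) : Matrix.SpecialLinearGroup (Fin 2) (ZMod p) :=
  ⟨!![1, 1; 0, 1], by simp [Matrix.det_fin_two]⟩

omit [Finite H] in
theorem val_pow (s : Matrix.SpecialLinearGroup (Fin 2) (ZMod p)) (k : ℕ) :
    (s ^ k).1 = s.1 ^ k := by
  induction k with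
  | zero => rw [pow_zero, pow_zero]; rfl
  | succ n ih => rw [pow_succ, pow_succ, ← ih]; rfl

/-- The unipotent element. -/
noncomputable def xu : H := ((Y.e.symm (uni p) : Y.L) : H)

omit [Finite H] in
theorem uni_pow (k : ℕ) :
    (!![1, 1; 0, 1] : Mat) ^ k = !![1, (k : ZMod p); 0, 1] := by
  induction k with
  | zero => ext i j; fin_cases i <;> fin_cases j <;> simp
  | succ n ih =>
    rw [pow_succ, ih]
    ext i j
    fin_cases i <;> fin_cases j <;> simp [Matrix.mul_apply, Fin.sum_univ_two, add_comm]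

theorem xu_pow (k : ℕ) : Y.xu ^ k = 1 ↔ p ∣ k := by
  rw [xu, ← Subgroup.coe_pow, OneMemClass.coe_eq_one, ← MulEquiv.map_eq_one_iff Y.e, map_pow,
    MulEquiv.apply_symm_apply]
  constructor
  · intro h
    have h' := congrArg Subtype.val h
    rw [val_pow] at h'
    have h'' := congrFun (congrFun ((uni_pow (p := p) k).symm.trans h') 0) 1
    simp at h''
    exact (ZMod.natCast_eq_zero_iff k p).1 h''
  · intro h
    refine Subtype.ext ?_
    rw [val_pow]
    refine (uni_pow (p := p) k).trans ?_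
    rw [(ZMod.natCast_eq_zero_iff k p).2 h]
    ext i j; fin_cases i <;> fin_cases j <;> simp

theorem xo : orderOf Y.xu = p := orderOf_eq_prime ((Y.xu_pow p).2 dvd_rfl) fun h => by
  have := (Y.xu_pow 1).1 (by rw [pow_one, h])
  exact (Fact.out : p.Prime).ne_one (Nat.dvd_one.1 this)

theorem xu_mem : Y.xu ∈ Y.L := (Y.e.symm _).2

theorem xu_ne : Y.xu ≠ 1 ∧ Y.xu ≠ Y.z := by
  have hp3 : 3 ≤ p := by have := (Fact.out : p.Prime).two_le; have := Y.hp; omega
  constructor <;> intro e <;> have h := Y.xo <;> rw [e] at h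
  · rw [orderOf_one] at h; omega
  · rw [Y.orderOf_z] at h; omega

theorem U_card : Nat.card (Subgroup.centralizer ({Y.xu} : Set H)) = 2 * p := by
  obtain ⟨hns, hiff⟩ := Y.cent_L (l := ⟨Y.xu, Y.xu_mem⟩) Y.xu_ne.1 Y.xu_ne.2
  set U := Subgroup.centralizer ({Y.xu} : Set H) with hU
  have he : U = Y.cen (Y.e ⟨Y.xu, Y.xu_mem⟩).1 := by
    ext g; rw [hU, Subgroup.mem_centralizer_singleton_iff]; exact hiff g
  have hd : p ∣ Nat.card U :=
    Y.xo ▸ Subgroup.orderOf_dvd_natCard U (Subgroup.mem_centralizer_singleton_iff.2 rfl)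
  rw [he] at hd ⊢
  have hp := (Fact.out : p.Prime)
  rcases Y.card_cen hns with e | e | e <;> rw [e] at hd ⊢
  · exfalso
    rcases (hp.dvd_mul).1 hd with h | h
    · exact Y.hp ((Nat.prime_dvd_prime_iff_eq hp Nat.prime_two).1 h)
    · have h2 : 0 < p - 1 := by have := hp.two_le; omega
      have := Nat.le_of_dvd h2 h; omega
  · exfalso
    rcases (hp.dvd_mul).1 hd with h | h
    · exact Y.hp ((Nat.prime_dvd_prime_iff_eq hp Nat.prime_two).1 h)
    · have := (Nat.dvd_add_right (dvd_refl p)).1 h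
      exact hp.ne_one (Nat.dvd_one.1 this)

theorem U_conj {k : ℕ} (hk : ¬ p ∣ k) : ∃ g, g * Y.xu * g⁻¹ = Y.xu ^ k := by
  haveI := Y.normal
  have hk0 : (k : ZMod p) ≠ 0 := fun h => hk ((ZMod.natCast_eq_zero_iff k p).1 h)
  set B : GL (Fin 2) (ZMod p) := Matrix.GeneralLinearGroup.mkOfDetNeZero !![(k : ZMod p), 0; 0, 1]
    (by simpa [Matrix.det_fin_two] using hk0)
  obtain ⟨g, hg⟩ := Y.ρ_surj (Matrix.ProjGenLinGroup.mk B)
  refine ⟨g, ?_⟩
  have h := exists_acts_of_rho Y.hp Y.e hg ⟨Y.xu, Y.xu_mem⟩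
  have hk' : (Y.e (⟨Y.xu, Y.xu_mem⟩ ^ k)).1 = B.1 * (Y.e ⟨Y.xu, Y.xu_mem⟩).1 * B⁻¹.1 := by
    rw [map_pow, val_pow, show Y.e ⟨Y.xu, Y.xu_mem⟩ = uni p from Y.e.apply_symm_apply _,
      show (uni p).1 = !![1, 1; 0, 1] from rfl, uni_pow, eq_comm, Units.mul_inv_eq_iff_eq_mul]
    ext i j
    fin_cases i <;> fin_cases j <;> simp [B, Matrix.mul_apply, Fin.sum_univ_two]
  exact congrArg Subtype.val (Y.e.injective (Subtype.ext (h.trans hk'.symm)))

/-! ### Elements of order four -/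

theorem four {y : H} (hy : y ∈ Y.L) (ho : orderOf y = 4) :
    ∃ g, g * y * g⁻¹ * Y.a = Y.a * (g * y * g⁻¹) := by
  haveI := Y.normal
  have hyy : ∀ s : H, s ∈ Y.L → orderOf s = 4 → s * s = Y.z := by
    intro s hs hso
    refine (Y.L_invol (mul_mem hs hs) ?_).resolve_left fun e => ?_
    · rw [← pow_two, ← pow_two, ← pow_mul]
      have h' := pow_orderOf_eq_one s
      rw [hso] at h'
      exact h'
    · have := orderOf_le_of_pow_eq_one two_pos (show s ^ 2 = 1 by rw [pow_two, e])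
      omega
  set v := Y.wv
  have hvo : orderOf v = 4 := by
    rw [show v = Y.a ^ (2 * 2 ^ Y.pres.p) from rfl, orderOf_pow_of_dvd (by positivity), Y.ao, hn,
      show 2 * (4 * 2 ^ Y.pres.p) = 4 * (2 * 2 ^ Y.pres.p) by ring,
      Nat.mul_div_cancel _ (by positivity)]
    rw [Y.ao, hn]; exact ⟨4, by ring⟩
  have tr : ∀ (s : H) (hs : s ∈ Y.L), orderOf s = 4 →
      (Y.e ⟨s, hs⟩).1.trace = 0 ∧ ¬ IsScalar (Y.e ⟨s, hs⟩).1 := by
    intro s hs hso
    refine ⟨(SL2Inv.mul_self_eq_negOne_iff _).1 ?_, (Y.cent_L (l := ⟨s, hs⟩) ?_ ?_).1⟩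
    · rw [← map_mul, show (⟨s, hs⟩ : Y.L) * ⟨s, hs⟩ = Y.e.symm SL2Inv.negOne from
        Subtype.ext (hyy s hs hso), MulEquiv.apply_symm_apply]
    · intro e
      change s = 1 at e
      rw [e, orderOf_one] at hso; omega
    · intro e
      change s = Y.z at e
      rw [e, Y.orderOf_z] at hso; omega
  obtain ⟨t1, n1⟩ := tr y hy ho
  obtain ⟨t2, n2⟩ := tr v Y.wv_mem hvo
  obtain ⟨a1, ha1⟩ := exists_form_ne_zero n1
  obtain ⟨a2, ha2⟩ := exists_form_ne_zero n2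
  obtain ⟨X, hX, hXd⟩ := similar (w := a2) ha1 (t1.trans t2.symm)
    ((Y.e ⟨y, hy⟩).2.trans (Y.e ⟨v, Y.wv_mem⟩).2.symm)
  have hXne : X.det ≠ 0 := by rw [hXd]; exact div_ne_zero ha2 ha1
  set B := Matrix.GeneralLinearGroup.mkOfDetNeZero X hXne
  obtain ⟨g, hg⟩ := Y.ρ_surj (Matrix.ProjGenLinGroup.mk B)
  refine ⟨g, ?_⟩
  have h := exists_acts_of_rho Y.hp Y.e hg ⟨y, hy⟩
  have hB : B.1 * (Y.e ⟨y, hy⟩).1 * B⁻¹.1 = (Y.e ⟨v, Y.wv_mem⟩).1 := by
    rw [Units.mul_inv_eq_iff_eq_mul]; exact hX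
  rw [hB] at h
  have e : g * y * g⁻¹ = v := congrArg Subtype.val (Y.e.injective (Subtype.ext h))
  rw [e]
  exact ((Commute.refl Y.a).pow_left _).eq

/-- The model. -/
noncomputable def toModel : Model H p where
  L := Y.L
  z := Y.z
  a := Y.a
  u := Y.u
  w := Y.wv
  x := Y.xu
  h := Y.hn
  q := Y.qz
  hp := Fact.out
  hp2 := Y.hp
  hh := ⟨Y.pres.p + 2, by omega, by rw [hn, pow_add]; ring⟩
  hq := Y.qz_natAbs
  hq4 := Y.qz_mod
  hT := Y.two_parts.1
  hT1 := Y.two_parts.2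
  card_eq := by rw [Y.card_H, Y.prod_abs]; ring
  L_normal := Y.normal
  L_index := Y.L_index
  z_comm := Y.z_comm
  zz := Y.zz
  z_ne := Y.z_ne
  z_mem := Y.z_mem
  L_invol := fun _ hl h => Y.L_invol hl h
  a_not := Y.a_not
  u_not := Y.u_not
  x_mem := Y.xu_mem
  w_mem := Y.wv_mem
  ao := Y.ao
  az := Y.az
  uu := Y.uu
  xo := Y.xo
  ua := Y.ua
  wu := Y.wu
  T_comm := fun _ _ hs ht => Y.T_comm hs ht
  T_card := Y.T_card
  T_cent := fun _ ht h1 hz _ hg => Y.T_cent ht h1 hz hg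
  T_norm := fun _ _ ht h1 hz hgt => Y.T_norm ht h1 hz hgt
  T_inv := fun _ htL ht => Y.T_inv htL ht
  T1_comm := fun _ _ hs ht => Y.T1_comm hs ht
  T1_card := Y.T1_card
  T1_cent := fun _ ht h1 hz _ hg => Y.T1_cent ht h1 hz hg
  T1_norm := fun _ _ ht h1 hz hgt => Y.T1_norm ht h1 hz hgt
  T1_two := fun _ ht h2 => Y.T1_two ht h2
  U_card := Y.U_card
  U_conj := fun _ hk => Y.U_conj hk
  J_conj := fun _ h2 h1 hz => Y.J_conj h2 h1 hz
  four := fun _ hy ho => Y.four hy ho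

end Hyp

end Cfsg.Agent.SDPack
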