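import Cfsg.Agent.Lib.GW.OneClass
import Cfsg.Agent.Lib.GW.Main
import Cfsg.Agent.Lib.TwoGroups.InvolCentralizer
import Cfsg.Agent.Lib.CenNilp.RankTwo
import Cfsg.Agent.Lib.SDPack.ModelBuild

/-!
From a simple group with semidihedral Sylow 2-subgroups and cyclic odd Sylow subgroups to the model
of the centraliser of an involution modulo its odd core.
-/

set_option autoImplicit false
set_option linter.style.haveILetI false
set_option linter.unusedSectionVars false

namespace Cfsg.Agent.SDPack

open Cfsg

universe u v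

/-- All odd primary subgroups are cyclic. -/
def OddCyclic (G : Type u) [Group G] : Prop :=
  ∀ r : ℕ, r.Prime → r ≠ 2 → ∀ P : Sylow r G, IsCyclic P

theorem OddCyclic.pgroup {G : Type u} [Group G] (h : OddCyclic G) {r : ℕ} (hr : r.Prime)
    (hr2 : r ≠ 2) (W : Subgroup G) (hW : IsPGroup r W) : IsCyclic W := by
  obtain ⟨P, hP⟩ := hW.exists_le_sylow
  haveI := h r hr hr2 P
  exact isCyclic_of_injective (Subgroup.inclusion hP) (Subgroup.inclusion_injective hP)

theorem OddCyclic.quotient {G : Type u} [Group G] [Finite G] (h : OddCyclic G) {C : Subgroup G}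
    {Q : Type v} [Group Q] (π : C →* Q) (hπ : Function.Surjective π) : OddCyclic Q := by
  intro r hr hr2 P
  haveI : Fact r.Prime := ⟨hr⟩
  haveI : Finite Q := Finite.of_surjective π hπ
  obtain ⟨P0⟩ : Nonempty (Sylow r C) := inferInstance
  haveI : IsCyclic ((P0 : Subgroup C).map C.subtype) :=
    h.pgroup hr hr2 _ (P0.2.map C.subtype)
  haveI : IsCyclic (P0 : Subgroup C) := isCyclic_of_surjective
    ((P0 : Subgroup C).equivMapOfInjective C.subtype C.subtype_injective).symm.toMonoidHom
    (MulEquiv.surjective _)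
  haveI : IsCyclic (P0.mapSurjective hπ : Subgroup Q) :=
    isCyclic_of_surjective (π.subgroupMap (P0 : Subgroup C)) (π.subgroupMap_surjective _)
  exact isCyclic_of_surjective ((P0.mapSurjective hπ).equiv P).toMonoidHom (MulEquiv.surjective _)

/-- The upper unitriangular matrices. -/
def unipHom (F : Type) [Field F] : Multiplicative F →* Matrix.SpecialLinearGroup (Fin 2) F where
  toFun a := ⟨!![1, a.toAdd; 0, 1], by simp [Matrix.det_fin_two]⟩
  map_one' := by
    apply Subtype.ext
    ext i j
    fin_cases i <;> fin_cases j <;> simp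
  map_mul' a b := by
    apply Subtype.ext
    show (!![1, (a * b).toAdd; 0, 1] : Matrix (Fin 2) (Fin 2) F) = !![1, a.toAdd; 0, 1] * !![1, b.toAdd; 0, 1]
    ext i j
    fin_cases i <;> fin_cases j <;> simp [Matrix.mul_apply, Fin.sum_univ_two, add_comm]

theorem unipHom_injective (F : Type) [Field F] : Function.Injective (unipHom F) := fun a b h => by
  have h01 : (!![1, a.toAdd; 0, 1] : Matrix (Fin 2) (Fin 2) F) 0 1 = !![1, b.toAdd; 0, 1] 0 1 :=
    congrFun (congrFun (congrArg Subtype.val h) 0) 1
  exact Multiplicative.toAdd.injective (by simpa using h01)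

theorem card_field_prime {F : Type} [Field F] [Fintype F] (hodd : Odd (Fintype.card F))
    {Q : Type v} [Group Q] (hQ : OddCyclic Q) (ι : Matrix.SpecialLinearGroup (Fin 2) F →* Q)
    (hι : Function.Injective ι) : ∃ p : ℕ, p.Prime ∧ p ≠ 2 ∧ Fintype.card F = p ∧ CharP F p := by
  obtain ⟨p, hchar⟩ := CharP.exists F
  haveI := hchar
  obtain ⟨n, hp, hn⟩ := FiniteField.card F p
  haveI : Fact p.Prime := ⟨hp⟩
  have hp2 : p ≠ 2 := by
    rintro rfl
    rw [hn] at hodd
    exact absurd hodd (Nat.not_odd_iff_even.2 ((Nat.even_pow).2 ⟨even_two, n.ne_zero⟩))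
  have hinj : Function.Injective (ι.comp (unipHom F)) := hι.comp (unipHom_injective F)
  have hpg : IsPGroup p (ι.comp (unipHom F)).range := by
    refine IsPGroup.of_card (n := n) ?_
    rw [← Nat.card_congr (MonoidHom.ofInjective hinj).toEquiv,
      Nat.card_congr Multiplicative.toAdd, Nat.card_eq_fintype_card, hn]
  haveI := hQ.pgroup hp hp2 _ hpg
  haveI : IsCyclic (Multiplicative F) :=
    isCyclic_of_surjective (MonoidHom.ofInjective hinj).symm.toMonoidHom (MulEquiv.surjective _)
  obtain ⟨g, hg⟩ := IsCyclic.exists_ofOrder_eq_natCard (α := Multiplicative F)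
  have hd : orderOf g ∣ p := by
    refine orderOf_dvd_of_pow_eq_one ?_
    apply Multiplicative.toAdd.injective
    rw [toAdd_pow, toAdd_one, nsmul_eq_mul, CharP.cast_eq_zero, zero_mul]
  rw [hg, Nat.card_congr Multiplicative.toAdd, Nat.card_eq_fintype_card] at hd
  rcases (Nat.dvd_prime hp).1 hd with h | h
  · have := Fintype.one_lt_card (α := F); omega
  · exact ⟨p, hp, hp2, h, hchar⟩

/-- The special linear groups of two isomorphic fields. -/
noncomputable def slEquiv {F K : Type} [Field F] [Field K] (e : F ≃+* K) :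
    Matrix.SpecialLinearGroup (Fin 2) F ≃* Matrix.SpecialLinearGroup (Fin 2) K :=
  MonoidHom.toMulEquiv (Matrix.SpecialLinearGroup.map e.toRingHom)
    (Matrix.SpecialLinearGroup.map e.symm.toRingHom)
    (MonoidHom.ext fun g => Subtype.ext (by ext i j; simp [Matrix.map_apply]))
    (MonoidHom.ext fun g => Subtype.ext (by ext i j; simp [Matrix.map_apply]))

variable {G : Type u} [Group G] [Finite G]

/-- The centraliser modulo its odd core. -/
abbrev CQ (z : G) : Type u :=
  ↥(Subgroup.centralizer ({z} : Set G)) ⧸ Cfsg.oddCore ↥(Subgroup.centralizer ({z} : Set G))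

theorem not_comm (S : Sylow 2 G) [IsSimpleGroup G] (hS : Cfsg.IsQuasiDihedral (S : Subgroup G)) :
    ¬ IsMulCommutative G := by
  intro hc
  haveI : Fact (Nat.Prime 2) := ⟨Nat.prime_two⟩
  obtain ⟨d, -⟩ := QD.exists_pres hS
  letI : CommGroup G := { (inferInstance : Group G) with mul_comm := fun a b => hc.is_comm.comm a b }
  have hp : (Nat.card G).Prime := IsSimpleGroup.prime_card
  have h := Subgroup.card_subgroup_dvd_card (S : Subgroup G)
  rw [d.hcard] at h
  rcases (Nat.dvd_prime hp).1 h with h1 | h1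
  · have := Nat.one_lt_pow (n := d.p + 4) (by omega) one_lt_two; omega
  · rw [← h1] at hp
    exact Nat.Prime.not_prime_pow (by omega) hp

theorem one_class (S : Sylow 2 G) [IsSimpleGroup G] (hS : Cfsg.IsQuasiDihedral (S : Subgroup G))
    {s t : G} (hs : orderOf s = 2) (ht : orderOf t = 2) : IsConj s t := by
  obtain ⟨d, -⟩ := QD.exists_pres hS
  obtain ⟨h1, -⟩ := InvCent.qd_full S d (CenNilp.index_ne_two (not_comm S hS))
  exact (InvCent.qd_one_class S d h1 hs).symm.trans (InvCent.qd_one_class S d h1 ht)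

end Cfsg.Agent.SDPack
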