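import Cfsg.Agent.Lib.SDPack.CyclicSylow
import Cfsg.Agent.Lib.SDPack.Setup

/-!
Localisation of an odd prime at the centraliser of an involution: general lemmas.
-/

set_option autoImplicit false
set_option linter.style.haveILetI false
set_option linter.unusedSectionVars false

namespace Cfsg.Agent.SDPack

open Finset

universe u

/-- An element of the prime order `r` in a cyclic group lies in the subgroup of order `r`. -/
theorem mem_zpowers_prime {X : Type u} [Group X] [Finite X] (Q : Subgroup X) [IsCyclic Q] {r : ℕ}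
    (hr : r.Prime) {y v : X} (hy : y ∈ Q) (hv : v ∈ Q) (hyo : orderOf y = r) (hvo : orderOf v = r) :
    v ∈ Subgroup.zpowers y := by
  classical
  haveI : Fintype Q := Fintype.ofFinite Q
  set y' : Q := ⟨y, hy⟩
  set v' : Q := ⟨v, hv⟩
  have hyo' : orderOf y' = r := by rw [← Subgroup.orderOf_coe]; exact hyo
  have hvo' : orderOf v' = r := by rw [← Subgroup.orderOf_coe]; exact hvo
  have hsub : (range r).image (fun i => y' ^ i) ⊆ univ.filter fun a : Q => a ^ r = 1 := by
    intro a ha
    obtain ⟨i, -, rfl⟩ := mem_image.1 ha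
    refine mem_filter.2 ⟨mem_univ _, ?_⟩
    rw [← pow_mul, mul_comm, pow_mul, ← hyo', pow_orderOf_eq_one, one_pow]
  have hcard : ((range r).image (fun i => y' ^ i)).card = r := by
    rw [card_image_of_injOn, card_range]
    intro i hi j hj h
    exact pow_injOn_Iio_orderOf (by rw [hyo']; exact mem_range.1 hi)
      (by rw [hyo']; exact mem_range.1 hj) h
  have heq := eq_of_subset_of_card_le hsub (by rw [hcard]; exact IsCyclic.card_pow_eq_one_le hr.pos)
  have hv' : v' ∈ univ.filter fun a : Q => a ^ r = 1 :=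
    mem_filter.2 ⟨mem_univ _, by rw [← hvo', pow_orderOf_eq_one]⟩
  rw [← heq] at hv'
  obtain ⟨i, -, hi⟩ := mem_image.1 hv'
  exact ⟨i, by simpa [y', v'] using congrArg Subtype.val hi⟩

/-- An element of order `r` in a normal subgroup of odd order whose normaliser has a full
`2`-part. -/
theorem exists_frattini_elem {X : Type u} [Group X] [Finite X] (hX : OddCyclic X) (P : Subgroup X)
    [P.Normal] (hP : Odd (Nat.card P)) {r : ℕ} (hr : r.Prime) (hr2 : r ≠ 2) (hd : r ∣ Nat.card P) :
    ∃ y ∈ P, orderOf y = r ∧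
      ∀ k, 2 ^ k ∣ Nat.card X → 2 ^ k ∣ Nat.card (Subgroup.normalizer ((Subgroup.zpowers y : Subgroup X) : Set X)) := by
  haveI : Fact r.Prime := ⟨hr⟩
  obtain ⟨Q⟩ : Nonempty (Sylow r P) := inferInstance
  set Q' : Subgroup X := (Q : Subgroup P).map P.subtype with hQ'
  haveI : IsCyclic Q' := hX.pgroup hr hr2 Q' (Q.2.map _)
  have hdQ : r ∣ Nat.card (Q : Subgroup P) := Q.dvd_card_of_dvd_card hd
  obtain ⟨yQ, hyQ⟩ := exists_prime_orderOf_dvd_card' r hdQ
  set y : X := ((yQ : P) : X) with hy
  have hyo : orderOf y = r := by rw [hy, Subgroup.orderOf_coe, Subgroup.orderOf_coe]; exact hyQ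
  have hyQ' : y ∈ Q' := ⟨(yQ : P), yQ.2, rfl⟩
  refine ⟨y, (yQ : P).2, hyo, fun k hk => ?_⟩
  have hsup := Sylow.normalizer_sup_eq_top Q
  set N := Subgroup.normalizer (Q' : Set X)
  have hidx : P.index ∣ Nat.card N := by
    have h1 : P.relIndex (N ⊔ P) = P.relIndex N := Subgroup.relIndex_sup_right N P
    rw [hsup, Subgroup.relIndex_top_right] at h1
    rw [h1]
    exact Subgroup.relIndex_dvd_card _ _
  have h2 : 2 ^ k ∣ P.index := by
    rw [← Subgroup.card_mul_index P] at hk
    exact ((Nat.coprime_two_left.2 hP).pow_left k).dvd_of_dvd_mul_left hk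
  refine (h2.trans hidx).trans (Subgroup.card_dvd_of_le fun g hg => ?_)
  have key : ∀ g ∈ N, g * y * g⁻¹ ∈ Subgroup.zpowers y := fun g hg =>
    mem_zpowers_prime Q' hr hyQ' ((Subgroup.mem_normalizer_iff.1 hg y).1 hyQ') hyo (by
      rw [← hyo]; exact orderOf_injective (MulAut.conj g).toMonoidHom (MulAut.conj g).injective y)
  rw [Subgroup.mem_normalizer_iff]
  intro v
  constructor
  · rintro ⟨i, rfl⟩
    show g * y ^ i * g⁻¹ ∈ _
    rw [← conj_zpow]
    exact Subgroup.zpow_mem _ (key g hg) i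
  · intro hv
    obtain ⟨i, hi⟩ := hv
    have h1 := key g⁻¹ (inv_mem hg)
    rw [inv_inv] at h1
    have : v = (g⁻¹ * y * g) ^ i := by
      have h2 : (g⁻¹ * y * g) ^ i = g⁻¹ * y ^ i * g := by
        have := conj_zpow (i := i) (a := g⁻¹) (b := y)
        rwa [inv_inv] at this
      rw [h2, show y ^ i = g * v * g⁻¹ from hi]
      group
    rw [this]
    exact Subgroup.zpow_mem _ h1 i

/-- If the centraliser of an element of order `r` has a Sylow 2-subgroup with `z` as its only central
involution, the `r`-part of the group is in the centraliser of `z`. -/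
theorem factorization_eq_of_local {G : Type u} [Group G] [Finite G] (hG : OddCyclic G) {r : ℕ}
    (hr : r.Prime) (hr2 : r ≠ 2) {z y : G} (hy : orderOf y = r)
    {X : Subgroup G} (hXdef : X = Subgroup.centralizer ({y} : Set G)) (W : Sylow 2 X)
    (hz : ∀ j ∈ (W : Subgroup X), j * j = 1 → j ≠ 1 →
      (∀ w ∈ (W : Subgroup X), w * j = j * w) → (j : G) = z)
    (hzW : ∃ j ∈ (W : Subgroup X), (j : G) = z ∧ j * j = 1 ∧
      j ≠ 1 ∧ ∀ w ∈ (W : Subgroup X), w * j = j * w) :
    (Nat.card G).factorization r = (Nat.card (Subgroup.centralizer ({z} : Set G))).factorization r := by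
  haveI : Fact r.Prime := ⟨hr⟩
  haveI : Fact (Nat.Prime 2) := ⟨Nat.prime_two⟩
  have hypg : IsPGroup r (Subgroup.zpowers y) := IsPGroup.of_card (n := 1) (by rw [Nat.card_zpowers, hy, pow_one])
  obtain ⟨R, hR⟩ := hypg.exists_le_sylow
  have hyR : y ∈ (R : Subgroup G) := hR (Subgroup.mem_zpowers y)
  haveI : IsCyclic (R : Subgroup G) := hG r hr hr2 R
  have hRX : (R : Subgroup G) ≤ X := fun v hv => by
    obtain ⟨t, hgen⟩ := IsCyclic.exists_generator (α := (R : Subgroup G))
    obtain ⟨i, hi⟩ := hgen ⟨v, hv⟩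
    obtain ⟨j, hj⟩ := hgen ⟨y, hyR⟩
    have hi' : (t : G) ^ i = v := congrArg Subtype.val hi
    have hj' : (t : G) ^ j = y := congrArg Subtype.val hj
    rw [hXdef, Subgroup.mem_centralizer_singleton_iff, ← hi', ← hj']
    exact (Commute.zpow_zpow_self (t : G) i j).eq
  set RX : Sylow r X := R.subtype hRX
  haveI : IsCyclic (RX : Subgroup X) := by
    rw [Sylow.coe_subtype]
    exact isCyclic_of_surjective (Subgroup.subgroupOfEquivOfLe hRX).symm.toMonoidHom (MulEquiv.surjective _)
  have hyX : y ∈ X := hXdef ▸ Subgroup.mem_centralizer_singleton_iff.2 rfl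
  obtain ⟨P, K, hKn, hK⟩ := exists_complement RX (y := ⟨y, hyX⟩)
    (by rw [Sylow.coe_subtype]; exact hyR)
    (fun e => by
      have e' : y = 1 := congrArg Subtype.val e
      rw [e', orderOf_one] at hy
      exact hr.one_lt.ne hy)
    (fun g => Subtype.ext (Subgroup.mem_centralizer_singleton_iff.1 (show (g : G) ∈ Subgroup.centralizer ({y} : Set G) from hXdef ▸ g.2)))
  haveI := hKn
  have hPi : Nat.card (P : Subgroup X) = K.index := by
    have h1 := hK.card_mul
    rw [← Subgroup.card_mul_index K] at h1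
    exact Nat.eq_of_mul_eq_mul_left Nat.card_pos h1
  obtain ⟨e, he⟩ := IsPGroup.iff_card.1 P.2
  have hWK : (W : Subgroup X) ≤ K := fun w hw => by
    obtain ⟨b, hb⟩ := IsPGroup.iff_orderOf.1 W.2 ⟨w, hw⟩
    rw [← Subgroup.orderOf_coe] at hb
    have h1 : orderOf (QuotientGroup.mk' K w) ∣ 2 ^ b := hb ▸ orderOf_map_dvd _ w
    have h2 : orderOf (QuotientGroup.mk' K w) ∣ r ^ e := by
      rw [← he, hPi, Subgroup.index_eq_card]
      exact orderOf_dvd_natCard _
    have h3 := Nat.eq_one_of_dvd_coprimes ((Nat.coprime_primes Nat.prime_two hr).2 hr2.symm |>.pow b e) h1 h2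
    exact (QuotientGroup.eq_one_iff w).1 (orderOf_eq_one_iff.1 h3)
  set WK : Sylow 2 K := W.subtype hWK
  have hsup := Sylow.normalizer_sup_eq_top WK
  have hWKmap : (WK : Subgroup K).map K.subtype = (W : Subgroup X) := by
    rw [Sylow.coe_subtype]; exact Subgroup.map_subgroupOf_eq_of_le hWK
  rw [hWKmap] at hsup
  set N := Subgroup.normalizer ((W : Subgroup X) : Set X)
  have hidx : Nat.card (P : Subgroup X) ∣ Nat.card N := by
    have h1 : K.relIndex (N ⊔ K) = K.relIndex N := Subgroup.relIndex_sup_right N K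
    rw [hsup, Subgroup.relIndex_top_right] at h1
    rw [hPi, h1]
    exact Subgroup.relIndex_dvd_card _ _
  obtain ⟨j, hjW, hjz, hj2, hj1, hjc⟩ := hzW
  have hNC : N.map X.subtype ≤ Subgroup.centralizer ({z} : Set G) := by
    rintro _ ⟨g, hg, rfl⟩
    have hg' := Subgroup.mem_normalizer_iff.1 hg
    have hgz := hz (g * j * g⁻¹) ((hg' j).1 hjW)
      (by rw [show g * j * g⁻¹ * (g * j * g⁻¹) = g * (j * j) * g⁻¹ by group, hj2]; group)
      (fun e => hj1 (by
        calc j = g⁻¹ * (g * j * g⁻¹) * g := by group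
          _ = 1 := by rw [e]; group))
      (fun w hw => by
        have hw' : g⁻¹ * w * g ∈ (W : Subgroup X) := by
          refine (hg' _).2 ?_
          rwa [show g * (g⁻¹ * w * g) * g⁻¹ = w by group]
        calc w * (g * j * g⁻¹) = g * ((g⁻¹ * w * g) * j) * g⁻¹ := by group
          _ = g * (j * (g⁻¹ * w * g)) * g⁻¹ := by rw [hjc _ hw']
          _ = _ := by group)
    rw [Subgroup.mem_centralizer_singleton_iff]
    have h : (g : G) * z * (g : G)⁻¹ = z := by rw [← hjz]; exact hgz.trans hjz.symm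
    calc (g : G) * z = (g : G) * z * (g : G)⁻¹ * g := by group
      _ = z * g := by rw [h]
  have hdvd : Nat.card (P : Subgroup X) ∣ Nat.card (Subgroup.centralizer ({z} : Set G)) :=
    hidx.trans ((Subgroup.card_map_of_injective X.subtype_injective).symm ▸ Subgroup.card_dvd_of_le hNC)
  have hPR : Nat.card (P : Subgroup X) = Nat.card (R : Subgroup G) := by
    rw [Nat.card_congr (P.equiv RX).toEquiv, show Nat.card RX = Nat.card (RX : Subgroup X) from rfl,
      Sylow.coe_subtype]
    exact Nat.card_congr (Subgroup.subgroupOfEquivOfLe hRX).toEquiv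
  refine le_antisymm ?_ ((Nat.factorization_le_iff_dvd Nat.card_pos.ne' Nat.card_pos.ne').2
    (Subgroup.card_subgroup_dvd_card _) r)
  rw [← hr.pow_dvd_iff_le_factorization Nat.card_pos.ne', ← R.card_eq_multiplicity, ← hPR]
  exact hdvd

end Cfsg.Agent.SDPack
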