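import Cfsg.Agent.Lib.SDPack.LocalGen
import Cfsg.Agent.Lib.SDPack.Ctx

/-!
The odd primes that live in the centraliser of the involution.
-/

set_option autoImplicit false
set_option linter.style.haveILetI false
set_option linter.unusedSectionVars false
set_option linter.unusedFintypeInType false

namespace Cfsg.Agent.SDPack

open Cfsg Finset
open scoped Classical

universe u

/-- A Sylow 2-subgroup meets a normal subgroup in a Sylow 2-subgroup. -/
theorem card_inf_normal {M : Type u} [Group M] [Finite M] (A : Subgroup M) [A.Normal] (S : Subgroup M)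
    (hS : IsPGroup 2 S) (h : ∀ k, 2 ^ k ∣ Nat.card M → 2 ^ k ∣ Nat.card S) :
    Nat.card (S ⊓ A : Subgroup M) = 2 ^ (Nat.card A).factorization 2 := by
  haveI : Fact (Nat.Prime 2) := ⟨Nat.prime_two⟩
  obtain ⟨s, hs⟩ := IsPGroup.iff_card.1 hS
  obtain ⟨w, hw⟩ := IsPGroup.iff_card.1 (hS.to_le (inf_le_left : S ⊓ A ≤ S))
  rw [hw]
  congr 1
  have h2 : Nat.card A * Nat.card S = Nat.card ↥(S ⊔ A) * 2 ^ w := by
    have e1 := Subgroup.relIndex_sup_right S A
    have e2 := Subgroup.card_mul_index ((A.subgroupOf (S ⊔ A)))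
    have e3 := Subgroup.card_mul_index (A.subgroupOf S)
    rw [Nat.card_congr (Subgroup.subgroupOfEquivOfLe (le_sup_right : A ≤ S ⊔ A)).toEquiv] at e2
    have e4 : Nat.card (A.subgroupOf S) = 2 ^ w := by
      rw [← hw, ← Subgroup.inf_subgroupOf_left,
        Nat.card_congr (Subgroup.subgroupOfEquivOfLe (inf_le_left : S ⊓ A ≤ S)).toEquiv]
    rw [e4] at e3
    rw [← e2, ← e3]
    show _ = Nat.card A * A.relIndex (S ⊔ A) * _
    rw [e1]
    show Nat.card A * (2 ^ w * A.relIndex S) = _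
    ring
  refine le_antisymm ?_ ?_
  · rw [← Nat.prime_two.pow_dvd_iff_le_factorization Nat.card_pos.ne', ← hw]
    exact Subgroup.card_dvd_of_le inf_le_right
  · have h3 := h _ ((Nat.ordProj_dvd (Nat.card ↥(S ⊔ A)) 2).trans (Subgroup.card_subgroup_dvd_card _))
    rw [hs, Nat.pow_dvd_pow_iff_le_right (by norm_num)] at h3
    have h5 := congrArg (fun n => n.factorization 2) h2
    simp only [hs, Nat.factorization_mul Nat.card_pos.ne' (pow_ne_zero s two_ne_zero),
      Nat.factorization_mul (Nat.card_pos (α := ↥(S ⊔ A))).ne' (pow_ne_zero w two_ne_zero),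
      Nat.factorization_pow, Finsupp.add_apply, Finsupp.smul_apply, smul_eq_mul,
      Nat.Prime.factorization_self Nat.prime_two, mul_one] at h5
    omega

/-- The only central involution of a large subgroup of a semidihedral group. -/
theorem central_unique {S : Type u} [Group S] [Finite S] (d : QD.Pres S) {j : S} (h2 : j * j = 1)
    (h1 : j ≠ 1) (hc : d.y * d.x * d.y⁻¹ * d.x⁻¹ * j = j * (d.y * d.x * d.y⁻¹ * d.x⁻¹)) : j = d.z := by
  rcases d.sq_eq_one_cases h2 with e | e | ⟨i, -, rfl⟩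
  · exact absurd e h1
  · exact e
  · exfalso
    have e : d.y * d.x * d.y⁻¹ * d.x⁻¹ = d.x ^ (4 * d.r - 2) := by
      rw [d.conj_x, show (4 * d.r - 2 : ℤ) = (4 * d.r - 1) + (-1) by ring, zpow_add, zpow_neg_one]
    rw [e] at hc
    have hd := (d.commute_form_pow i (4 * d.r - 2)).1 hc.symm
    have hr := d.r_pos
    have h4 : (4 : ℤ) ∣ 4 * d.r - 2 := (dvd_mul_right _ _).trans hd
    omega

namespace Ctx

variable {G : Type u} [Group G] [Fintype G] (K : Ctx G)

theorem h_pow : ∃ n, 4 * K.D.h = 2 ^ n := by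
  obtain ⟨k, -, e⟩ := K.D.hh
  exact ⟨k + 2, by rw [e, pow_add]; ring⟩

theorem two_part {k : ℕ} (h : 2 ^ k ∣ Nat.card G) : 2 ^ k ∣ 4 * K.D.h := by
  haveI : Fact (Nat.Prime 2) := ⟨Nat.prime_two⟩
  rw [← K.hcardS, K.S.card_eq_multiplicity, Nat.pow_dvd_pow_iff_le_right (by norm_num)]
  exact (Nat.prime_two.pow_dvd_iff_le_factorization Nat.card_pos.ne').1 h

theorem two_part_C : 4 * K.D.h ∣ Nat.card K.C := by
  rw [← K.hcardS, ← K.hR]
  exact Subgroup.card_subgroup_dvd_card (K.R : Subgroup K.C)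

theorem z_sq : K.z * K.z = 1 := by
  have h := pow_orderOf_eq_one K.z
  rwa [K.hz2, pow_two] at h

theorem z_ne : K.z ≠ 1 := fun e => by
  have h := K.hz2
  rw [e, orderOf_one] at h
  omega

/-- Localisation from a normaliser with full 2-part. -/
theorem local_of_normal {r : ℕ} (hr : r.Prime) (hr2 : r ≠ 2) {y : G} (hyC : y ∈ K.C)
    (hy : orderOf y = r) {N : Subgroup G} (hNC : N ≤ K.C)
    (hNy : N ≤ Subgroup.normalizer ((Subgroup.zpowers y : Subgroup G) : Set G))
    (hN : 4 * K.D.h ∣ Nat.card N) :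
    (Nat.card G).factorization r = (Nat.card K.C).factorization r := by
  haveI : Fact (Nat.Prime 2) := ⟨Nat.prime_two⟩
  obtain ⟨n, hn⟩ := K.h_pow
  obtain ⟨S1, hS1⟩ := Sylow.exists_subgroup_card_pow_prime 2 (hn ▸ hN : 2 ^ n ∣ Nat.card N)
  set S0 : Subgroup G := S1.map N.subtype with hS0
  have hS0c : Nat.card S0 = 2 ^ n := by rw [Subgroup.card_map_of_injective N.subtype_injective, hS1]
  have hS0N : S0 ≤ N := Subgroup.map_subtype_le _
  have hn' : n = (Nat.card G).factorization 2 := by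
    refine Nat.pow_right_injective (le_refl 2) ?_
    show 2 ^ n = 2 ^ _
    rw [← hn, ← K.hcardS, K.S.card_eq_multiplicity]
  let ST : Sylow 2 G := Sylow.ofCard S0 (by rw [hS0c, hn'])
  have hQD : Cfsg.IsQuasiDihedral S0 := S1213.qd_transport (K.S.equiv ST) K.hS
  obtain ⟨d, -⟩ := QD.exists_pres hQD
  have hzS : K.z ∈ S0 := by
    have hz : IsPGroup 2 (Subgroup.zpowers K.z) :=
      IsPGroup.of_card (n := 1) (by rw [Nat.card_zpowers, K.hz2, pow_one])
    have hle : Subgroup.zpowers K.z ≤ Subgroup.normalizer ((ST : Subgroup G) : Set G) := by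
      rw [Subgroup.zpowers_le, Subgroup.mem_normalizer_iff]
      intro v
      have hconj : ∀ v ∈ K.C, K.z * v * K.z⁻¹ = v := fun v hv => by
        rw [← Subgroup.mem_centralizer_singleton_iff.1 hv, mul_inv_cancel_right]
      refine ⟨fun hv => by rwa [hconj v (hNC (hS0N hv))], fun hv => ?_⟩
      have h' := hconj _ (hNC (hS0N hv))
      have e : K.z * v * K.z⁻¹ = v := mul_left_cancel (mul_right_cancel h')
      rwa [e] at hv
    have h := ST.3 (IsPGroup.to_sup_of_normal_right' hz ST.2 hle) le_sup_right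
    have hz' : K.z ∈ Subgroup.zpowers K.z ⊔ (ST : Subgroup G) :=
      Subgroup.mem_sup_left (Subgroup.mem_zpowers _)
    rw [h] at hz'
    exact hz'
  set X := Subgroup.centralizer ({y} : Set G) with hX
  set Ny := Subgroup.normalizer ((Subgroup.zpowers y : Subgroup G) : Set G) with hNy'
  have hXN : X ≤ Ny := fun g hg => by
    have hgy : g * y = y * g := Subgroup.mem_centralizer_singleton_iff.1 hg
    rw [hNy', Subgroup.mem_normalizer_iff]
    intro v
    have hc : ∀ v ∈ Subgroup.zpowers y, g * v * g⁻¹ = v := fun v hv => by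
      obtain ⟨i, rfl⟩ := hv
      show g * y ^ i * g⁻¹ = y ^ i
      rw [((show Commute g y from hgy).zpow_right i).eq, mul_inv_cancel_right]
    refine ⟨fun hv => by rwa [hc v hv], fun hv => ?_⟩
    have h' := hc _ hv
    have e : g * v * g⁻¹ = v := mul_left_cancel (mul_right_cancel h')
    rwa [e] at hv
  haveI hnormal : (X.subgroupOf Ny).Normal := by
    refine ⟨fun v hv g => ?_⟩
    rw [Subgroup.mem_subgroupOf] at hv ⊢
    rw [hX, Subgroup.mem_centralizer_singleton_iff] at hv ⊢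
    obtain ⟨k, hk⟩ : (g : G)⁻¹ * y * g ∈ Subgroup.zpowers y := by
      have := (Subgroup.mem_normalizer_iff.1 (inv_mem g.2) y).1 (Subgroup.mem_zpowers y)
      rwa [inv_inv] at this
    have hk' : y ^ k = (g : G)⁻¹ * y * g := hk
    have hvk : (v : G) * ((g : G)⁻¹ * y * g) = ((g : G)⁻¹ * y * g) * v := by
      rw [← hk']; exact ((show Commute (v : G) y from hv).zpow_right k).eq
    show (g : G) * v * (g : G)⁻¹ * y = y * ((g : G) * v * (g : G)⁻¹)
    calc (g : G) * v * (g : G)⁻¹ * y = g * ((v : G) * ((g : G)⁻¹ * y * g)) * (g : G)⁻¹ := by group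
      _ = g * (((g : G)⁻¹ * y * g) * v) * (g : G)⁻¹ := by rw [hvk]
      _ = _ := by group
  have hS0Ny : S0 ≤ Ny := hS0N.trans hNy
  set W0 : Subgroup G := S0 ⊓ X with hW0
  have hWcard : Nat.card W0 = 2 ^ (Nat.card X).factorization 2 := by
    have h := card_inf_normal (X.subgroupOf Ny) (S0.subgroupOf Ny)
      (IsPGroup.of_card (n := n) (by rw [Nat.card_congr (Subgroup.subgroupOfEquivOfLe hS0Ny).toEquiv, hS0c]))
      (fun k hk => by
        rw [Nat.card_congr (Subgroup.subgroupOfEquivOfLe hS0Ny).toEquiv, hS0c, ← hn]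
        exact K.two_part (hk.trans (Subgroup.card_subgroup_dvd_card Ny)))
    rw [Nat.card_congr (Subgroup.subgroupOfEquivOfLe hXN).toEquiv] at h
    rw [← h, ← Nat.card_congr (Subgroup.subgroupOfEquivOfLe (inf_le_left.trans hS0Ny : W0 ≤ Ny)).toEquiv]
    rfl
  let W : Sylow 2 X := Sylow.ofCard (W0.subgroupOf X)
    (by rw [Nat.card_congr (Subgroup.subgroupOfEquivOfLe (inf_le_right : W0 ≤ X)).toEquiv, hWcard])
  set cm : S0 := d.y * d.x * d.y⁻¹ * d.x⁻¹ with hcm
  have hcomm : (cm : G) ∈ X := by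
    rw [hX, Subgroup.mem_centralizer_singleton_iff]
    have hn1 : ∀ g : S0, ∃ k : ℤ, (g : G) * y * (g : G)⁻¹ = y ^ k := fun g => by
      obtain ⟨k, hk⟩ := (Subgroup.mem_normalizer_iff.1 (hS0Ny g.2) y).1 (Subgroup.mem_zpowers y)
      exact ⟨k, hk.symm⟩
    obtain ⟨k, hk⟩ := hn1 d.y⁻¹
    obtain ⟨l, hl⟩ := hn1 d.x⁻¹
    simp only [Subgroup.coe_inv, inv_inv] at hk hl
    have e1 : (d.y : G)⁻¹ * (d.x : G)⁻¹ * y * ((d.x : G) * d.y) = y ^ (k * l) := by
      calc (d.y : G)⁻¹ * (d.x : G)⁻¹ * y * ((d.x : G) * d.y)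
          = (d.y : G)⁻¹ * ((d.x : G)⁻¹ * y * (d.x : G)) * ((d.y : G)⁻¹)⁻¹ := by group
        _ = y ^ (k * l) := by rw [hl, ← conj_zpow, inv_inv, hk, ← zpow_mul]
    have e2 : (d.x : G)⁻¹ * (d.y : G)⁻¹ * y * ((d.y : G) * d.x) = y ^ (k * l) := by
      calc (d.x : G)⁻¹ * (d.y : G)⁻¹ * y * ((d.y : G) * d.x)
          = (d.x : G)⁻¹ * ((d.y : G)⁻¹ * y * (d.y : G)) * ((d.x : G)⁻¹)⁻¹ := by group
        _ = y ^ (k * l) := by rw [hk, ← conj_zpow, inv_inv, hl, ← zpow_mul, mul_comm]
    rw [hcm]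
    simp only [Subgroup.coe_mul, Subgroup.coe_inv]
    calc (d.y : G) * d.x * (d.y : G)⁻¹ * (d.x : G)⁻¹ * y
        = (d.y : G) * d.x * ((d.y : G)⁻¹ * (d.x : G)⁻¹ * y * ((d.x : G) * d.y)) * ((d.x : G) * d.y)⁻¹ := by
          group
      _ = (d.y : G) * d.x * ((d.x : G)⁻¹ * (d.y : G)⁻¹ * y * ((d.y : G) * d.x)) * ((d.x : G) * d.y)⁻¹ := by
          rw [e1, e2]
      _ = _ := by group
  have uniq : ∀ j : S0, j * j = 1 → j ≠ 1 → cm * j = j * cm → j = d.z :=
    fun j h2 h1 hc => central_unique d h2 h1 hc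
  have hzd : (⟨K.z, hzS⟩ : S0) = d.z := uniq _ (Subtype.ext K.z_sq)
    (fun e => K.z_ne (congrArg Subtype.val e))
    (Subtype.ext (Subgroup.mem_centralizer_singleton_iff.1 (hNC (hS0N cm.2))))
  refine factorization_eq_of_local K.cyc hr hr2 (X := X) (z := K.z) hy hX W (fun j hj hj2 hj1 hjc => ?_)
    ⟨⟨K.z, Subgroup.mem_centralizer_singleton_iff.2 (Subgroup.mem_centralizer_singleton_iff.1 hyC).symm⟩,
      ⟨hzS, Subgroup.mem_centralizer_singleton_iff.2 (Subgroup.mem_centralizer_singleton_iff.1 hyC).symm⟩,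
      rfl, Subtype.ext K.z_sq, fun e => K.z_ne (congrArg Subtype.val e), fun w hw => Subtype.ext
        (Subgroup.mem_centralizer_singleton_iff.1 (hNC (hS0N hw.1)))⟩
  have hj' : (j : G) ∈ W0 := hj
  have e := uniq ⟨j, hj'.1⟩ (Subtype.ext (congrArg Subtype.val hj2 :))
    (fun e => hj1 (Subtype.ext (congrArg Subtype.val e :))) (Subtype.ext (by
      have := congrArg Subtype.val (hjc ⟨cm, hcomm⟩ ⟨cm.2, hcomm⟩)
      exact this))
  rw [← hzd] at e
  exact congrArg Subtype.val e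

/-- Primes dividing the odd core. -/
theorem local_O {r : ℕ} (hr : r.Prime) (hd : r ∣ Nat.card K.O) :
    (Nat.card G).factorization r = (Nat.card K.C).factorization r := by
  have hr2 : r ≠ 2 := fun e => by
    subst e
    exact (Nat.not_even_iff_odd.2 K.O_odd) (even_iff_two_dvd.2 hd)
  have hcycC : OddCyclic K.C := K.cyc.quotient (MonoidHom.id K.C) Function.surjective_id
  obtain ⟨y, -, hyo, hy⟩ := exists_frattini_elem hcycC K.O K.O_odd hr hr2 hd
  obtain ⟨n, hn⟩ := K.h_pow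
  refine K.local_of_normal hr hr2 (y := (y : G)) y.2 (by rw [Subgroup.orderOf_coe]; exact hyo)
    (N := (Subgroup.normalizer ((Subgroup.zpowers y : Subgroup K.C) : Set K.C)).map K.C.subtype)
    (Subgroup.map_subtype_le _) ?_ ?_
  · refine (Subgroup.le_normalizer_map _).trans ?_
    rw [MonoidHom.map_zpowers]
    rfl
  · rw [Subgroup.card_map_of_injective K.C.subtype_injective, hn]
    exact hy n (hn ▸ K.two_part_C)

/-- Primes dividing `|q + 1|`. -/
theorem local_cp {r : ℕ} (hr : r.Prime) (hr2 : r ≠ 2) (hd : r ∣ K.D.cp) :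
    (Nat.card G).factorization r = (Nat.card K.C).factorization r := by
  haveI : Fact r.Prime := ⟨hr⟩
  haveI : Fact (Nat.Prime 2) := ⟨Nat.prime_two⟩
  obtain ⟨t, ht⟩ := exists_prime_orderOf_dvd_card' (G := K.D.T) r
    (by rw [K.D.card_T]; exact Dvd.dvd.mul_left hd 2)
  rw [← Subgroup.orderOf_coe] at ht
  have htL : (t : CQ K.z) ∈ K.D.L := K.D.odd_mem_L (ht ▸ hr.odd_of_ne_two hr2)
  set Q := Subgroup.normalizer ((Subgroup.zpowers (t : CQ K.z) : Subgroup (CQ K.z)) : Set (CQ K.z)) with hQ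
  have haQ : K.D.a ∈ Q := by
    rw [hQ, Subgroup.mem_normalizer_iff]
    intro v
    have hc : ∀ v ∈ Subgroup.zpowers (t : CQ K.z), K.D.a * v * K.D.a⁻¹ = v := fun v hv => by
      obtain ⟨i, rfl⟩ := hv
      show K.D.a * (t : CQ K.z) ^ i * K.D.a⁻¹ = (t : CQ K.z) ^ i
      rw [((show Commute K.D.a (t : CQ K.z) from (K.D.mem_T.1 t.2).symm).zpow_right i).eq,
        mul_inv_cancel_right]
    refine ⟨fun hv => by rwa [hc v hv], fun hv => ?_⟩
    have h' := hc _ hv
    have e : K.D.a * v * K.D.a⁻¹ = v := mul_left_cancel (mul_right_cancel h')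
    rwa [e] at hv
  have hut := K.D.T_inv _ htL (K.D.mem_T.1 t.2)
  have huQ : K.D.u ∈ Q := by
    have key : ∀ v ∈ Subgroup.zpowers (t : CQ K.z), K.D.u * v * K.D.u⁻¹ ∈ Subgroup.zpowers (t : CQ K.z) := by
      rintro _ ⟨i, rfl⟩
      show K.D.u * (t : CQ K.z) ^ i * K.D.u⁻¹ ∈ _
      rw [← conj_zpow, hut]
      exact Subgroup.zpow_mem _ (inv_mem (Subgroup.mem_zpowers _)) i
    rw [hQ, Subgroup.mem_normalizer_iff]
    intro v
    refine ⟨key v, fun hv => ?_⟩
    have h := key _ hv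
    rwa [show K.D.u * (K.D.u * v * K.D.u⁻¹) * K.D.u⁻¹ = v by
      rw [show K.D.u * (K.D.u * v * K.D.u⁻¹) * K.D.u⁻¹ = (K.D.u * K.D.u) * v * (K.D.u * K.D.u)⁻¹ by
        group, K.D.uu, one_mul, inv_one, mul_one]] at h
  have hQcard : 4 * K.D.h ∣ Nat.card Q := by
    obtain ⟨k, -, he⟩ := K.D.hh
    set A := Subgroup.zpowers K.D.a
    set B := Subgroup.zpowers K.D.u
    have hA : IsPGroup 2 A := IsPGroup.of_card (n := k + 1) (by
      rw [Nat.card_zpowers, K.D.ao, he, pow_succ]; ring)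
    have hB : IsPGroup 2 B := IsPGroup.of_card (n := 1) (by
      rw [Nat.card_zpowers, pow_one]
      exact orderOf_eq_prime (by rw [pow_two, K.D.uu]) K.D.u_ne.1)
    have hle : B ≤ Subgroup.normalizer (A : Set (CQ K.z)) := by
      rw [Subgroup.zpowers_le, Subgroup.mem_normalizer_iff]
      have key : ∀ v ∈ A, K.D.u * v * K.D.u⁻¹ ∈ A := by
        rintro _ ⟨i, rfl⟩
        show K.D.u * K.D.a ^ i * K.D.u⁻¹ ∈ _
        rw [← conj_zpow, K.D.ua]
        exact Subgroup.zpow_mem _ (Subgroup.pow_mem _ (Subgroup.mem_zpowers _) _) i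
      intro v
      refine ⟨key v, fun hv => ?_⟩
      have h := key _ hv
      rwa [show K.D.u * (K.D.u * v * K.D.u⁻¹) * K.D.u⁻¹ = v by
        rw [show K.D.u * (K.D.u * v * K.D.u⁻¹) * K.D.u⁻¹ = (K.D.u * K.D.u) * v * (K.D.u * K.D.u)⁻¹ by
          group, K.D.uu, one_mul, inv_one, mul_one]] at h
    obtain ⟨c, hc⟩ := IsPGroup.iff_card.1 (IsPGroup.to_sup_of_normal_right' hB hA hle)
    have hlt : A < B ⊔ A := lt_of_le_of_ne le_sup_right fun e => by
      have hu : K.D.u ∈ A := e ▸ Subgroup.mem_sup_left (Subgroup.mem_zpowers _)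
      obtain ⟨i, hi⟩ := hu
      exact K.D.u_not_T (by rw [← hi]; exact Subgroup.zpow_mem _ K.D.a_mem i)
    have hcA : Nat.card A = 2 ^ (k + 1) := by rw [Nat.card_zpowers, K.D.ao, he, pow_succ]; ring
    have hlt' : 2 ^ (k + 1) < 2 ^ c := by
      rw [← hcA, ← hc]
      exact (Set.toFinite _).card_lt_card hlt
    have hk2 : k + 2 ≤ c := (Nat.pow_lt_pow_iff_right (by norm_num)).1 hlt'
    refine dvd_trans ?_ (Subgroup.card_dvd_of_le (show B ⊔ A ≤ Q from
      sup_le ((Subgroup.zpowers_le).2 huQ) ((Subgroup.zpowers_le).2 haQ)))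
    rw [hc, he, show 4 * 2 ^ k = 2 ^ (k + 2) by rw [pow_add]; ring]
    exact pow_dvd_pow 2 hk2
  set M := Q.comap K.π with hM
  set P : Subgroup M := ((Subgroup.zpowers (t : CQ K.z)).comap K.π).subgroupOf M with hP
  have hPle : (Subgroup.zpowers (t : CQ K.z)).comap K.π ≤ M :=
    Subgroup.comap_mono (Subgroup.le_normalizer)
  haveI : P.Normal := by
    refine ⟨fun v hv g => ?_⟩
    rw [hP, Subgroup.mem_subgroupOf, Subgroup.mem_comap] at hv ⊢
    simp only [Subgroup.coe_mul, Subgroup.coe_inv, map_mul, map_inv]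
    exact (Subgroup.mem_normalizer_iff.1 (show K.π (g : K.C) ∈ Q from g.2) _).1 hv
  have hcomap : ∀ A : Subgroup (CQ K.z), Nat.card (A.comap K.π) = Nat.card K.O * Nat.card A := by
    intro A
    have h1 := Subgroup.card_mul_index (A.comap K.π)
    rw [Subgroup.index_comap_of_surjective _ K.π_surj] at h1
    have h2 := Subgroup.card_mul_index A
    have h3 := Subgroup.card_mul_index K.O
    refine Nat.eq_of_mul_eq_mul_right (Nat.pos_of_ne_zero (Subgroup.index_ne_zero_of_finite (H := A))) ?_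
    rw [h1, mul_assoc, h2]
    exact h3.symm
  have hPc : Nat.card P = Nat.card K.O * r := by
    rw [Nat.card_congr (Subgroup.subgroupOfEquivOfLe hPle).toEquiv, hcomap, Nat.card_zpowers, ht]
  have hcycC : OddCyclic K.C := K.cyc.quotient (MonoidHom.id K.C) Function.surjective_id
  have hcycM : OddCyclic M := hcycC.quotient (MonoidHom.id M) Function.surjective_id
  obtain ⟨y, -, hyo, hy⟩ := exists_frattini_elem hcycM P
    (by rw [hPc]; exact K.O_odd.mul (hr.odd_of_ne_two hr2)) hr hr2 (hPc ▸ dvd_mul_left _ _)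
  obtain ⟨n, hn⟩ := K.h_pow
  refine K.local_of_normal hr hr2 (y := ((y : K.C) : G)) (y : K.C).2
    (by rw [Subgroup.orderOf_coe, Subgroup.orderOf_coe]; exact hyo)
    (N := (Subgroup.normalizer ((Subgroup.zpowers y : Subgroup M) : Set M)).map (K.C.subtype.comp M.subtype))
    ?_ ?_ ?_
  · rintro _ ⟨g, -, rfl⟩
    exact (g : K.C).2
  · refine (Subgroup.le_normalizer_map _).trans ?_
    rw [MonoidHom.map_zpowers]
    rfl
  · rw [Subgroup.card_map_of_injective (show Function.Injective (K.C.subtype.comp M.subtype) from K.C.subtype_injective.comp M.subtype_injective), hn]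
    refine hy n (hn ▸ ?_)
    rw [hM, hcomap]
    exact Dvd.dvd.mul_left hQcard _

/-- The characteristic. -/
theorem local_p : (Nat.card G).factorization K.p = (Nat.card K.C).factorization K.p := by
  by_cases hd : K.p ∣ Nat.card K.O
  · exact K.local_O K.D.hp hd
  haveI : Fact (Nat.Prime 2) := ⟨Nat.prime_two⟩
  haveI : Fact K.p.Prime := ⟨K.D.hp⟩
  obtain ⟨x0, hx0⟩ := K.π_surj K.D.x
  set y : K.C := x0 ^ Nat.card K.O with hy
  have hco : (Nat.card K.O).Coprime (orderOf K.D.x) := by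
    rw [K.D.xo]; exact ((K.D.hp.coprime_iff_not_dvd).2 hd).symm
  have hπy : K.π y = K.D.x ^ Nat.card K.O := by rw [hy, map_pow, hx0]
  have hyo : orderOf y = K.p := by
    refine orderOf_eq_prime ?_ fun e => ?_
    · have hO : x0 ^ K.p ∈ K.O := by
        rw [← K.ker_π, MonoidHom.mem_ker, map_pow, hx0, K.D.x_pow_p]
      have h := congrArg Subtype.val (pow_card_eq_one' (x := (⟨x0 ^ K.p, hO⟩ : K.O)))
      simp only [Subgroup.coe_pow, Subgroup.coe_one] at h
      rw [hy, ← pow_mul, mul_comm, pow_mul]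
      exact h
    · rw [e, map_one] at hπy
      have h1 := Nat.eq_one_of_dvd_coprimes hco.symm dvd_rfl (orderOf_dvd_of_pow_eq_one hπy.symm)
      rw [K.D.xo] at h1
      exact K.D.hp.ne_one h1
  set X := Subgroup.centralizer ({(y : G)} : Set G) with hX
  have hzX : K.z ∈ X :=
    Subgroup.mem_centralizer_singleton_iff.2 (Subgroup.mem_centralizer_singleton_iff.1 y.2).symm
  set zX : X := ⟨K.z, hzX⟩
  have hzo : orderOf zX = 2 := by rw [← Subgroup.orderOf_coe]; exact K.hz2
  obtain ⟨W, hW⟩ := (IsPGroup.of_card (n := 1) (by rw [Nat.card_zpowers, hzo, pow_one]) :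
    IsPGroup 2 (Subgroup.zpowers zX)).exists_le_sylow
  have two : ∀ w ∈ (W : Subgroup X), w * zX = zX * w → w = 1 ∨ w = zX := by
    intro w hw hc
    obtain ⟨b, hb⟩ := IsPGroup.iff_orderOf.1 W.2 ⟨w, hw⟩
    rw [← Subgroup.orderOf_coe] at hb
    have hwC : (w : G) ∈ K.C := Subgroup.mem_centralizer_singleton_iff.2 (congrArg Subtype.val hc)
    set c : K.C := ⟨w, hwC⟩
    have hbc : orderOf c = 2 ^ b := by
      rw [← hb, ← Subgroup.orderOf_coe, ← Subgroup.orderOf_coe w]
    have hcy : c * y = y * c := Subtype.ext (Subgroup.mem_centralizer_singleton_iff.1 w.2)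
    have hU : K.π c ∈ K.D.U := by
      refine K.D.mem_U.2 ?_
      obtain ⟨j, hj⟩ := exists_pow_eq_self_of_coprime hco
      have h := congrArg K.π hcy
      rw [map_mul, map_mul, hπy] at h
      have h' := (show Commute (K.π c) (K.D.x ^ Nat.card K.O) from h).pow_right j
      rw [hj] at h'
      exact h'.eq
    have hsq : K.π c * K.π c = 1 := by
      have h1 : orderOf (⟨K.π c, hU⟩ : K.D.U) ∣ 2 * K.p := by rw [← K.D.card_U]; exact orderOf_dvd_natCard _
      rw [← Subgroup.orderOf_coe] at h1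
      have h2 : orderOf (K.π c) ∣ 2 ^ b := hbc ▸ orderOf_map_dvd _ c
      have h3 : orderOf (K.π c) ∣ 2 := by
        have hcop : (orderOf (K.π c)).Coprime K.p :=
          Nat.Coprime.of_dvd_left h2 (((Nat.coprime_primes Nat.prime_two K.D.hp).2 K.D.hp2.symm).pow_left b)
        exact hcop.dvd_of_dvd_mul_right h1
      rw [← pow_two]
      exact orderOf_dvd_iff_pow_eq_one.1 h3
    have hker : ∀ v : K.C, (∃ e, orderOf v ∣ 2 ^ e) → K.π v = 1 → v = 1 := by
      rintro v ⟨e, he⟩ hv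
      have h1 : orderOf (⟨v, (SetLike.ext_iff.1 K.ker_π v).1 (MonoidHom.mem_ker.2 hv)⟩ : K.O) ∣ Nat.card K.O :=
        orderOf_dvd_natCard _
      rw [← Subgroup.orderOf_coe] at h1
      exact orderOf_eq_one_iff.1 (Nat.eq_one_of_dvd_coprimes
        ((Nat.coprime_two_left.2 K.O_odd).pow_left e) he h1)
    rcases K.D.L_invol _ (K.D.U_le_L hU) hsq with e | e
    · left
      exact Subtype.ext (congrArg Subtype.val (hker c ⟨b, hbc.dvd⟩ e) :)
    · right
      have hzz : K.zC * K.zC = 1 := Subtype.ext K.z_sq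
      have hpow : (c * K.zC) ^ (2 ^ (b + 1)) = 1 := by
        rw [(show Commute c K.zC from K.zC_comm c).mul_pow, pow_succ', pow_mul K.zC, pow_two, hzz,
          one_pow, mul_one, mul_comm, pow_mul, ← hbc, pow_orderOf_eq_one, one_pow]
      have h4 := hker (c * K.zC) ⟨b + 1, orderOf_dvd_of_pow_eq_one hpow⟩
        (by rw [map_mul, e, K.π_z, K.D.zz])
      have h5 : c = K.zC := mul_right_cancel (b := K.zC) (h4.trans hzz.symm)
      exact Subtype.ext (congrArg Subtype.val h5 :)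
  have hWeq : ∀ w ∈ (W : Subgroup X), w = 1 ∨ w = zX := by
    haveI : Group.IsNilpotent (W : Subgroup X) := W.2.isNilpotent
    by_contra hne
    push Not at hne
    obtain ⟨w, hw, hw1, hwz⟩ := hne
    set Z := (Subgroup.zpowers zX).subgroupOf (W : Subgroup X)
    have hlt : Z < ⊤ := by
      refine lt_top_iff_ne_top.2 fun e => ?_
      have hm : (⟨w, hw⟩ : (W : Subgroup X)) ∈ Z := e ▸ Subgroup.mem_top _
      obtain ⟨i, hi⟩ := hm
      have hi' : zX ^ i = w := hi
      rw [← zpow_mod_orderOf, hzo] at hi'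
      rcases Int.emod_two_eq_zero_or_one i with h | h <;> norm_num [h] at hi'
      · exact hw1 hi'.symm
      · exact hwz hi'.symm
    obtain ⟨v, hvN, hvZ⟩ := SetLike.exists_of_lt (Group.normalizerCondition_of_isNilpotent Z hlt)
    apply hvZ
    have hzm : (⟨zX, hW (Subgroup.mem_zpowers _)⟩ : (W : Subgroup X)) ∈ Z := Subgroup.mem_zpowers zX
    have h1 := (Subgroup.mem_normalizer_iff.1 hvN _).1 hzm
    have hconj : (v : X) * zX * (v : X)⁻¹ ∈ Subgroup.zpowers zX := h1
    have h2 : orderOf ((v : X) * zX * (v : X)⁻¹) = 2 := by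
      exact (orderOf_injective (MulAut.conj (v : X)).toMonoidHom (MulAut.conj (v : X)).injective zX).trans hzo
    have h3 := cyclic_invol_unique hconj (Subgroup.mem_zpowers zX) h2 hzo
    have h4 : (v : X) * zX = zX * v := by
      calc (v : X) * zX = (v : X) * zX * (v : X)⁻¹ * v := by group
        _ = zX * v := by rw [h3]
    rcases two _ v.2 h4 with e | e
    · have : v = 1 := Subtype.ext e
      rw [this]; exact one_mem _
    · show (v : X) ∈ Subgroup.zpowers zX
      rw [e]; exact Subgroup.mem_zpowers _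
  refine factorization_eq_of_local K.cyc K.D.hp K.D.hp2 (z := K.z) (y := (y : G))
    (by rw [Subgroup.orderOf_coe]; exact hyo) hX W (fun j hj _ hj1 _ => ?_)
    ⟨zX, hW (Subgroup.mem_zpowers _), rfl, Subtype.ext K.z_sq, fun e => K.z_ne (congrArg Subtype.val e),
      fun w hw => by
        rcases hWeq w hw with e | e <;> rw [e]
        rw [one_mul, mul_one]⟩
  rcases hWeq j hj with e | e
  · exact absurd e hj1
  · rw [e]

end Ctx

end Cfsg.Agent.SDPack
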