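import Cfsg.Agent.Lib.SDPack.Five
import Cfsg.Agent.Lib.SDPack.Formula
import Cfsg.Agent.Lib.SDPack.Localise
import Cfsg.Agent.Lib.SDPack.Arith
import Cfsg.Agent.Lib.SDPack.Goal

/-!
No finite simple group has semidihedral Sylow 2-subgroups and cyclic odd Sylow subgroups.
-/

set_option autoImplicit false
set_option linter.style.haveILetI false
set_option linter.unusedSectionVars false

namespace Cfsg.Agent.SDPack

open Cfsg
open scoped Classical

universe u

namespace Ctx

variable {G : Type u} [Group G] [Fintype G] (K : Ctx G)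

theorem two_part_eq : (Nat.card G).factorization 2 = (Nat.card K.C).factorization 2 := by
  haveI : Fact (Nat.Prime 2) := ⟨Nat.prime_two⟩
  refine le_antisymm ?_ ((Nat.factorization_le_iff_dvd Nat.card_pos.ne' Nat.card_pos.ne').2
    (Subgroup.card_subgroup_dvd_card K.C) 2)
  rw [← Nat.prime_two.pow_dvd_iff_le_factorization Nat.card_pos.ne', ← K.S.card_eq_multiplicity,
    ← K.hR]
  exact Subgroup.card_subgroup_dvd_card (K.R : Subgroup K.C)

include K in
theorem contradiction' : False := by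
  obtain ⟨x, g, hx, hx1, hg, hg0, hgd, hform⟩ := K.order_formula
  obtain ⟨k, hk, hh⟩ := K.D.hh
  have hC := K.card_C
  rw [hC] at hform
  obtain ⟨hp5, hq5, hm1, hN⟩ := arith (N := Nat.card G) (o := Nat.card K.O) (m := K.m) (p := K.p)
    (cp := K.D.cp) (cm := K.D.cm) (k := k) Nat.card_pos K.O_odd K.m_dvd K.D.hp K.D.hp2 K.D.hq
    K.D.hq4 rfl rfl hk ⟨K.D.mT, K.D.mT_odd, by rw [← hh]; exact K.D.mT_eq⟩
    ⟨K.D.mT1, K.D.mT1_odd, K.D.mT1_eq⟩ hx hx1 hg hg0 hgd (by rw [← hC]; exact K.two_part_eq)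
    (by rw [← hC]; exact K.local_p)
    (fun r hr hr2 hd => by rw [← hC]; exact K.local_cp hr hr2 hd)
    (fun r hr hd => by rw [← hC]; exact K.local_O hr hd) hform
  refine K.five_false ⟨?_, ?_, hp5, hm1⟩ hN
  · show (K.D.q + 1).natAbs = 4
    rw [hq5]; rfl
  · show (K.D.q - 1).natAbs = 6
    rw [hq5]; rfl

end Ctx

/-- No finite simple group has semidihedral Sylow 2-subgroups and cyclic odd Sylow subgroups. -/
theorem noSemidihedral : NoSemidihedral.{u} := by
  intro G _ _ hG hcyc S hS
  haveI : Fintype G := Fintype.ofFinite G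
  obtain ⟨K⟩ := exists_ctx hG hcyc S hS
  exact K.contradiction'

end Cfsg.Agent.SDPack
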