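import Cfsg.Prelude.Def_CaseTheorems
import Mathlib.GroupTheory.Sylow
import Mathlib.GroupTheory.OrderOfElement

/-!
The facts about a group `H = SL(2, p).2` with semidihedral Sylow 2-subgroups that the character
package uses.
-/

set_option autoImplicit false

namespace Cfsg.Agent.SDPack

universe u

/-- The facts about `H`. -/
structure Model (H : Type u) [Group H] [Finite H] (p : ℕ) where
  L : Subgroup H
  z : H
  a : H
  u : H
  w : H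
  x : H
  h : ℕ
  q : ℤ
  hp : p.Prime
  hp2 : p ≠ 2
  hh : ∃ k, 2 ≤ k ∧ h = 2 ^ k
  hq : q.natAbs = p
  hq4 : q % 4 = 3
  hT : ∃ t, Odd t ∧ (q + 1).natAbs = h * t
  hT1 : ∃ t, Odd t ∧ (q - 1).natAbs = 2 * t
  card_eq : Nat.card H = 2 * p * ((q + 1).natAbs * (q - 1).natAbs)
  L_normal : L.Normal
  L_index : L.index = 2
  z_comm : ∀ g, g * z = z * g
  zz : z * z = 1
  z_ne : z ≠ 1
  z_mem : z ∈ L
  L_invol : ∀ l ∈ L, l * l = 1 → l = 1 ∨ l = z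
  a_not : a ∉ L
  u_not : u ∉ L
  x_mem : x ∈ L
  w_mem : w ∈ L
  ao : orderOf a = 2 * h
  az : a ^ h = z
  uu : u * u = 1
  xo : orderOf x = p
  ua : u * a * u⁻¹ = a ^ (h - 1)
  wu : w * u * w⁻¹ = u * z
  T_comm : ∀ s t : H, s * a = a * s → t * a = a * t → s * t = t * s
  T_card : Nat.card (Subgroup.centralizer ({a} : Set H)) = 2 * (q + 1).natAbs
  T_cent : ∀ t, t * a = a * t → t ≠ 1 → t ≠ z → ∀ g, g * t = t * g → g * a = a * g
  T_norm : ∀ g t, t * a = a * t → t ≠ 1 → t ≠ z → g * t * g⁻¹ * a = a * (g * t * g⁻¹) →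
    g * a = a * g ∨ u⁻¹ * g * a = a * (u⁻¹ * g)
  T_inv : ∀ t ∈ L, t * a = a * t → u * t * u⁻¹ = t⁻¹
  T1_comm : ∀ s t : H, s * u = u * s → t * u = u * t → s * t = t * s
  T1_card : Nat.card (Subgroup.centralizer ({u} : Set H)) = 2 * (q - 1).natAbs
  T1_cent : ∀ t, t * u = u * t → t ≠ 1 → t ≠ z → ∀ g, g * t = t * g → g * u = u * g
  T1_norm : ∀ g t, t * u = u * t → t ≠ 1 → t ≠ z → g * t * g⁻¹ * u = u * (g * t * g⁻¹) →
    g * u = u * g ∨ w⁻¹ * g * u = u * (w⁻¹ * g)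
  T1_two : ∀ t, t * u = u * t → (∃ k, orderOf t = 2 ^ k) → t = 1 ∨ t = z ∨ t = u ∨ t = u * z
  U_card : Nat.card (Subgroup.centralizer ({x} : Set H)) = 2 * p
  U_conj : ∀ k : ℕ, ¬ p ∣ k → ∃ g, g * x * g⁻¹ = x ^ k
  J_conj : ∀ j, j * j = 1 → j ≠ 1 → j ≠ z → IsConj u j
  four : ∀ y ∈ L, orderOf y = 4 → ∃ g, g * y * g⁻¹ * a = a * (g * y * g⁻¹)

end Cfsg.Agent.SDPack
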