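import Cfsg.Agent.Lib.SDPack.Proj
import Cfsg.Agent.Lib.SDPack.Model
import Cfsg.Agent.Lib.TwoGroups.QuasiDihedral
import Cfsg.Agent.Lib.Classical.DicksonProper
import Mathlib.GroupTheory.SchurZassenhaus

/-!
The centraliser of `L` and the image in `PGL(2, p)`.
-/

set_option autoImplicit false
set_option linter.unusedSectionVars false

namespace Cfsg.Agent.SDPack

open Matrix Cfsg.Agent.TwoByTwo

universe u

variable {H : Type u} [Group H] [Finite H] {p : ℕ} [Fact p.Prime]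

/-- The hypotheses. -/
structure Hyp (H : Type u) [Group H] (p : ℕ) [Fact p.Prime] where
  hp : p ≠ 2
  L : Subgroup H
  normal : L.Normal
  e : L ≃* Matrix.SpecialLinearGroup (Fin 2) (ZMod p)
  S : Sylow 2 H
  hS : Cfsg.IsQuasiDihedral (S : Subgroup H)
  hO : ∀ N : Subgroup H, N.Normal → Odd (Nat.card N) → N = ⊥

theorem card_sl (p : ℕ) [Fact p.Prime] :
    Nat.card (Matrix.SpecialLinearGroup (Fin 2) (ZMod p)) = p * (p ^ 2 - 1) := by
  rw [Cfsg.Agent.TwoByTwo.card_sl_two, Nat.card_zmod]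

theorem exists_mem_sylow_two {g h : H} (hgh : g * h = h * g) (hg : ∃ k, orderOf g = 2 ^ k)
    (hh : ∃ k, orderOf h = 2 ^ k) (S : Sylow 2 H) :
    ∃ c : H, c * g * c⁻¹ ∈ (S : Subgroup H) ∧ c * h * c⁻¹ ∈ (S : Subgroup H) := by
  haveI : Fact (Nat.Prime 2) := ⟨Nat.prime_two⟩
  obtain ⟨i, hi⟩ := hg
  obtain ⟨j, hj⟩ := hh
  have h1 : IsPGroup 2 (Subgroup.zpowers g) := IsPGroup.of_card (n := i) (by rw [Nat.card_zpowers, hi])
  have h2 : IsPGroup 2 (Subgroup.zpowers h) := IsPGroup.of_card (n := j) (by rw [Nat.card_zpowers, hj])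
  have hle : Subgroup.zpowers g ≤ Subgroup.normalizer (Subgroup.zpowers h : Set H) := by
    rw [Subgroup.zpowers_le, Subgroup.mem_normalizer_iff]
    intro v
    have hc : ∀ v ∈ Subgroup.zpowers h, g * v * g⁻¹ = v := fun v hv => by
      obtain ⟨n, rfl⟩ := Subgroup.mem_zpowers_iff.1 hv
      rw [((show Commute g h from hgh).zpow_right n).eq, mul_inv_cancel_right]
    refine ⟨fun hv => by rw [hc v hv]; exact hv, fun hv => ?_⟩
    have h' := hc _ hv
    rwa [show v = g * v * g⁻¹ from (mul_left_cancel (mul_right_cancel h')).symm]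
  obtain ⟨W, hW⟩ := (IsPGroup.to_sup_of_normal_right' h1 h2 hle).exists_le_sylow
  obtain ⟨c, hc⟩ := MulAction.exists_smul_eq H W S
  refine ⟨c, ?_, ?_⟩ <;> rw [← hc, Sylow.coe_subgroup_smul]
  · exact ⟨g, hW (Subgroup.mem_sup_left (Subgroup.mem_zpowers g)), rfl⟩
  · exact ⟨h, hW (Subgroup.mem_sup_right (Subgroup.mem_zpowers h)), rfl⟩

namespace Hyp

variable (Y : Hyp H p)

/-- The central involution. -/
noncomputable def z : H := ((Y.e.symm SL2Inv.negOne : Y.L) : H)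

theorem z_mem : Y.z ∈ Y.L := (Y.e.symm SL2Inv.negOne).2

theorem zz : Y.z * Y.z = 1 := by
  rw [z, ← Subgroup.coe_mul, ← map_mul, SL2Inv.negOne_mul_self, map_one, OneMemClass.coe_one]

theorem z_ne : Y.z ≠ 1 := fun h => SL2Inv.negOne_ne_one (two_ne Y.hp) (Y.e.symm.injective
  (Subtype.ext (h.trans (by rw [map_one, OneMemClass.coe_one]))))

theorem L_invol {l : H} (hl : l ∈ Y.L) (h2 : l * l = 1) : l = 1 ∨ l = Y.z := by
  have h : Y.e ⟨l, hl⟩ * Y.e ⟨l, hl⟩ = 1 := by
    rw [← map_mul, show (⟨l, hl⟩ : Y.L) * ⟨l, hl⟩ = 1 from Subtype.ext h2, map_one]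
  rcases SL2Inv.eq_or_eq_negOne_of_mul_self (two_ne Y.hp) h with e | e
  · left
    exact congrArg Subtype.val (Y.e.injective (e.trans (map_one Y.e).symm))
  · right
    rw [z, ← e, MulEquiv.symm_apply_apply]

theorem z_comm (g : H) : g * Y.z = Y.z * g := by
  rw [← mul_inv_eq_iff_eq_mul]
  refine (Y.L_invol (Y.normal.conj_mem _ Y.z_mem g) ?_).resolve_left fun h => Y.z_ne (by
    rwa [conj_eq_one_iff] at h)
  rw [show g * Y.z * g⁻¹ * (g * Y.z * g⁻¹) = g * (Y.z * Y.z) * g⁻¹ by group, Y.zz, mul_one,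
    mul_inv_cancel]

theorem orderOf_z : orderOf Y.z = 2 := orderOf_eq_prime (by rw [pow_two, Y.zz]) Y.z_ne

theorem z_center {l : Y.L} (hl : l ∈ Subgroup.center Y.L) : (l : H) = 1 ∨ (l : H) = Y.z := by
  have h : Y.e l ∈ Subgroup.center _ := Subgroup.mem_center_iff.2 fun v => by
    obtain ⟨m, rfl⟩ := Y.e.surjective v
    rw [← map_mul, ← map_mul, Subgroup.mem_center_iff.1 hl m]
  rcases SL2Inv.mem_center_iff.1 h with e | e
  · exact Or.inl (congrArg Subtype.val (Y.e.injective (e.trans (map_one Y.e).symm)))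
  · right
    rw [z, ← e, MulEquiv.symm_apply_apply]

/-- The presentation of the Sylow subgroup. -/
noncomputable def pres : QD.Pres (Y.S : Subgroup H) := (QD.exists_pres Y.hS).choose

theorem z_mem_sylow : Y.z ∈ (Y.S : Subgroup H) := by
  haveI : Fact (Nat.Prime 2) := ⟨Nat.prime_two⟩
  haveI : (Subgroup.zpowers Y.z).Normal := ⟨fun v hv g => by
    obtain ⟨n, rfl⟩ := Subgroup.mem_zpowers_iff.1 hv
    rw [((show Commute g Y.z from Y.z_comm g).zpow_right n).eq, mul_inv_cancel_right]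
    exact Subgroup.zpow_mem_zpowers _ _⟩
  exact IsPGroup.le_sylow_of_normal (IsPGroup.of_card (n := 1)
    (by rw [Nat.card_zpowers, Y.orderOf_z, pow_one])) Y.S (Subgroup.mem_zpowers _)

theorem z_eq : Y.z = (Y.pres.z : H) := by
  rcases Y.pres.sq_eq_one_cases (g := ⟨Y.z, Y.z_mem_sylow⟩) (Subtype.ext Y.zz) with h | h | ⟨i, -, h⟩
  · exact absurd (congrArg Subtype.val h) Y.z_ne
  · exact congrArg Subtype.val h
  · exfalso
    have hc : Y.pres.x ^ i * Y.pres.y * Y.pres.x ^ (1 : ℤ) =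
        Y.pres.x ^ (1 : ℤ) * (Y.pres.x ^ i * Y.pres.y) := by
      rw [← h]; exact Subtype.ext (Y.z_comm _).symm
    have h4 := (Y.pres.commute_form_pow i 1).1 hc
    have := Int.le_of_dvd one_pos h4
    linarith [Y.pres.r_pos]

/-- The element of maximal order. -/
noncomputable def a : H := (Y.pres.x : H)

/-- The involution outside `L`. -/
noncomputable def u : H := (Y.pres.y : H)

theorem uu : Y.u * Y.u = 1 := congrArg Subtype.val Y.pres.yy

theorem u_ne_z : Y.u ≠ Y.z := fun h => by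
  rw [Y.z_eq] at h
  refine Y.pres.ne_form (4 * Y.pres.r) 0 ?_
  rw [zpow_zero, one_mul]
  exact Subtype.ext h.symm

theorem u_ne_one : Y.u ≠ 1 := fun h => by
  refine Y.pres.ne_form 0 0 ?_
  rw [zpow_zero, one_mul]
  exact Subtype.ext h.symm

theorem u_not : Y.u ∉ Y.L := fun h => (Y.L_invol h Y.uu).elim Y.u_ne_one Y.u_ne_z

/-- Involutions other than `z` are conjugate to `u`. -/
theorem J_conj {j : H} (h2 : j * j = 1) (h1 : j ≠ 1) (hz : j ≠ Y.z) : IsConj Y.u j := by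
  obtain ⟨c, hc, -⟩ := exists_mem_sylow_two (g := j) (h := j) rfl
    ⟨1, by rw [pow_one]; exact orderOf_eq_prime (by rw [pow_two, h2]) h1⟩
    ⟨1, by rw [pow_one]; exact orderOf_eq_prime (by rw [pow_two, h2]) h1⟩ Y.S
  have hsq : (⟨c * j * c⁻¹, hc⟩ : (Y.S : Subgroup H)) * ⟨c * j * c⁻¹, hc⟩ = 1 := Subtype.ext (by
    show c * j * c⁻¹ * (c * j * c⁻¹) = 1
    rw [show c * j * c⁻¹ * (c * j * c⁻¹) = c * (j * j) * c⁻¹ by group, h2, mul_one, mul_inv_cancel])
  rcases Y.pres.sq_eq_one_cases hsq with e | e | ⟨i, hi, e⟩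
  · exact absurd (by simpa using congrArg Subtype.val e) h1
  · exfalso
    have e' : c * j * c⁻¹ = Y.z := (congrArg Subtype.val e).trans Y.z_eq.symm
    apply hz
    calc j = c⁻¹ * (c * j * c⁻¹) * c := by group
      _ = c⁻¹ * (Y.z * c) := by rw [e', mul_assoc]
      _ = Y.z := by rw [← Y.z_comm, inv_mul_cancel_left]
  · obtain ⟨k, hk⟩ := Y.pres.conj_form 0 i (by simpa using hi)
    rw [zpow_zero, one_mul] at hk
    have e2 : IsConj Y.u (c * j * c⁻¹) := isConj_iff.2 ⟨((Y.pres.x ^ k : (Y.S : Subgroup H)) : H),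
      congrArg Subtype.val (hk.trans e.symm)⟩
    exact e2.trans (isConj_iff.2 ⟨c⁻¹, by group⟩)

/-- A 2-element commuting with a noncentral involution. -/
theorem two_cent {j v : H} (hj : j * j = 1) (hj1 : j ≠ 1) (hjz : j ≠ Y.z) (hc : v * j = j * v)
    (hv : ∃ k, orderOf v = 2 ^ k) : v = 1 ∨ v = Y.z ∨ v = j ∨ v = Y.z * j := by
  obtain ⟨c, hcv, hcj⟩ := exists_mem_sylow_two hc hv
    ⟨1, by rw [pow_one]; exact orderOf_eq_prime (by rw [pow_two, hj]) hj1⟩ Y.S
  have hsq : (⟨c * j * c⁻¹, hcj⟩ : (Y.S : Subgroup H)) * ⟨c * j * c⁻¹, hcj⟩ = 1 := Subtype.ext (by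
    show c * j * c⁻¹ * (c * j * c⁻¹) = 1
    rw [show c * j * c⁻¹ * (c * j * c⁻¹) = c * (j * j) * c⁻¹ by group, hj, mul_one, mul_inv_cancel])
  have back : ∀ b : H, c⁻¹ * (c * b * c⁻¹) * c = b := fun b => by group
  have hzb : c⁻¹ * Y.z * c = Y.z := by rw [Y.z_comm, mul_assoc, inv_mul_cancel, mul_one]
  rcases Y.pres.sq_eq_one_cases hsq with e | e | ⟨i, -, e⟩
  · exact absurd (by simpa using congrArg Subtype.val e) hj1
  · exfalso
    have e' : c * j * c⁻¹ = Y.z := (congrArg Subtype.val e).trans Y.z_eq.symm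
    exact hjz (by rw [← back j, e', hzb])
  · have hcomm : (⟨c * v * c⁻¹, hcv⟩ : (Y.S : Subgroup H)) * ⟨c * j * c⁻¹, hcj⟩ =
        ⟨c * j * c⁻¹, hcj⟩ * ⟨c * v * c⁻¹, hcv⟩ := Subtype.ext (by
      show c * v * c⁻¹ * (c * j * c⁻¹) = c * j * c⁻¹ * (c * v * c⁻¹)
      calc c * v * c⁻¹ * (c * j * c⁻¹) = c * (v * j) * c⁻¹ := by group
        _ = c * (j * v) * c⁻¹ := by rw [hc]
        _ = _ := by group)
    rw [e] at hcomm
    rcases (Y.pres.commute_form_iff i _).1 hcomm with f | f | f | f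
    · exact Or.inl (by simpa using congrArg Subtype.val f)
    · refine Or.inr (Or.inl ?_)
      have f' : c * v * c⁻¹ = Y.z := (congrArg Subtype.val f).trans Y.z_eq.symm
      rw [← back v, f', hzb]
    · refine Or.inr (Or.inr (Or.inl ?_))
      have f' : c * v * c⁻¹ = c * j * c⁻¹ := congrArg Subtype.val (f.trans e.symm)
      rw [← back v, f', back]
    · refine Or.inr (Or.inr (Or.inr ?_))
      rw [← e] at f
      have f' : c * v * c⁻¹ = Y.z * (c * j * c⁻¹) := by
        rw [Y.z_eq]; exact congrArg Subtype.val f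
      rw [← back v, f', show c⁻¹ * (Y.z * (c * j * c⁻¹)) * c =
        (c⁻¹ * Y.z * c) * (c⁻¹ * (c * j * c⁻¹) * c) by group, hzb, back]

/-- An element of order four in `L`. -/
noncomputable def w4 : Y.L := Y.e.symm SL2Inv.w

theorem w4_sq : (Y.w4 : H) * Y.w4 = Y.z := by
  rw [w4, z, ← Subgroup.coe_mul, ← map_mul, SL2Inv.w_mul_self]

theorem w4_two : ∃ k, orderOf (Y.w4 : H) = 2 ^ k := by
  haveI : Fact (Nat.Prime 2) := ⟨Nat.prime_two⟩
  refine ⟨2, orderOf_eq_prime_pow (n := 1) (fun h => ?_) ?_⟩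
  · rw [pow_one, pow_two, Y.w4_sq] at h; exact Y.z_ne h
  · rw [show (2 : ℕ) ^ (1 + 1) = 2 * 2 by norm_num, pow_mul, pow_two, pow_two, Y.w4_sq, Y.zz]

/-- The 2-elements centralising `L`. -/
theorem two_cent_L {c : H} (hc : c ∈ Subgroup.centralizer (Y.L : Set H))
    (h2 : ∃ k, orderOf c = 2 ^ k) : c = 1 ∨ c = Y.z := by
  have hlc : (Y.w4 : H) * c = c * Y.w4 := Subgroup.mem_centralizer_iff.1 hc _ Y.w4.2
  have invol : ∀ v : H, v * v = 1 → v * Y.w4 = Y.w4 * v → v = 1 ∨ v = Y.z := by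
    intro v hv hcv
    by_contra hne
    push Not at hne
    have hz4 := Y.w4_sq
    rcases Y.two_cent hv hne.1 hne.2 hcv.symm Y.w4_two with e | e | e | e
    · rw [e, mul_one] at hz4; exact Y.z_ne hz4.symm
    · rw [e, Y.zz] at hz4; exact Y.z_ne hz4.symm
    · rw [e, hv] at hz4; exact Y.z_ne hz4.symm
    · rw [e, show Y.z * v * (Y.z * v) = Y.z * (v * Y.z) * v by group, Y.z_comm,
        ← mul_assoc Y.z, Y.zz, one_mul, hv] at hz4
      exact Y.z_ne hz4.symm
  obtain ⟨k, hk⟩ := h2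
  by_cases h4 : c * c = 1
  · exact invol c h4 hlc.symm
  exfalso
  obtain ⟨k, rfl⟩ : ∃ i, k = i + 2 := by
    refine ⟨k - 2, ?_⟩
    by_contra hlt
    apply h4
    have : orderOf c ∣ 2 := by rw [hk]; exact (pow_dvd_pow 2 (show k ≤ 1 by omega)).trans (dvd_refl _)
    rw [← pow_two]; exact orderOf_dvd_iff_pow_eq_one.1 this
  set c' := c ^ 2 ^ k with hc'
  have hc'C : c' ∈ Subgroup.centralizer (Y.L : Set H) := pow_mem hc _
  have ho : orderOf c' = 4 := by
    rw [hc', orderOf_pow_of_dvd (by positivity) (hk ▸ pow_dvd_pow 2 (Nat.le_add_right k 2)), hk,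
      Nat.pow_div (Nat.le_add_right k 2) two_pos, show k + 2 - k = 2 by omega]
    norm_num
  have hlc' : (Y.w4 : H) * c' = c' * Y.w4 := Subgroup.mem_centralizer_iff.1 hc'C _ Y.w4.2
  have hne : c' ^ 2 ≠ 1 := fun h => by
    have := orderOf_le_of_pow_eq_one two_pos h
    omega
  have hc2 : c' ^ 2 = Y.z := by
    refine (invol _ ?_ ?_).resolve_left hne
    · rw [← pow_add]
      have h' := pow_orderOf_eq_one c'
      rwa [ho] at h'
    · exact ((show Commute c' (Y.w4 : H) from hlc'.symm).pow_left 2).eq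
  have hprod : c' * Y.w4 = 1 ∨ c' * Y.w4 = Y.z := by
    refine invol _ ?_ ?_
    · rw [show c' * (Y.w4 : H) * (c' * Y.w4) = c' * ((Y.w4 : H) * c') * Y.w4 by group, hlc',
        show c' * (c' * (Y.w4 : H)) * Y.w4 = c' ^ 2 * ((Y.w4 : H) * Y.w4) by rw [pow_two]; group,
        hc2, Y.w4_sq, Y.zz]
    · rw [mul_assoc, ← mul_assoc (Y.w4 : H) c', hlc', mul_assoc]
  have hcL : c' ∈ Y.L := by
    rcases hprod with e | e
    · rw [eq_inv_of_mul_eq_one_left e]; exact inv_mem Y.w4.2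
    · rw [eq_mul_inv_of_mul_eq e]; exact mul_mem Y.z_mem (inv_mem Y.w4.2)
  rcases Y.z_center (l := ⟨c', hcL⟩) (Subgroup.mem_center_iff.2 fun m => Subtype.ext
    (Subgroup.mem_centralizer_iff.1 hc'C _ m.2)) with e | e <;> simp only at e
  · rw [e, one_pow] at hne; exact hne rfl
  · rw [e, pow_two, Y.zz] at hne; exact hne rfl

theorem centralizer_L : Subgroup.centralizer (Y.L : Set H) = Subgroup.zpowers Y.z := by
  classical
  haveI : Fact (Nat.Prime 2) := ⟨Nat.prime_two⟩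
  haveI := Y.normal
  set C := Subgroup.centralizer (Y.L : Set H) with hC
  have hzC : Y.z ∈ C := Subgroup.mem_centralizer_iff.2 fun l _ => Y.z_comm l
  set zC : C := ⟨Y.z, hzC⟩
  haveI hN : (Subgroup.zpowers zC).Normal := ⟨fun v hv g => by
    obtain ⟨n, rfl⟩ := Subgroup.mem_zpowers_iff.1 hv
    rw [((show Commute g zC from Subtype.ext (Y.z_comm g)).zpow_right n).eq, mul_inv_cancel_right]
    exact Subgroup.zpow_mem_zpowers _ _⟩
  have hzo : orderOf zC = 2 := by rw [← Subgroup.orderOf_coe]; exact Y.orderOf_z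
  have hc2 : Nat.card (Subgroup.zpowers zC) = 2 := by rw [Nat.card_zpowers, hzo]
  -- a Sylow 2-subgroup of `C` has order two
  obtain ⟨P⟩ : Nonempty (Sylow 2 C) := inferInstance
  have hP2 : Nat.card P ≤ 2 := by
    refine le_trans (Subgroup.card_le_of_le fun v hv => ?_) hc2.le
    obtain ⟨k, hk⟩ := IsPGroup.iff_orderOf.1 P.isPGroup' ⟨v, hv⟩
    rw [Subgroup.orderOf_mk] at hk
    rcases Y.two_cent_L v.2 ⟨k, by rw [Subgroup.orderOf_coe]; exact hk⟩ with e | e
    · rw [show v = 1 from Subtype.ext e]; exact one_mem _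
    · rw [show v = zC from Subtype.ext e]; exact Subgroup.mem_zpowers _
  have hidx : Odd (Subgroup.zpowers zC).index := by
    rw [Nat.odd_iff, ← Nat.two_dvd_ne_zero]
    intro h4
    have hd : 2 ^ 2 ∣ Nat.card C := by
      rw [← Subgroup.card_mul_index (Subgroup.zpowers zC), hc2, pow_two]
      exact mul_dvd_mul_left 2 h4
    obtain ⟨Q, hQ⟩ := Sylow.exists_subgroup_card_pow_prime 2 hd
    obtain ⟨P', hP'⟩ := (IsPGroup.of_card (n := 2) hQ).exists_le_sylow
    have h1 := Nat.le_of_dvd Nat.card_pos (Subgroup.card_dvd_of_le hP')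
    have h2 : Nat.card P' = Nat.card P := Nat.card_congr (P'.equiv P).toEquiv
    rw [hQ, h2] at h1
    omega
  obtain ⟨K, hK⟩ := Subgroup.exists_right_complement'_of_coprime (N := Subgroup.zpowers zC)
    (by rw [hc2]; exact Nat.coprime_two_left.2 hidx)
  have hKc : Nat.card K = (Subgroup.zpowers zC).index := hK.symm.index_eq_card.symm
  have hKodd : Odd (Nat.card K) := by rwa [hKc]
  -- membership in `K` is having odd order
  have hmem : ∀ c : C, c ∈ K ↔ Odd (orderOf c) := by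
    intro c
    refine ⟨fun hc => hKodd.of_dvd_nat (Subgroup.orderOf_dvd_natCard K hc), fun ho => ?_⟩
    obtain ⟨⟨⟨v, hv⟩, ⟨k, hk⟩⟩, rfl⟩ := hK.2 c
    dsimp only at *
    have hv' : v = 1 ∨ v = zC := by
      obtain ⟨n, rfl⟩ := Subgroup.mem_zpowers_iff.1 hv
      rcases Int.even_or_odd n with ⟨m, rfl⟩ | ⟨m, rfl⟩
      · left; rw [← two_mul, _root_.zpow_mul, zpow_ofNat, ← hzo, pow_orderOf_eq_one, _root_.one_zpow]
      · right; rw [_root_.zpow_add, _root_.zpow_mul, zpow_ofNat, ← hzo, pow_orderOf_eq_one, _root_.one_zpow, one_mul,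
          zpow_one]
    rcases hv' with rfl | rfl
    · rwa [one_mul]
    · exfalso
      have hcomm : Commute zC k := (show k * zC = zC * k from Subtype.ext (Y.z_comm k)).symm
      have hpow := pow_orderOf_eq_one (zC * k)
      rw [hcomm.mul_pow] at hpow
      obtain ⟨m, hm⟩ := ho
      have hz1 : zC ^ orderOf (zC * k) = zC := by
        rw [hm, pow_succ, pow_mul, ← hzo, pow_orderOf_eq_one, one_pow, one_mul]
      rw [hz1] at hpow
      have hzK : zC ∈ K := by
        rw [eq_inv_of_mul_eq_one_left hpow]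
        exact inv_mem (pow_mem hk _)
      have := hKodd.of_dvd_nat (Subgroup.orderOf_dvd_natCard K hzK)
      rw [hzo] at this
      exact absurd this (by decide)
  set N : Subgroup H := K.map C.subtype with hNdef
  have hN' : N.Normal := ⟨fun v hv g => by
    obtain ⟨c, hc, rfl⟩ := hv
    have hcn : g * (c : H) * g⁻¹ ∈ C := (inferInstance : C.Normal).conj_mem _ c.2 g
    refine ⟨⟨_, hcn⟩, (hmem _).2 ?_, rfl⟩
    rw [← Subgroup.orderOf_coe]
    show Odd (orderOf (g * (c : H) * g⁻¹))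
    rw [← MulAut.conj_apply, MulEquiv.orderOf_eq, Subgroup.orderOf_coe]
    exact (hmem c).1 hc⟩
  have hNodd : Odd (Nat.card N) := by
    rwa [hNdef, Subgroup.card_map_of_injective C.subtype_injective]
  have hbot : K = ⊥ := by
    have h := Y.hO N hN' hNodd
    rwa [hNdef, Subgroup.map_eq_bot_iff_of_injective _ C.subtype_injective] at h
  refine le_antisymm (fun c hc => ?_) (Subgroup.zpowers_le.2 hzC)
  obtain ⟨⟨⟨v, hv⟩, ⟨k, hk⟩⟩, he⟩ := hK.2 (⟨c, hc⟩ : C)
  rw [hbot, SetLike.mem_coe, Subgroup.mem_bot] at hk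
  subst hk
  simp only [mul_one] at he
  subst he
  obtain ⟨n, hn⟩ := Subgroup.mem_zpowers_iff.1 hv
  exact ⟨n, congrArg Subtype.val hn⟩

/-- The projective representation of `H`. -/
noncomputable def ρ : H →* Matrix.ProjGenLinGroup (Fin 2) (ZMod p) :=
  haveI := Y.normal
  rho Y.hp Y.e

theorem card_pgl : Nat.card (Matrix.ProjGenLinGroup (Fin 2) (ZMod p)) = p * (p ^ 2 - 1) := by
  rw [ClassicalSL.card_pgl, card_sl]

theorem card_ker : Nat.card Y.ρ.ker = 2 := by
  haveI := Y.normal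
  rw [ρ, rho_ker Y.hp Y.e, Y.centralizer_L, Nat.card_zpowers, Y.orderOf_z]

theorem card_L : Nat.card Y.L = p * (p ^ 2 - 1) := by
  rw [Nat.card_congr Y.e.toEquiv, card_sl]

theorem ρ_surj_and_card :
    Function.Surjective Y.ρ ∧ Nat.card H = 2 * (p * (p ^ 2 - 1)) ∧ Y.L.index = 2 := by
  haveI : Finite (Matrix.ProjGenLinGroup (Fin 2) (ZMod p)) :=
    Finite.of_surjective _ Matrix.ProjGenLinGroup.mk_surjective
  have h1 := Subgroup.card_mul_index Y.ρ.ker
  rw [Y.card_ker, Subgroup.index_ker] at h1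
  have h2 : Nat.card Y.ρ.range ≤ p * (p ^ 2 - 1) :=
    card_pgl (p := p) ▸ Subgroup.card_le_card_group _
  have h3 := Subgroup.card_mul_index Y.L
  rw [Y.card_L] at h3
  have hpos : 0 < p * (p ^ 2 - 1) := Y.card_L ▸ Nat.card_pos
  have h4 : 2 ≤ Y.L.index := by
    have h0 := Subgroup.index_ne_zero_of_finite (H := Y.L)
    have h1' : Y.L.index ≠ 1 := fun h => Y.u_not (by
      rw [Subgroup.index_eq_one] at h; rw [h]; trivial)
    omega
  have h5 : p * (p ^ 2 - 1) * Y.L.index ≤ p * (p ^ 2 - 1) * 2 := by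
    rw [h3, ← h1]; omega
  have h6 : Y.L.index = 2 := by
    have := Nat.le_of_mul_le_mul_left h5 hpos
    omega
  rw [h6] at h3
  refine ⟨?_, by omega, h6⟩
  rw [← MonoidHom.range_eq_top]
  refine Subgroup.eq_top_of_card_eq _ ?_
  rw [card_pgl]
  omega

theorem ρ_surj : Function.Surjective Y.ρ := Y.ρ_surj_and_card.1

include Y in
theorem card_H : Nat.card H = 2 * (p * (p ^ 2 - 1)) := Y.ρ_surj_and_card.2.1

theorem L_index : Y.L.index = 2 := Y.ρ_surj_and_card.2.2

theorem ρ_eq_one {g : H} : Y.ρ g = 1 ↔ g = 1 ∨ g = Y.z := by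
  haveI := Y.normal
  rw [← MonoidHom.mem_ker, ρ, rho_ker Y.hp Y.e, Y.centralizer_L]
  constructor
  · intro h
    obtain ⟨n, rfl⟩ := Subgroup.mem_zpowers_iff.1 h
    have hz2 : Y.z ^ (2 : ℤ) = 1 := by rw [zpow_ofNat, pow_two, Y.zz]
    rcases Int.even_or_odd n with ⟨m, rfl⟩ | ⟨m, rfl⟩
    · left; rw [← two_mul, _root_.zpow_mul, hz2, _root_.one_zpow]
    · right; rw [_root_.zpow_add, _root_.zpow_mul, hz2, _root_.one_zpow, one_mul, zpow_one]
  · rintro (rfl | rfl)
    · exact one_mem _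
    · exact Subgroup.mem_zpowers _

/-- The elements centralising a non-scalar matrix. -/
noncomputable def cen (M : Matrix (Fin 2) (Fin 2) (ZMod p)) : Subgroup H := (projOf M).comap Y.ρ

theorem cen_comm {M : Matrix (Fin 2) (Fin 2) (ZMod p)} (hM : ¬ IsScalar M) {g h : H}
    (hg : g ∈ Y.cen M) (hh : h ∈ Y.cen M) : g * h = h * g := by
  haveI := isCyclic_projOf hM (two_ne Y.hp)
  let f : Y.cen M →* projOf M := (Y.ρ.comp (Y.cen M).subtype).codRestrict _ fun v => v.2
  have hf : f.ker ≤ Subgroup.center (Y.cen M) := by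
    intro v hv
    have hv1 : Y.ρ (v : H) = 1 := congrArg Subtype.val hv
    refine Subgroup.mem_center_iff.2 fun m => Subtype.ext ?_
    rcases Y.ρ_eq_one.1 hv1 with e | e
    · show (m : H) * v = v * m; rw [e, mul_one, one_mul]
    · show (m : H) * v = v * m; rw [e]; exact Y.z_comm _
  exact congrArg Subtype.val (commutative_of_cyclic_center_quotient f hf ⟨g, hg⟩ ⟨h, hh⟩)

theorem card_cen {M : Matrix (Fin 2) (Fin 2) (ZMod p)} (hM : ¬ IsScalar M) :
    Nat.card (Y.cen M) = 2 * (p - 1) ∨ Nat.card (Y.cen M) = 2 * p ∨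
      Nat.card (Y.cen M) = 2 * (p + 1) := by
  let f : Y.cen M →* projOf M := (Y.ρ.comp (Y.cen M).subtype).codRestrict _ fun v => v.2
  have hf : Function.Surjective f := fun P => by
    obtain ⟨g, hg⟩ := Y.ρ_surj P.1
    exact ⟨⟨g, show Y.ρ g ∈ projOf M by rw [hg]; exact P.2⟩, Subtype.ext hg⟩
  have hk : Nat.card f.ker = 2 := by
    refine (Nat.card_congr ({
        toFun := fun v => ⟨(v.1 : H), congrArg Subtype.val v.2⟩
        invFun := fun v => ⟨⟨v.1, show Y.ρ v.1 ∈ projOf M by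
          rw [MonoidHom.mem_ker.1 v.2]; exact one_mem _⟩, Subtype.ext v.2⟩
        left_inv := fun v => rfl
        right_inv := fun v => rfl } : f.ker ≃ Y.ρ.ker)).trans Y.card_ker
  have h1 := Subgroup.card_mul_index f.ker
  rw [hk, Subgroup.index_ker, MonoidHom.range_eq_top.2 hf, Subgroup.card_top] at h1
  rcases card_cases hM with e | e | e <;> rw [e] at h1 <;> omega

/-- The centraliser of a non-central element of `L`. -/
theorem cent_L {l : Y.L} (h1 : (l : H) ≠ 1) (hz : (l : H) ≠ Y.z) :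
    ¬ IsScalar (Y.e l).1 ∧ ∀ g : H, g * l = l * g ↔ g ∈ Y.cen (Y.e l).1 := by
  haveI := Y.normal
  refine ⟨not_isScalar Y.e fun hc => (Y.z_center hc).elim h1 hz, fun g => ?_⟩
  rw [rho_comm_iff Y.hp Y.e g l]
  constructor
  · rintro ⟨A, hA, hA'⟩
    exact ⟨A, hA', hA.symm⟩
  · rintro ⟨A, hA', hA⟩
    exact ⟨A, hA.symm, hA'⟩

end Hyp

end Cfsg.Agent.SDPack
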