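import Cfsg.Agent.Lib.SDPack.FamH

/-!
Sums over pairs of conjugates of an involution: general reductions and the value on `H`.
-/

set_option autoImplicit false
set_option linter.style.haveILetI false
set_option linter.unusedSectionVars false
set_option linter.unusedFintypeInType false

namespace Cfsg.Agent.SDPack

open Cfsg Cfsg.Agent.Char Finset
open scoped ComplexConjugate Classical

universe u

section general

variable {G : Type u} [Group G] [Fintype G]

/-- Sums of an induced function over products of a pair from an invariant set. -/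
theorem sum_pairs_ind (A : Subgroup G) (θ : A → ℂ) (I : Finset G)
    (hI : ∀ g a, g * a * g⁻¹ ∈ I ↔ a ∈ I) :
    ∑ a ∈ I, ∑ b ∈ I, indFun A θ (a * b) =
      (A.index : ℂ) * ∑ a ∈ I, ∑ b ∈ I, extendByZero A θ (a * b) := by
  have hy : ∀ y : G, ∑ a ∈ I, ∑ b ∈ I, extendByZero A θ (y⁻¹ * (a * b) * y) =
      ∑ a ∈ I, ∑ b ∈ I, extendByZero A θ (a * b) := by
    intro y
    have hmem : ∀ a, (MulAut.conj y⁻¹).toEquiv a ∈ I ↔ a ∈ I := fun a => hI y⁻¹ a
    refine sum_equiv (MulAut.conj y⁻¹).toEquiv (fun a => (hmem a).symm) fun a _ => ?_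
    refine sum_equiv (MulAut.conj y⁻¹).toEquiv (fun b => (hmem b).symm) fun b _ => ?_
    congr 1
    simp only [MulEquiv.toEquiv_eq_coe, MulEquiv.coe_toEquiv, MulAut.conj_apply, inv_inv]
    group
  have h1 : ∑ a ∈ I, ∑ b ∈ I, indFun A θ (a * b) = (Nat.card A : ℂ)⁻¹ *
      ∑ y : G, ∑ a ∈ I, ∑ b ∈ I, extendByZero A θ (y⁻¹ * (a * b) * y) := by
    conv_rhs => rw [sum_comm]
    simp only [indFun_apply, mul_sum]
    refine sum_congr rfl fun a _ => ?_
    rw [sum_comm]
  rw [h1, sum_congr rfl fun y _ => hy y, sum_const, card_univ, nsmul_eq_mul,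
    ← Nat.card_eq_fintype_card, ← Subgroup.card_mul_index A, Nat.cast_mul, ← mul_assoc, ← mul_assoc,
    inv_mul_cancel₀ (Nat.cast_ne_zero.2 Nat.card_pos.ne'), one_mul]

end general

namespace Model

variable {H : Type u} [Group H] [Fintype H] {p : ℕ} (D : Model H p)

/-- The class of `u`. -/
noncomputable def J : Finset H := classFinset D.u

theorem mem_J {a : H} : a ∈ D.J ↔ a * a = 1 ∧ a ≠ 1 ∧ a ≠ D.z := by
  rw [J, mem_classFinset]
  constructor
  · intro h
    obtain ⟨g, hg⟩ := isConj_iff.1 h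
    subst hg
    refine ⟨by rw [show g * D.u * g⁻¹ * (g * D.u * g⁻¹) = g * (D.u * D.u) * g⁻¹ by group, D.uu]; group,
      fun e => D.u_ne.1 ?_, fun e => D.u_ne.2 ?_⟩
    · calc D.u = g⁻¹ * (g * D.u * g⁻¹) * g := by group
        _ = 1 := by rw [e]; group
    · calc D.u = g⁻¹ * (g * D.u * g⁻¹) * g := by group
        _ = g⁻¹ * D.z * g := by rw [e]
        _ = D.z := D.z_conj g
  · rintro ⟨h1, h2, h3⟩
    exact D.J_conj a h1 h2 h3

theorem J_not_L {a : H} (ha : a ∈ D.J) : a ∉ D.L := fun h => by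
  obtain ⟨h1, h2, h3⟩ := D.mem_J.1 ha
  rcases D.L_invol a h h1 with e | e
  exacts [h2 e, h3 e]

theorem card_J : D.J.card = p * D.cp := by
  rw [J, card_classFinset]
  exact D.index_T1

theorem J_conj_mem (g a : H) : g * a * g⁻¹ ∈ D.J ↔ a ∈ D.J := by
  rw [J, mem_classFinset, mem_classFinset]
  exact ⟨fun h => h.trans (isConj_iff.2 ⟨g, rfl⟩).symm, fun h => h.trans (isConj_iff.2 ⟨g, rfl⟩)⟩

theorem sum_kf_h : ∑ t : D.T, D.kf (D.h : ℤ) t = 0 := by
  have h4 := D.h_four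
  have h := D.kf_inner' (m := (D.h : ℤ)) (n := 0) (by omega) (by omega)
  rw [if_neg (by omega)] at h
  unfold classInner at h
  rw [mul_eq_zero] at h
  rcases h with h | h
  · exact absurd h (inv_ne_zero (Nat.cast_ne_zero.2 Nat.card_pos.ne'))
  · refine Eq.trans (sum_congr rfl fun t _ => ?_) h
    simp [kf]

theorem card_T_L : ((univ.filter fun s : D.T => (s : H) ∈ D.L).card : ℂ) = D.cp := by
  have h : ∑ t : D.T, (1 + D.kf (D.h : ℤ) t) =
      2 * ((univ.filter fun s : D.T => (s : H) ∈ D.L).card : ℂ) := by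
    rw [card_filter, Nat.cast_sum, mul_sum]
    refine sum_congr rfl fun t _ => ?_
    rw [D.kf_h]
    by_cases hL : (t : H) ∈ D.L
    · rw [if_pos hL, D.ε_pos hL]; norm_num
    · rw [if_neg hL, D.ε_neg hL]; norm_num
  rw [sum_add_distrib, D.sum_kf_h, sum_const, card_univ, ← Nat.card_eq_fintype_card, D.card_T,
    add_zero, nsmul_eq_mul, mul_one] at h
  have h2 : ((2 * D.cp : ℕ) : ℂ) = 2 * ((univ.filter fun s : D.T => (s : H) ∈ D.L).card : ℂ) := h
  push_cast at h2
  linear_combination -(1/2 : ℂ) * h2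

theorem pair_count (t : D.T) (h1 : t ≠ 1) (h2 : t ≠ ⟨D.z, D.z_T⟩) :
    ((D.J.filter fun a => a * (t : H) ∈ D.J).card : ℂ) =
      (D.cp : ℂ) * ((1 + D.kf (D.h : ℤ) t) / 2) := by
  have hs := D.ne_of_coe D.z_T h1 h2
  by_cases hL : (t : H) ∈ D.L
  · rw [D.kf_h, D.ε_pos hL, Units.val_one, show ((1 : ℂ) + 1) / 2 = 1 by norm_num, mul_one,
      ← D.card_T_L, Nat.cast_inj]
    symm
    refine card_bij (fun (s : D.T) _ => D.u * (s : H)) (fun s hs' => ?_) (fun s _ r _ h => ?_)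
      (fun a ha => ?_)
    · have hsL := (mem_filter.1 hs').2
      have hkey : ∀ v : H, v ∈ D.T → v ∈ D.L → D.u * v ∈ D.J := by
        intro v hv hvL
        refine D.mem_J.2 ⟨?_, fun e => D.u_not ?_, fun e => D.u_not ?_⟩
        · have := D.T_inv v hvL (D.mem_T.1 hv)
          calc D.u * v * (D.u * v) = (D.u * v * D.u⁻¹) * (D.u * D.u) * v := by group
            _ = 1 := by rw [this, D.uu, mul_one, inv_mul_cancel]
        · exact (Subgroup.mul_mem_cancel_right _ hvL).1 (e ▸ one_mem _)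
        · exact (Subgroup.mul_mem_cancel_right _ hvL).1 (e ▸ D.z_mem)
      refine mem_filter.2 ⟨hkey _ s.2 hsL, ?_⟩
      rw [mul_assoc]
      exact hkey _ (mul_mem s.2 t.2) (mul_mem hsL hL)
    · exact Subtype.ext (mul_left_cancel h)
    · obtain ⟨haJ, hatJ⟩ := mem_filter.1 ha
      have ha1 := (D.mem_J.1 haJ).1
      have hat := (D.mem_J.1 hatJ).1
      have hainv : a⁻¹ = a := inv_eq_of_mul_eq_one_right ha1
      have hconj : a * (t : H) * a⁻¹ = (t : H)⁻¹ := by
        rw [hainv, eq_inv_iff_mul_eq_one]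
        rw [← hat]
        group
      have hT : a * (t : H) * a⁻¹ * D.a = D.a * (a * (t : H) * a⁻¹) :=
        D.mem_T.1 (hconj ▸ inv_mem t.2)
      rcases D.T_norm a t (D.mem_T.1 t.2) hs.1 hs.2 hT with h | h
      · rcases D.T_sq (D.mem_T.2 h) ha1 with e | e
        · exact absurd e (D.mem_J.1 haJ).2.1
        · exact absurd e (D.mem_J.1 haJ).2.2
      · refine ⟨⟨D.u⁻¹ * a, D.mem_T.2 h⟩, mem_filter.2 ⟨mem_univ _, ?_⟩, mul_inv_cancel_left _ _⟩
        show D.u⁻¹ * a ∈ D.L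
        rw [Subgroup.mul_mem_iff_of_index_two D.L_index, inv_mem_iff]
        exact iff_of_false D.u_not (D.J_not_L haJ)
  · rw [D.kf_h, D.ε_neg hL, show ((1 : ℂ) + ((-1 : ℂˣ) : ℂ)) / 2 = 0 by norm_num, mul_zero,
      Nat.cast_eq_zero, card_eq_zero, filter_eq_empty_iff]
    intro a ha hat
    have h := D.J_not_L hat
    rw [Subgroup.mul_mem_iff_of_index_two D.L_index] at h
    exact h (iff_of_false (D.J_not_L ha) hL)

/-- The sum over pairs from `J` of a function induced from `T`. -/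
theorem sum_J_IT (e : ℤ) (he : 2 ∣ e) :
    ∑ a ∈ D.J, ∑ b ∈ D.J, D.IT 0 e (a * b) =
      (p : ℂ) * D.cm * ((D.cp : ℂ) * D.cp) * classInner (D.dT 0 e) (D.kf 0 + D.kf (D.h : ℤ)) := by
  rw [IT, sum_pairs_ind _ _ _ D.J_conj_mem, D.index_T]
  have hinner : ∀ a ∈ D.J, ∑ b ∈ D.J, extendByZero D.T (D.dT 0 e) (a * b) =
      ∑ t : D.T, D.dT 0 e t * (if a * (t : H) ∈ D.J then 1 else 0) := by
    intro a ha
    rw [← sum_mul_extendByZero D.T (D.dT 0 e) (fun v => if a * v ∈ D.J then 1 else 0)]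
    have ha1 := (D.mem_J.1 ha).1
    have hh : ∀ v, a * (a * v) = v := fun v => by rw [← mul_assoc, ha1, one_mul]
    simp only [mul_ite, mul_one, mul_zero]
    rw [← sum_filter]
    refine sum_bij' (fun b _ => a * b) (fun v _ => a * v) (fun b hb => ?_) (fun v hv => ?_)
      (fun b _ => hh b) (fun v _ => hh v) (fun b _ => rfl)
    · exact mem_filter.2 ⟨mem_univ _, by rw [hh]; exact hb⟩
    · exact (mem_filter.1 hv).2
  rw [sum_congr rfl hinner, sum_comm]
  have hterm : ∀ t : D.T, ∑ a ∈ D.J, D.dT 0 e t * (if a * (t : H) ∈ D.J then 1 else 0) =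
      (D.cp : ℂ) / 2 * (D.dT 0 e t * conj ((D.kf 0 + D.kf (D.h : ℤ)) t)) := by
    intro t
    rw [← mul_sum, sum_boole]
    by_cases h1 : t = 1
    · rw [h1, D.dT_one]; ring
    by_cases h2 : t = ⟨D.z, D.z_T⟩
    · rw [h2, D.dT_even (dvd_zero 2) he]; ring
    rw [D.pair_count t h1 h2, Pi.add_apply, map_add]
    have e0 : D.kf 0 t = 1 := by simp [kf]
    have eh : conj (D.kf (D.h : ℤ) t) = D.kf (D.h : ℤ) t := by
      rw [D.kf_h]
      rcases D.εf_val (g := (t : H)) with ⟨-, e'⟩ | ⟨-, e'⟩ <;> unfold εf at e' <;> rw [e'] <;> simp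
    rw [e0, eh, map_one]
    ring
  rw [sum_congr rfl fun t _ => hterm t, ← mul_sum]
  unfold classInner
  rw [D.card_T]
  have hc : (D.cp : ℂ) ≠ 0 := Nat.cast_ne_zero.2 D.cp_pos.ne'
  show _ = _ * (((2 * D.cp : ℕ) : ℂ)⁻¹ * _)
  push_cast
  field_simp

theorem sum_J_γ (i : Fin (D.hN - 1)) : ∑ a ∈ D.J, ∑ b ∈ D.J, D.γH i (a * b) =
    (p : ℂ) * D.cm * ((D.cp : ℂ) * D.cp) := by
  have hi := D.eγ_bd i
  have := D.h_four
  rw [γH, D.sum_J_IT _ hi.2.2, dT]
  simp only [classInner_sub_left, classInner_add_right]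
  rw [D.kf_inner' (m := 0) (n := 0) (by omega) (by omega),
    D.kf_inner' (m := 0) (n := (D.h : ℤ)) (by omega) (by omega),
    D.kf_inner' (m := D.eγ i) (n := 0) (by omega) (by omega),
    D.kf_inner' (m := D.eγ i) (n := (D.h : ℤ)) (by omega) (by omega), if_pos rfl,
    if_neg (show (0 : ℤ) ≠ (D.h : ℤ) by omega), if_neg (show D.eγ i ≠ 0 by omega),
    if_neg (show D.eγ i ≠ (D.h : ℤ) by omega)]
  ring

theorem sum_J_φ : ∑ a ∈ D.J, ∑ b ∈ D.J, D.φH (a * b) = 0 := by
  have := D.h_four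
  rw [φH, D.sum_J_IT _ D.h_int_even, dT]
  simp only [classInner_sub_left, classInner_add_right]
  rw [D.kf_inner' (m := 0) (n := 0) (by omega) (by omega),
    D.kf_inner' (m := 0) (n := (D.h : ℤ)) (by omega) (by omega),
    D.kf_inner' (m := (D.h : ℤ)) (n := 0) (by omega) (by omega),
    D.kf_inner' (m := (D.h : ℤ)) (n := (D.h : ℤ)) (by omega) (by omega), if_pos rfl,
    if_neg (show (0 : ℤ) ≠ (D.h : ℤ) by omega), if_neg (show (D.h : ℤ) ≠ 0 by omega), if_pos rfl]
  ring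

end Model

end Cfsg.Agent.SDPack
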