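import Cfsg.Agent.Lib.SDPack.Count
import Cfsg.Agent.Lib.SDPack.OrderH
import Cfsg.Agent.Lib.Blocks.DihedralCount

/-!
The order formula.
-/

set_option autoImplicit false
set_option linter.style.haveILetI false
set_option linter.unusedSectionVars false
set_option linter.unusedFintypeInType false

namespace Cfsg.Agent.SDPack

open Cfsg Cfsg.Agent.Char Cfsg.Agent.Blocks Finset
open scoped Classical

universe u

section general

variable {G : Type u} [Group G] [Fintype G]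

/-- The sum of an irreducible character over products of pairs from a class. -/
theorem sum_class_pairs (χ : IrrCharacter G) (z : G) :
    ∑ a ∈ classFinset z, ∑ b ∈ classFinset z, (χ : G → ℂ) (a * b) =
      ((classFinset z).card : ℂ) ^ 2 * ((χ : G → ℂ) z ^ 2 / (χ : G → ℂ) 1) := by
  have hx : IsClassElt (classSum ℂ z) := isClassElt_classSum _
  have hsum' : classSum ℂ z = ∑ a ∈ classFinset z, MonoidAlgebra.single a (1 : ℂ) := by
    refine gaExt fun y => ?_
    rw [coeff_classSum, MonoidAlgebra.coeff_sum, Finset.sum_apply']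
    simp only [MonoidAlgebra.coeff_single, Finsupp.single_apply, Finset.sum_ite_eq',
      mem_classFinset]
  have hom : ∀ g : G, omega χ (MonoidAlgebra.single g (1 : ℂ)) = (χ : G → ℂ) g / (χ : G → ℂ) 1 := by
    intro g
    simp [omega, Finsupp.single_apply]
  have h2' := omega_mul χ hx hx
  rw [omega_classSum, centralChar, ← card_classFinset] at h2'
  rw [hsum', Finset.sum_mul, omega_sum] at h2'
  simp only [Finset.mul_sum, omega_sum, MonoidAlgebra.single_mul_single, mul_one, hom,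
    ← Finset.sum_div] at h2'
  rw [div_eq_iff (irr_one_ne_zero χ)] at h2'
  rw [h2']
  field_simp [irr_one_ne_zero χ]

theorem signed_sq {s d v : ℤ} {S D : ℤ} (hs : s * s = 1) (hd : s * d = D) (hv : s * v = S)
    (hd0 : d ≠ 0) : (s : ℂ) * ((v : ℂ) ^ 2 / (d : ℂ)) = (S : ℂ) ^ 2 / (D : ℂ) := by
  subst hd hv
  have hd' : (d : ℂ) ≠ 0 := Int.cast_ne_zero.2 hd0
  rcases Int.mul_eq_one_iff_eq_one_or_neg_one.1 hs with ⟨h, -⟩ | ⟨h, -⟩ <;> subst h <;>
    push_cast <;> field_simp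

end general

namespace Ctx

variable {G : Type u} [Group G] [Fintype G] (K : Ctx G)

/-- The involutions of the centraliser other than `z`. -/
noncomputable def W : Finset K.C := univ.filter fun c => c * c = 1 ∧ c ≠ 1 ∧ c ≠ K.zC

theorem mem_W {c : K.C} : c ∈ K.W ↔ c * c = 1 ∧ c ≠ 1 ∧ c ≠ K.zC := by simp [W]

theorem mem_I {g : G} : g ∈ classFinset K.z ↔ g * g = 1 ∧ g ≠ 1 := by
  rw [mem_classFinset]
  constructor
  · intro h
    obtain ⟨c, rfl⟩ := isConj_iff.1 h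
    have hz := pow_orderOf_eq_one K.z
    rw [K.hz2, pow_two] at hz
    refine ⟨by rw [show c * K.z * c⁻¹ * (c * K.z * c⁻¹) = c * (K.z * K.z) * c⁻¹ by group, hz]; group,
      fun e => ?_⟩
    have : K.z = 1 := by
      calc K.z = c⁻¹ * (c * K.z * c⁻¹) * c := by group
        _ = 1 := by rw [e]; group
    have h2 := K.hz2
    rw [this, orderOf_one] at h2
    omega
  · rintro ⟨h1, h2⟩
    exact K.oneClass g (orderOf_eq_prime (by rw [pow_two]; exact h1) h2)

theorem I_conj (g a : G) : g * a * g⁻¹ ∈ classFinset K.z ↔ a ∈ classFinset K.z := by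
  rw [mem_classFinset, mem_classFinset]
  exact ⟨fun h => h.trans (isConj_iff.2 ⟨g, rfl⟩).symm, fun h => h.trans (isConj_iff.2 ⟨g, rfl⟩)⟩

theorem pair_support {f : K.C → ℂ} (hoff : ∀ c, K.zC ∉ Subgroup.zpowers c → f c = 0) {a b : G}
    (ha : a ∈ classFinset K.z) (hb : b ∈ classFinset K.z)
    (h : extendByZero K.C f (a * b) ≠ 0) :
    (a ∈ K.C ∧ a ≠ K.z) ∧ b ∈ K.C ∧ b ≠ K.z := by
  obtain ⟨ha1, ha2⟩ := K.mem_I.1 ha
  obtain ⟨hb1, hb2⟩ := K.mem_I.1 hb
  have hm : a * b ∈ K.C := by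
    by_contra hm
    exact h (extendByZero_not_mem K.C f hm)
  rw [extendByZero_mem K.C f hm] at h
  have hz : K.zC ∈ Subgroup.zpowers (⟨a * b, hm⟩ : K.C) := by
    by_contra hz
    exact h (hoff _ hz)
  obtain ⟨i, hi⟩ := hz
  have hi' : (a * b) ^ i = K.z := congrArg Subtype.val hi
  have hainv : a⁻¹ = a := inv_eq_of_mul_eq_one_right ha1
  have hbinv : b⁻¹ = b := inv_eq_of_mul_eq_one_right hb1
  have hz2 := pow_orderOf_eq_one K.z
  rw [K.hz2, pow_two] at hz2
  have haC : a ∈ K.C := by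
    refine Subgroup.mem_centralizer_singleton_iff.2 ?_
    have e : a * (a * b) * a⁻¹ = (a * b)⁻¹ := by
      rw [_root_.mul_inv_rev, hainv, hbinv, ← mul_assoc a a b, ha1, one_mul]
    have e2 : a * (a * b) ^ i * a⁻¹ = ((a * b) ^ i)⁻¹ := by rw [← conj_zpow, e, inv_zpow]
    rw [hi', inv_eq_of_mul_eq_one_right hz2] at e2
    calc a * K.z = a * K.z * a⁻¹ * a := by group
      _ = K.z * a := by rw [e2]
  have hbC : b ∈ K.C := by
    have := mul_mem (inv_mem haC) hm
    rwa [inv_mul_cancel_left] at this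
  have bad : ∀ v : G, v * v = 1 → v ≠ 1 → K.z * v = v * K.z →
      K.z ∉ Subgroup.zpowers (K.z * v) := by
    intro v h1 h2 hc hmem
    obtain ⟨j, hj⟩ := hmem
    have hsq : (K.z * v) * (K.z * v) = 1 := by
      calc (K.z * v) * (K.z * v) = K.z * (v * K.z) * v := by group
        _ = (K.z * K.z) * (v * v) := by rw [← hc]; group
        _ = 1 := by rw [hz2, h1, mul_one]
    have hz1 : K.z ≠ 1 := fun e => by
      have h3 := K.hz2
      rw [e, orderOf_one] at h3
      omega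
    rcases Int.even_or_odd' j with ⟨d, rfl | rfl⟩
    · simp only [_root_.zpow_mul, zpow_two, hsq, _root_.one_zpow] at hj
      exact hz1 hj.symm
    · simp only [_root_.zpow_add, zpow_one, _root_.zpow_mul, zpow_two, hsq, _root_.one_zpow,
        one_mul] at hj
      exact h2 (mul_eq_left.1 hj)
  refine ⟨⟨haC, fun e => ?_⟩, hbC, fun e => ?_⟩
  · subst e
    exact bad b hb1 hb2 (Subgroup.mem_centralizer_singleton_iff.1 hbC).symm ⟨i, hi'⟩
  · subst e
    have hc := Subgroup.mem_centralizer_singleton_iff.1 haC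
    exact bad a ha1 ha2 hc.symm ⟨i, show (K.z * a) ^ i = K.z by rw [← hc]; exact hi'⟩

theorem sum_I_ind {f : K.C → ℂ} (hoff : ∀ c, K.zC ∉ Subgroup.zpowers c → f c = 0) :
    ∑ a ∈ classFinset K.z, ∑ b ∈ classFinset K.z, indFun K.C f (a * b) =
      (K.C.index : ℂ) * ∑ a ∈ K.W, ∑ b ∈ K.W, f (a * b) := by
  rw [sum_pairs_ind _ _ _ K.I_conj]
  congr 1
  have hsub : ∀ c ∈ K.W, (c : G) ∈ classFinset K.z := fun c hc => by
    obtain ⟨h1, h2, -⟩ := K.mem_W.1 hc
    exact K.mem_I.2 ⟨congrArg Subtype.val h1, fun e => h2 (Subtype.ext e)⟩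
  rw [← sum_product', ← sum_product']
  symm
  refine sum_bij_ne_zero (fun q _ _ => ((q.1 : G), (q.2 : G))) (fun q hq _ => ?_)
    (fun q _ _ r _ _ h => ?_) (fun q hq hne => ?_) (fun q _ _ => ?_)
  · obtain ⟨h1, h2⟩ := mem_product.1 hq
    exact mem_product.2 ⟨hsub _ h1, hsub _ h2⟩
  · simp only [Prod.mk.injEq] at h
    exact Prod.ext (Subtype.ext h.1) (Subtype.ext h.2)
  · obtain ⟨h1, h2⟩ := mem_product.1 hq
    obtain ⟨⟨haC, haz⟩, hbC, hbz⟩ := K.pair_support hoff h1 h2 hne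
    obtain ⟨ha1, ha2⟩ := K.mem_I.1 h1
    obtain ⟨hb1, hb2⟩ := K.mem_I.1 h2
    refine ⟨(⟨q.1, haC⟩, ⟨q.2, hbC⟩), mem_product.2 ⟨?_, ?_⟩, ?_, rfl⟩
    · exact K.mem_W.2 ⟨Subtype.ext ha1, fun e => ha2 (congrArg Subtype.val e),
        fun e => haz (congrArg Subtype.val e)⟩
    · exact K.mem_W.2 ⟨Subtype.ext hb1, fun e => hb2 (congrArg Subtype.val e),
        fun e => hbz (congrArg Subtype.val e)⟩
    · rw [extendByZero_mem K.C f (mul_mem haC hbC)] at hne
      exact hne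
  · exact (extendByZero_coe K.C f (q.1 * q.2)).symm

theorem π_W {a : K.C} (ha : a ∈ K.W) : K.π a ∈ K.D.J := by
  obtain ⟨h1, h2, h3⟩ := K.mem_W.1 ha
  have key : ∀ v : K.C, v * v = 1 → K.π v = 1 → v = 1 := by
    intro v hv e
    rcases (Nat.dvd_prime Nat.prime_two).1
      (orderOf_dvd_of_pow_eq_one (show v ^ 2 = 1 by rw [pow_two, hv])) with h | h
    · exact orderOf_eq_one_iff.1 h
    · exfalso
      have hd : orderOf (⟨v, MonoidHom.mem_ker.2 e⟩ : K.π.ker) ∣ Nat.card K.π.ker :=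
        orderOf_dvd_natCard _
      rw [← Subgroup.orderOf_coe] at hd
      exact K.ker_not_dvd (dvd_trans (dvd_of_eq h.symm) hd)
  refine K.D.mem_J.2 ⟨by rw [← map_mul, h1, map_one], fun e => h2 (key a h1 e), fun e => h3 ?_⟩
  have hz : K.zC * K.zC = 1 := by
    have h := pow_orderOf_eq_one K.zC
    rwa [K.zC_order, pow_two] at h
  have h4 := key (a * K.zC) (by
    calc a * K.zC * (a * K.zC) = a * (K.zC * a) * K.zC := by group
      _ = (a * a) * (K.zC * K.zC) := by rw [← K.zC_comm]; group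
      _ = 1 := by rw [h1, hz, one_mul]) (by rw [map_mul, e, K.π_z, K.D.zz])
  exact mul_right_cancel (b := K.zC) (h4.trans hz.symm)

theorem W_conj {a : K.C} (c : K.C) (ha : a ∈ K.W) : c * a * c⁻¹ ∈ K.W := by
  obtain ⟨h1, h2, h3⟩ := K.mem_W.1 ha
  refine K.mem_W.2 ⟨?_, fun e => h2 ?_, fun e => h3 ?_⟩
  · rw [show c * a * c⁻¹ * (c * a * c⁻¹) = c * (a * a) * c⁻¹ by group, h1]; group
  · calc a = c⁻¹ * (c * a * c⁻¹) * c := by group
      _ = 1 := by rw [e]; group
  · calc a = c⁻¹ * (c * a * c⁻¹) * c := by group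
      _ = K.zC := by rw [e, mul_assoc, ← K.zC_comm, inv_mul_cancel_left]

/-- The number of involutions over a conjugate of `u`. -/
noncomputable def m : ℕ := (K.W.filter fun a => K.π a = K.D.u).card

theorem fibre {j : CQ K.z} (hj : j ∈ K.D.J) : (K.W.filter fun a => K.π a = j).card = K.m := by
  obtain ⟨g, hg⟩ := isConj_iff.1 (mem_classFinset.1 hj)
  obtain ⟨c, hc⟩ := K.π_surj g
  subst hg
  refine (card_bij' (fun a _ => c * a * c⁻¹) (fun a _ => c⁻¹ * a * c) (fun a ha => ?_) (fun a ha => ?_)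
    (fun a _ => by group) (fun a _ => by group)).symm
  · obtain ⟨h1, h2⟩ := mem_filter.1 ha
    exact mem_filter.2 ⟨K.W_conj c h1, by rw [map_mul, map_mul, map_inv, hc, h2]⟩
  · obtain ⟨h1, h2⟩ := mem_filter.1 ha
    refine mem_filter.2 ⟨?_, by rw [map_mul, map_mul, map_inv, hc, h2]; group⟩
    have := K.W_conj c⁻¹ h1
    rwa [inv_inv] at this

theorem sum_W (g : CQ K.z → ℂ) : ∑ a ∈ K.W, g (K.π a) = (K.m : ℂ) * ∑ j ∈ K.D.J, g j := by
  rw [← sum_fiberwise_of_maps_to (g := fun a => K.π a) (t := K.D.J) (fun a ha => K.π_W ha), mul_sum]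
  refine sum_congr rfl fun j hj => ?_
  rw [sum_congr rfl (g := fun _ => g j) (fun a ha => by rw [(mem_filter.1 ha).2]), sum_const,
    nsmul_eq_mul, K.fibre hj]

theorem sum_W_pairs (g : CQ K.z → ℂ) : ∑ a ∈ K.W, ∑ b ∈ K.W, g (K.π (a * b)) =
    (K.m : ℂ) ^ 2 * ∑ i ∈ K.D.J, ∑ j ∈ K.D.J, g (i * j) := by
  simp only [map_mul]
  rw [sum_congr rfl fun a _ => K.sum_W fun v => g (K.π a * v), ← mul_sum,
    K.sum_W fun v => ∑ j ∈ K.D.J, g (v * j)]
  ring

theorem exists_lift : ∃ a : K.C, a * a = 1 ∧ K.π a = K.D.u := by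
  obtain ⟨g, hg⟩ := K.π_surj K.D.u
  have hg2 : g * g ∈ K.O := by
    rw [← K.ker_π, MonoidHom.mem_ker, map_mul, hg, K.D.uu]
  refine ⟨g ^ Nat.card K.O, ?_, ?_⟩
  · have h := congrArg Subtype.val (pow_card_eq_one' (x := (⟨g * g, hg2⟩ : K.O)))
    simp only [Subgroup.coe_pow, Subgroup.coe_one] at h
    rw [← pow_add, ← two_mul, pow_mul, pow_two]
    exact h
  · obtain ⟨k, hk⟩ := K.O_odd
    rw [hk, map_pow, hg, pow_succ, pow_mul, pow_two, K.D.uu, one_pow, one_mul]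

theorem fibre_orbit {u0 : K.C} (h0 : u0 * u0 = 1) (hu : K.π u0 = K.D.u) :
    (K.W.filter fun a => K.π a = K.D.u) =
      univ.image (fun k : K.O => (k : K.C) * u0 * (k : K.C)⁻¹) := by
  have hu0 : u0 ∈ K.W := K.mem_W.2 ⟨h0, fun e => K.D.u_ne.1 (by rw [← hu, e, map_one]),
    fun e => K.D.u_ne.2 (by rw [← hu, e, K.π_z])⟩
  have hinv : u0⁻¹ = u0 := inv_eq_of_mul_eq_one_right h0
  ext a
  constructor
  · intro ha
    obtain ⟨haW, hau⟩ := mem_filter.1 ha
    obtain ⟨ha1, -, -⟩ := K.mem_W.1 haW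
    set k := u0 * a with hk
    have hkO : k ∈ K.O := by rw [← K.ker_π, MonoidHom.mem_ker, hk, map_mul, hu, hau, K.D.uu]
    obtain ⟨n, hn⟩ := K.O_odd
    set r := k ^ (n + 1)
    have hr : r * r = k := by
      have h := congrArg Subtype.val (pow_card_eq_one' (x := (⟨k, hkO⟩ : K.O)))
      simp only [Subgroup.coe_pow, Subgroup.coe_one, hn] at h
      rw [← pow_add, show n + 1 + (n + 1) = (2 * n + 1) + 1 by ring, pow_succ, h, one_mul]
    have huk : u0 * k * u0⁻¹ = k⁻¹ := by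
      rw [hk, _root_.mul_inv_rev, inv_eq_of_mul_eq_one_right ha1, hinv, ← mul_assoc u0 u0 a, h0,
        one_mul]
    have hur : u0 * r * u0⁻¹ = r⁻¹ := by rw [← conj_pow, huk, inv_pow]
    refine mem_image.2 ⟨⟨r⁻¹, inv_mem (pow_mem hkO _)⟩, mem_univ _, ?_⟩
    show r⁻¹ * u0 * r⁻¹⁻¹ = a
    rw [inv_inv, ← hur]
    calc u0 * r * u0⁻¹ * u0 * r = u0 * (r * r) := by group
      _ = a := by rw [hr, hk, ← mul_assoc, h0, one_mul]
  · intro ha
    obtain ⟨k, -, rfl⟩ := mem_image.1 ha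
    refine mem_filter.2 ⟨K.W_conj _ hu0, ?_⟩
    have hk : K.π (k : K.C) = 1 := MonoidHom.mem_ker.1 ((SetLike.ext_iff.1 K.ker_π _).2 k.2)
    rw [map_mul, map_mul, map_inv, hk, hu]
    group

theorem m_dvd : K.m ∣ Nat.card K.O := by
  obtain ⟨u0, h0, hu⟩ := K.exists_lift
  have := DihBlock.card_conj_image K.O u0
  rw [m, K.fibre_orbit h0 hu]
  exact ⟨_, this.symm⟩

theorem m_one (hm : K.m = 1) {a : K.C} (ha : a * a = 1) (k : K.C) (hk : k ∈ K.O) :
    k * a = a * k := by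
  by_cases h1 : a = 1
  · simp [h1]
  by_cases h2 : a = K.zC
  · rw [h2, K.zC_comm]
  have haW : a ∈ K.W := K.mem_W.2 ⟨ha, h1, h2⟩
  have hk' : K.π k = 1 := MonoidHom.mem_ker.1 ((SetLike.ext_iff.1 K.ker_π _).2 hk)
  have hle : (K.W.filter fun b => K.π b = K.π a).card ≤ 1 := by rw [K.fibre (K.π_W haW), hm]
  have e := card_le_one.1 hle (k * a * k⁻¹)
    (mem_filter.2 ⟨K.W_conj k haW, by rw [map_mul, map_mul, map_inv, hk']; group⟩) a
    (mem_filter.2 ⟨haW, rfl⟩)
  calc k * a = k * a * k⁻¹ * k := by group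
    _ = a * k := by rw [e]

theorem card_C : Nat.card K.C = Nat.card K.O * (2 * K.p * (K.D.cp * K.D.cm)) := by
  rw [← Subgroup.card_mul_index K.O]
  congr 1
  exact K.D.card_eq

end Ctx

end Cfsg.Agent.SDPack
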