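import Cfsg.Agent.Lib.SDPack.Cent
import Cfsg.Agent.Lib.GW.FieldPart
import Cfsg.Agent.Lib.Classical.SL
import Cfsg.Agent.Lib.Classical.SL2Involutions

/-!
The projective representation of a group on a normal subgroup isomorphic to `SL(2, p)`.
-/

set_option autoImplicit false

namespace Cfsg.Agent.SDPack

open Matrix Cfsg.Agent.AutPSL Cfsg.Agent.TwoByTwo

universe u

variable {p : ℕ} [Fact p.Prime]

local notation "F" => ZMod p
local notation "SL2" => Matrix.SpecialLinearGroup (Fin 2) (ZMod p)
local notation "GL2" => GL (Fin 2) (ZMod p)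
local notation "PGL2" => Matrix.ProjGenLinGroup (Fin 2) (ZMod p)

theorem two_ne (hp : p ≠ 2) : (2 : F) ≠ 0 := by
  intro h
  have h' : ((2 : ℕ) : F) = 0 := by exact_mod_cast h
  exact hp ((Nat.prime_dvd_prime_iff_eq Fact.out Nat.prime_two).1
    ((ZMod.natCast_eq_zero_iff 2 p).1 h'))

/-- Every automorphism of `SL(2, p)` is the conjugation by an invertible matrix. -/
theorem aut_sl2 (hp : p ≠ 2) (α : MulAut SL2) :
    ∃ A : GL2, ∀ s : SL2, (α s).1 = A.1 * s.1 * A⁻¹.1 := by
  obtain ⟨g, σ, hg⟩ := GW.exists_semi (descend α)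
  have hσ : σ = RingEquiv.refl F := Subsingleton.elim _ _
  refine ⟨g, ?_⟩
  have h2 := two_ne hp
  -- the two automorphisms differ by a central-valued homomorphism
  have hc : ∀ s : SL2, (slSemi g σ s)⁻¹ * α s ∈ Subgroup.center SL2 := fun s => by
    have h := congrArg (fun β => β (QuotientGroup.mk s : Matrix.ProjectiveSpecialLinearGroup (Fin 2) F)) hg
    simp only [descend_mk, semi_mk] at h
    exact QuotientGroup.eq.1 h.symm
  let c : SL2 →* SL2 := {
    toFun := fun s => (slSemi g σ s)⁻¹ * α s
    map_one' := by simp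
    map_mul' := fun s t => by
      have h := Subgroup.mem_center_iff.1 (hc s) ((slSemi g σ t)⁻¹)
      rw [map_mul, map_mul, _root_.mul_inv_rev]
      calc (slSemi g σ t)⁻¹ * (slSemi g σ s)⁻¹ * (α s * α t)
          = (slSemi g σ t)⁻¹ * ((slSemi g σ s)⁻¹ * α s) * α t := by simp only [mul_assoc]
        _ = (slSemi g σ s)⁻¹ * α s * (slSemi g σ t)⁻¹ * α t := by rw [h]
        _ = _ := by simp only [mul_assoc] }
  have htriv : ∀ s, c s = 1 := by
    intro s
    have hle : Subgroup.closure (ClassicalSL.elemTransvections (Fin 2) F) ≤ c.ker := by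
      rw [Subgroup.closure_le]
      rintro _ ⟨i, j, hij, a, rfl⟩
      set t := SpecialLinearGroup.transvection hij a
      have hpow : t ^ p = 1 := by
        have hadd : ∀ n : ℕ, t ^ n = SpecialLinearGroup.transvection hij ((n : F) * a) := by
          intro n
          induction n with
          | zero => simp
          | succ n ih =>
            rw [pow_succ, ih]
            refine Subtype.ext ?_
            show Matrix.transvection i j ((n : F) * a) * Matrix.transvection i j a =
              Matrix.transvection i j (((n + 1 : ℕ) : F) * a)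
            rw [Matrix.transvection_mul_transvection_same i j hij]
            push_cast
            ring_nf
        rw [hadd, ZMod.natCast_self, zero_mul]
        simp
      rw [SetLike.mem_coe, MonoidHom.mem_ker]
      rcases SL2Inv.mem_center_iff.1 (hc t) with e | e
      · exact e
      · exfalso
        have h1 : c t ^ p = 1 := by rw [← map_pow, hpow, map_one]
        have hct : c t = SL2Inv.negOne := e
        rw [hct] at h1
        have key : ∀ n : ℕ, Odd n → (SL2Inv.negOne : SL2) ^ n = SL2Inv.negOne := by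
          rintro n ⟨m, rfl⟩
          rw [pow_succ, pow_mul, pow_two, SL2Inv.negOne_mul_self, one_pow, one_mul]
        rw [key p ((Fact.out : p.Prime).odd_of_ne_two hp)] at h1
        exact SL2Inv.negOne_ne_one h2 h1
    rw [ClassicalSL.closure_elemTransvections] at hle
    exact hle (Subgroup.mem_top s)
  intro s
  have h := htriv s
  change (slSemi g σ s)⁻¹ * α s = 1 at h
  rw [inv_mul_eq_one] at h
  rw [← h, slSemi_coe, hσ]
  simp

/-- A matrix commuting with all of `SL(2, p)` is scalar. -/
theorem scalar_of_comm {A : GL2} (h : ∀ s : SL2, A.1 * s.1 = s.1 * A.1) :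
    A ∈ Subgroup.center GL2 := by
  rw [GeneralLinearGroup.center_eq_range_scalar]
  have h1 := h ⟨!![1, 1; 0, 1], by simp [Matrix.det_fin_two]⟩
  have h2 := h ⟨!![1, 0; 1, 1], by simp [Matrix.det_fin_two]⟩
  have a01 := congrFun (congrFun h1 0) 0
  have a00 := congrFun (congrFun h1 0) 1
  have b01 := congrFun (congrFun h2 0) 0
  simp [Matrix.mul_apply, Fin.sum_univ_two] at a01 a00 b01
  have hne : A.1 0 0 ≠ 0 := by
    intro e
    apply A.det_ne_zero
    rw [Matrix.det_fin_two, e, a01]
    ring
  refine ⟨Units.mk0 (A.1 0 0) hne, Units.ext ?_⟩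
  ext i j
  fin_cases i <;> fin_cases j <;>
    simp [Matrix.GeneralLinearGroup.scalar, a01, b01] <;> linear_combination a00

variable {H : Type u} [Group H] {L : Subgroup H} [L.Normal]

/-- The matrix action of an element on `L`. -/
def Acts (e : L ≃* SL2) (g : H) (A : GL2) : Prop :=
  ∀ l : L, (e ⟨g * l * g⁻¹, Subgroup.Normal.conj_mem inferInstance _ l.2 g⟩).1 =
    A.1 * (e l).1 * A⁻¹.1

variable (hp : p ≠ 2) (e : L ≃* Matrix.SpecialLinearGroup (Fin 2) (ZMod p))
include hp

theorem exists_acts (g : H) : ∃ A : GL2, Acts e g A := by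
  obtain ⟨A, hA⟩ := aut_sl2 hp (e.symm.trans ((MulAut.conjNormal g : MulAut L).trans e))
  refine ⟨A, fun l => ?_⟩
  have h := hA (e l)
  simp only [MulEquiv.trans_apply, MulEquiv.symm_apply_apply] at h
  rw [← h]
  rfl

omit hp in
theorem Acts.unique {g : H} {A B : GL2} (hA : Acts e g A) (hB : Acts e g B) :
    Matrix.ProjGenLinGroup.mk A = Matrix.ProjGenLinGroup.mk B := by
  rw [Matrix.ProjGenLinGroup.mk_eq_mk_iff']
  refine ⟨A⁻¹ * B, scalar_of_comm fun s => ?_, by group⟩
  obtain ⟨l, rfl⟩ := e.surjective s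
  have h := (hA l).symm.trans (hB l)
  have h2 := congrArg (fun X => A⁻¹.1 * X * B.1) h
  simp only [mul_assoc, Units.inv_mul, Units.inv_mul_cancel_left, mul_one] at h2
  show (A⁻¹ * B).1 * (e l).1 = (e l).1 * (A⁻¹ * B).1
  rw [Units.val_mul]
  simp only [mul_assoc]
  exact h2.symm

omit hp in
theorem Acts.mul {g g' : H} {A B : GL2} (hA : Acts e g A) (hB : Acts e g' B) :
    Acts e (g * g') (A * B) := by
  intro l
  have h1 := hB l
  have h2 := hA ⟨g' * l * g'⁻¹, Subgroup.Normal.conj_mem inferInstance _ l.2 g'⟩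
  rw [h1] at h2
  rw [show (⟨g * g' * l * (g * g')⁻¹, _⟩ : L) = ⟨g * (g' * l * g'⁻¹) * g⁻¹,
      Subgroup.Normal.conj_mem inferInstance _
        (Subgroup.Normal.conj_mem inferInstance _ l.2 g') g⟩ from Subtype.ext (by simp [mul_assoc]),
    h2, _root_.mul_inv_rev, Units.val_mul, Units.val_mul]
  simp only [mul_assoc]

/-- The projective representation. -/
noncomputable def rho : H →* PGL2 :=
  MonoidHom.mk' (fun g => Matrix.ProjGenLinGroup.mk (exists_acts hp e g).choose) fun g g' => by
    rw [← map_mul]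
    exact (exists_acts hp e (g * g')).choose_spec.unique e
      (Acts.mul e (exists_acts hp e g).choose_spec (exists_acts hp e g').choose_spec)

theorem rho_eq {g : H} {A : GL2} (hA : Acts e g A) :
    rho hp e g = Matrix.ProjGenLinGroup.mk A :=
  (exists_acts hp e g).choose_spec.unique e hA

theorem exists_acts_of_rho {g : H} {A : GL2} (hA : rho hp e g = Matrix.ProjGenLinGroup.mk A) :
    Acts e g A := by
  obtain ⟨B, hB⟩ := exists_acts hp e g
  obtain ⟨v, hv⟩ := Matrix.ProjGenLinGroup.mk_eq_mk_iff'.1 ((rho_eq hp e hB).symm.trans hA)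
  intro l
  rw [hB l, ← hv.2, _root_.mul_inv_rev, Units.val_mul, Units.val_mul]
  have hc : (e l).1 * v⁻¹.1 = v⁻¹.1 * (e l).1 := by
    have h' : (SpecialLinearGroup.toGL (e l) : GL2) * v⁻¹ = v⁻¹ * SpecialLinearGroup.toGL (e l) :=
      Subgroup.mem_center_iff.1 (inv_mem hv.1) _
    exact congrArg Units.val h'
  simp only [mul_assoc]
  rw [← mul_assoc (e l).1, hc, mul_assoc, Units.mul_inv_cancel_left]

theorem rho_ker : (rho hp e).ker = Subgroup.centralizer (L : Set H) := by
  ext g
  rw [MonoidHom.mem_ker, Subgroup.mem_centralizer_iff]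
  constructor
  · intro h l hl
    have hA := exists_acts_of_rho hp e (h.trans Matrix.ProjGenLinGroup.mk_one.symm) ⟨l, hl⟩
    simp only [Units.val_one, inv_one, one_mul, mul_one] at hA
    have := congrArg Subtype.val (e.injective (Subtype.ext hA))
    simp only at this
    exact (mul_inv_eq_iff_eq_mul.1 this).symm
  · intro h
    rw [← Matrix.ProjGenLinGroup.mk_one]
    refine rho_eq hp e fun l => ?_
    simp only [Units.val_one, inv_one, one_mul, mul_one]
    congr 2
    refine Subtype.ext ?_
    show g * (l : H) * g⁻¹ = (l : H)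
    rw [← h l l.2]; group

/-- The commutation with an element of `L` in matrices. -/
theorem rho_comm_iff (g : H) (l : L) : g * l = l * g ↔
    ∃ A, rho hp e g = Matrix.ProjGenLinGroup.mk A ∧ A ∈ unitsOf (e l).1 := by
  obtain ⟨B, hB⟩ := exists_acts hp e g
  have key : ∀ A : GL2, Acts e g A → (g * l = l * g ↔ A.1 * (e l).1 = (e l).1 * A.1) := by
    intro A hA
    constructor
    · intro h
      have h' := hA l
      rw [show (⟨g * l * g⁻¹, _⟩ : L) = l from Subtype.ext (show g * (l : H) * g⁻¹ = (l : H) by rw [h, mul_inv_cancel_right])] at h'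
      conv_rhs => rw [h']
      rw [mul_assoc _ A⁻¹.1, Units.inv_mul, mul_one]
    · intro h
      have h' := hA l
      have h'' : A.1 * (e l).1 * A⁻¹.1 = (e l).1 := by rw [h, mul_assoc, Units.mul_inv, mul_one]
      replace h' := h'.trans h''
      have := congrArg Subtype.val (e.injective (Subtype.ext h'))
      exact mul_inv_eq_iff_eq_mul.1 this
  refine ⟨fun h => ⟨B, rho_eq hp e hB, (key B hB).1 h⟩, ?_⟩
  rintro ⟨A, hA, hA'⟩
  exact (key A (exists_acts_of_rho hp e hA)).2 hA'

omit hp in
theorem not_isScalar {l : L} (hl : l ∉ Subgroup.center L) : ¬ IsScalar (e l).1 := by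
  intro hs
  refine hl (Subgroup.mem_center_iff.2 fun m => e.injective (Subtype.ext ?_))
  rw [map_mul, map_mul]
  show (e m).1 * (e l).1 = (e l).1 * (e m).1
  rw [isScalar_iff.1 hs, mul_smul_comm, smul_mul_assoc, mul_one, one_mul]

end Cfsg.Agent.SDPack
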