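import Mathlib.Algebra.Order.BigOperators.Group.Finset
import Mathlib.Algebra.BigOperators.Fin
import Mathlib.Algebra.Ring.Int.Units
import Mathlib.Tactic.LinearCombination
import Mathlib.Tactic.FinCases
import Mathlib.Tactic.Linarith
import Mathlib.Tactic.NormNum

/-!
The shape of a small system of integer vectors: the exceptional families of a group with
semidihedral Sylow 2-subgroups.
-/

set_option autoImplicit false

namespace Cfsg.Agent.SDPack

open Finset

variable {ι : Type*} [Fintype ι] [DecidableEq ι]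

/-- A vector of norm at most three is a sum of signed unit vectors. -/
theorem vec_small {v : ι → ℤ} {k : ℕ} (hk : k ≤ 3) (h : ∑ i, v i * v i = (k : ℤ)) :
    ∃ s : Finset ι, s.card = k ∧ (∀ i, i ∈ s ↔ v i ≠ 0) ∧ ∀ i ∈ s, v i * v i = 1 := by
  refine ⟨univ.filter fun i => v i ≠ 0, ?_, fun i => by simp, ?_⟩
  all_goals
    have hone : ∀ i ∈ univ.filter (fun i => v i ≠ 0), v i * v i = 1 := by
      intro i hi
      have hle : v i * v i ≤ k := h ▸ single_le_sum (fun x _ => mul_self_nonneg (v x)) (mem_univ i)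
      have hne : v i ≠ 0 := (mem_filter.1 hi).2
      have h2 : -2 < v i ∧ v i < 2 := ⟨by nlinarith, by nlinarith⟩
      obtain e | e : v i = 1 ∨ v i = -1 := by omega
      all_goals rw [e]; norm_num
  · have h2 : ∑ i ∈ univ.filter (fun i => v i ≠ 0), v i * v i = (k : ℤ) := by
      rw [← h]
      exact sum_subset (subset_univ _) fun i _ hi => by
        simp only [mem_filter, mem_univ, true_and, not_not] at hi
        rw [hi, zero_mul]
    rw [sum_congr rfl hone, sum_const, nsmul_eq_mul, mul_one] at h2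
    exact_mod_cast h2
  · exact hone

/-- The dot product with a unit vector. -/
theorem dot_single (w : ι → ℤ) (i : ι) (s : ℤ) : ∑ j, (Pi.single i s : ι → ℤ) j * w j = s * w i := by
  rw [sum_eq_single i (fun j _ hj => by rw [Pi.single_eq_of_ne hj, zero_mul])
    (fun h => absurd (mem_univ i) h), Pi.single_eq_same]

/-- The dot product with a sum of two unit vectors. -/
theorem dot_two (w : ι → ℤ) (i j : ι) (s t : ℤ) :
    ∑ l, (Pi.single i s + Pi.single j t : ι → ℤ) l * w l = s * w i + t * w j := by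
  simp only [Pi.add_apply, add_mul, sum_add_distrib, dot_single]

/-- A vector of norm two. -/
theorem vec_two {v : ι → ℤ} (h : ∑ i, v i * v i = 2) :
    ∃ (i j : ι) (s t : ℤ), i ≠ j ∧ s * s = 1 ∧ t * t = 1 ∧ v = Pi.single i s + Pi.single j t := by
  obtain ⟨S, hS, hmem, hone⟩ := vec_small (k := 2) (by omega) (by exact_mod_cast h)
  obtain ⟨i, j, hij, rfl⟩ := card_eq_two.1 hS
  refine ⟨i, j, v i, v j, hij, hone i (by simp), hone j (by simp), funext fun l => ?_⟩
  by_cases hi : l = i
  · subst hi; simp [Pi.single_eq_of_ne hij]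
  by_cases hj : l = j
  · subst hj; simp [Pi.single_eq_of_ne (Ne.symm hij)]
  · simp [Pi.single_eq_of_ne hi, Pi.single_eq_of_ne hj]
    by_contra hne
    have := (hmem l).2 hne
    simp [hi, hj] at this

theorem mul_eq_of_mul_eq_one {a b : ℤ} (ha : a * a = 1) (hb : b * b = 1) (h : a * b = 1) : a = b := by
  linear_combination (-a) * hb + b * h

/-- The vectors of the exceptional families with their inner products. -/
structure Vecs (ι : Type*) [Fintype ι] (d : ι → ℤ) (Ne No : ℕ) where
  γ : Fin Ne → ι → ℤ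
  f : Fin No → ι → ℤ
  φ : ι → ℤ
  α : ι → ℤ
  e0 : Fin Ne
  hNe : Ne ≠ 2
  hNo : 2 ≤ No
  γγ : ∀ a b, ∑ i, γ a i * γ b i = if a = b then 2 else 1
  γφ : ∀ a, ∑ i, γ a i * φ i = 1
  φφ : ∑ i, φ i * φ i = 3
  ff : ∀ a b, ∑ i, f a i * f b i = if a = b then 2 else 1
  fγ : ∀ a b, ∑ i, f a i * γ b i = if b = e0 then 1 else 0
  fφ : ∀ a, ∑ i, f a i * φ i = 0
  αα : ∑ i, α i * α i = 2
  αγ : ∀ a, ∑ i, α i * γ a i = 0
  αφ : ∑ i, α i * φ i = 1
  αf : ∀ a, ∑ i, α i * f a i = 0
  γd : ∀ a, ∑ i, γ a i * d i = -1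
  φd : ∑ i, φ i * d i = -1
  fd : ∀ a, ∑ i, f a i * d i = 0

/-- The shape of the exceptional families: signed distinct members. -/
structure Shape {d : ι → ℤ} {Ne No : ℕ} (v : Vecs ι d Ne No) where
  A : ι
  P : ι
  R : ι
  E : ι
  X : Fin Ne → ι
  Y : Fin No → ι
  sA : ℤ
  sP : ℤ
  sR : ℤ
  sE : ℤ
  sX : Fin Ne → ℤ
  sY : Fin No → ℤ
  hsA : sA * sA = 1
  hsP : sP * sP = 1
  hsR : sR * sR = 1
  hsE : sE * sE = 1
  hsX : ∀ a, sX a * sX a = 1
  hsY : ∀ a, sY a * sY a = 1
  hγ : ∀ a, v.γ a = Pi.single A sA + Pi.single (X a) (sX a)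
  hφ : v.φ = Pi.single A sA + (Pi.single P sP + Pi.single R sR)
  hf : ∀ a, v.f a = Pi.single (X v.e0) (sX v.e0) + Pi.single (Y a) (-sY a)
  hα : v.α = Pi.single P sP + Pi.single E sE
  AP : A ≠ P
  AR : A ≠ R
  AE : A ≠ E
  PR : P ≠ R
  PE : P ≠ E
  RE : R ≠ E
  AX : ∀ a, A ≠ X a
  AY : ∀ a, A ≠ Y a
  PX : ∀ a, P ≠ X a
  PY : ∀ a, P ≠ Y a
  RX : ∀ a, R ≠ X a
  RY : ∀ a, R ≠ Y a
  EX : ∀ a, E ≠ X a
  EY : ∀ a, E ≠ Y a
  X_inj : Function.Injective X
  Y_inj : Function.Injective Y
  XY : ∀ a b, X a ≠ Y b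

namespace Vecs

variable {d : ι → ℤ} {Ne No : ℕ} (v : Vecs ι d Ne No)

/-- Every `γ` meets `φ` in exactly one member, with the same sign. -/
theorem gamma_split (a : Fin Ne) : ∃ (A X : ι) (t : ℤ), v.φ A ≠ 0 ∧ v.φ A * v.φ A = 1 ∧ t * t = 1 ∧
    v.φ X = 0 ∧ A ≠ X ∧ v.γ a = Pi.single A (v.φ A) + Pi.single X t := by
  obtain ⟨S, -, hmem, hone⟩ := vec_small (k := 3) le_rfl (by exact_mod_cast v.φφ)
  have val : ∀ i, v.φ i = 0 ∨ v.φ i * v.φ i = 1 := fun i => by
    by_cases h : v.φ i = 0
    · exact Or.inl h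
    · exact Or.inr (hone i ((hmem i).2 h))
  obtain ⟨i, j, s, t, hij, hs, ht, he⟩ := vec_two (by simpa using v.γγ a a)
  have h1 := v.γφ a
  rw [he, dot_two] at h1
  have key : ∀ (i j : ι) (s t : ℤ), s * s = 1 → t * t = 1 → s * v.φ i + t * v.φ j = 1 →
      v.φ i ≠ 0 → s = v.φ i ∧ v.φ j = 0 := by
    intro i j s t hs ht h hi
    have h2 := (val i).resolve_left hi
    rcases val j with e | e
    · rw [e, mul_zero, add_zero] at h
      exact ⟨mul_eq_of_mul_eq_one hs h2 h, e⟩
    · exfalso
      have p1 : (s * v.φ i) * (s * v.φ i) = 1 := by linear_combination (v.φ i * v.φ i) * hs + h2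
      have p2 : (t * v.φ j) * (t * v.φ j) = 1 := by linear_combination (v.φ j * v.φ j) * ht + e
      rcases mul_self_eq_one_iff.1 p1 with q1 | q1 <;>
        rcases mul_self_eq_one_iff.1 p2 with q2 | q2 <;> omega
  by_cases hi : v.φ i = 0
  · have hj : v.φ j ≠ 0 := fun e => by simp [hi, e] at h1
    obtain ⟨e1, e2⟩ := key j i t s ht hs (by rw [add_comm]; exact h1) hj
    refine ⟨j, i, s, hj, (val j).resolve_left hj, hs, e2, hij.symm, ?_⟩
    rw [he, e1, add_comm]
  · obtain ⟨e1, e2⟩ := key i j s t hs ht h1 hi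
    exact ⟨i, j, t, hi, (val i).resolve_left hi, ht, e2, hij, by rw [he, e1]⟩

theorem dot_three {φ : ι → ℤ} {A B C : ι} (hAB : A ≠ B) (hAC : A ≠ C) (hBC : B ≠ C)
    (h : ∀ i, φ i ≠ 0 → i = A ∨ i = B ∨ i = C) (w : ι → ℤ) :
    ∑ i, φ i * w i = φ A * w A + (φ B * w B + φ C * w C) := by
  rw [← sum_subset (subset_univ ({A, B, C} : Finset ι)) fun i _ hi => ?_]
  · rw [sum_insert (by simp [hAB, hAC]), sum_insert (by simp [hBC]), sum_singleton]
  · simp only [mem_insert, mem_singleton] at hi
    by_contra hne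
    exact hi (h i fun e => hne (by rw [e, zero_mul]))

/-- All `γ` share their member in `φ`. -/
theorem gamma_shared {A X : Fin Ne → ι} {t : Fin Ne → ℤ} (hA : ∀ a, v.φ (A a) ≠ 0)
    (hA2 : ∀ a, v.φ (A a) * v.φ (A a) = 1) (ht : ∀ a, t a * t a = 1) (hX : ∀ a, v.φ (X a) = 0)
    (he : ∀ a, v.γ a = Pi.single (A a) (v.φ (A a)) + Pi.single (X a) (t a)) (a b : Fin Ne) :
    A a = A b := by
  by_contra hab
  have AX : ∀ i j, A i ≠ X j := fun i j h => hA i (h ▸ hX j)
  have dot : ∀ i j, i ≠ j → (A i = A j ∧ X i ≠ X j) ∨ (A i ≠ A j ∧ X i = X j ∧ t i = t j) := by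
    intro i j hij
    have h := v.γγ i j
    rw [if_neg hij, he i, he j, dot_two] at h
    simp only [Pi.add_apply, Pi.single_apply] at h
    rw [if_neg (AX i j), if_neg (fun e : X i = A j => AX j i e.symm), add_zero, zero_add] at h
    by_cases e1 : A i = A j <;> by_cases e2 : X i = X j
    · rw [if_pos e1, if_pos e2, ← e1, hA2 i] at h
      have : t i * t j = 0 := by linarith
      rcases mul_eq_zero.1 this with e | e
      · have := ht i; simp [e] at this
      · have := ht j; simp [e] at this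
    · exact Or.inl ⟨e1, e2⟩
    · rw [if_neg e1, if_pos e2, mul_zero, zero_add] at h
      exact Or.inr ⟨e1, e2, mul_eq_of_mul_eq_one (ht i) (ht j) h⟩
    · simp [e1, e2] at h
  have inj : Function.Injective A := by
    intro i j hij
    by_contra hne
    have hne' : X i ≠ X j := ((dot i j hne).resolve_right fun h => h.1 hij).2
    obtain ⟨k, hk⟩ : ∃ k, A k ≠ A i := by
      by_cases h : A a = A i
      · exact ⟨b, fun e => hab (h.trans e.symm)⟩
      · exact ⟨a, h⟩
    have h1 := ((dot k i (fun e => hk (e ▸ rfl))).resolve_left fun h => hk h.1).2.1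
    have h2 := ((dot k j (fun e => hk (by rw [e, hij]))).resolve_left
      fun h => hk (h.1.trans hij.symm)).2.1
    exact hne' (h1.symm.trans h2)
  obtain ⟨S, hS, hmem, -⟩ := vec_small (k := 3) le_rfl (by exact_mod_cast v.φφ)
  have hle : Ne ≤ 3 := by
    rw [← hS, ← Fintype.card_fin Ne, ← card_univ, ← card_image_of_injective univ inj]
    exact card_le_card fun i hi => by
      obtain ⟨c, -, rfl⟩ := mem_image.1 hi
      exact (hmem _).2 (hA c)
  have hne2 := v.hNe
  have hN : Ne = 3 := by
    have h1 : 2 ≤ Ne := by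
      have := Fin.val_ne_of_ne (fun e : a = b => hab (e ▸ rfl))
      omega
    omega
  subst hN
  have inj' : ∀ i j : Fin 3, i ≠ j → A i ≠ A j := fun i j h e => h (inj e)
  have himg : univ.image A = S := eq_of_subset_of_card_le (fun i hi => by
    obtain ⟨c, -, rfl⟩ := mem_image.1 hi
    exact (hmem _).2 (hA c)) (by rw [hS, card_image_of_injective _ inj]; simp)
  have hcov : ∀ i, v.φ i ≠ 0 → i = A 0 ∨ i = A 1 ∨ i = A 2 := by
    intro i hi
    have := (hmem i).2 hi
    rw [← himg, mem_image] at this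
    obtain ⟨c, -, rfl⟩ := this
    fin_cases c <;> simp
  have e3 := dot_three (inj' 0 1 (by decide)) (inj' 0 2 (by decide)) (inj' 1 2 (by decide)) hcov d
  rw [v.φd] at e3
  have g : ∀ i, v.φ (A i) * d (A i) + t i * d (X i) = -1 := fun i => by
    have := v.γd i
    rwa [he i, dot_two] at this
  have sX : ∀ i, X i = X 0 ∧ t i = t 0 := by
    intro i
    by_cases h : i = 0
    · rw [h]; exact ⟨rfl, rfl⟩
    · exact ((dot i 0 h).resolve_left fun h' => inj' i 0 h h'.1).2
  have h0 := g 0
  have h1 := g 1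
  have h2 := g 2
  rw [(sX 1).1, (sX 1).2] at h1
  rw [(sX 2).1, (sX 2).2] at h2
  omega

/-- The shape exists. -/
theorem exists_shape : Nonempty (Shape v) := by
  choose A' X t hA hA2 ht hX hAX he using v.gamma_split
  have hsh := v.gamma_shared hA hA2 ht hX he
  set A := A' v.e0 with hAdef
  set sA := v.φ A with hsAdef
  have hγ : ∀ a, v.γ a = Pi.single A sA + Pi.single (X a) (t a) := fun a => by
    rw [he a, hsh a v.e0]
  have hAne : v.φ A ≠ 0 := hA _
  have hsA : sA * sA = 1 := hA2 _
  have hXA : ∀ a, A ≠ X a := fun a e => hAne (e ▸ hX a)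
  have hXi : Function.Injective X := by
    intro a b e
    by_contra hab
    have h := v.γγ a b
    rw [if_neg hab, hγ a, hγ b, dot_two] at h
    simp only [Pi.add_apply, Pi.single_apply] at h
    rw [if_pos trivial, if_neg (hXA b), if_neg (hXA a).symm, e, if_pos rfl, add_zero, zero_add, hsA] at h
    have h' : t a * t b = 0 := by linarith
    rcases mul_eq_zero.1 h' with e' | e'
    · have := ht a; simp [e'] at this
    · have := ht b; simp [e'] at this
  obtain ⟨S, hS, hmem, hone⟩ := vec_small (k := 3) le_rfl (by exact_mod_cast v.φφ)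
  have hAS : A ∈ S := (hmem A).2 hAne
  -- the members of `f`
  have fcase : ∀ o : Fin No, (∃ Y s, s * s = 1 ∧ v.φ Y = 0 ∧ Y ≠ X v.e0 ∧
        v.f o = Pi.single (X v.e0) (t v.e0) + Pi.single Y (-s)) ∨
      (∃ P, v.φ P ≠ 0 ∧ P ≠ A ∧ v.f o = Pi.single A sA + Pi.single P (-v.φ P)) := by
    intro o
    obtain ⟨i, j, s, u, hij, hs, hu, hf⟩ := vec_two (by simpa using v.ff o o)
    have h1 := v.fφ o
    rw [hf, dot_two] at h1
    have h2 := v.fγ o v.e0
    rw [if_pos rfl, hf, dot_two, hγ] at h2
    simp only [Pi.add_apply, Pi.single_apply] at h2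
    by_cases hi : v.φ i = 0
    · have hj : v.φ j = 0 := by
        rw [hi, mul_zero, zero_add] at h1
        rcases mul_eq_zero.1 h1 with e | e
        · have := hu; simp [e] at this
        · exact e
      have iA : i ≠ A := fun e => hAne (e ▸ hi)
      have jA : j ≠ A := fun e => hAne (e ▸ hj)
      rw [if_neg iA, if_neg jA, zero_add, zero_add] at h2
      left
      by_cases e : i = X v.e0
      · have je : j ≠ X v.e0 := fun e' => hij (e.trans e'.symm)
        rw [if_pos e, if_neg je, mul_zero, add_zero] at h2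
        exact ⟨j, -u, by rw [neg_mul_neg]; exact hu, hj, je, by
          rw [hf, e, mul_eq_of_mul_eq_one hs (ht _) h2, neg_neg]⟩
      · rw [if_neg e, mul_zero, zero_add] at h2
        have ej : j = X v.e0 := by by_contra h; simp [h] at h2
        rw [if_pos ej] at h2
        exact ⟨i, -s, by rw [neg_mul_neg]; exact hs, hi, e, by
          rw [hf, ej, mul_eq_of_mul_eq_one hu (ht _) h2, neg_neg, add_comm]⟩
    · have hj : v.φ j ≠ 0 := fun e => by
        rw [e, mul_zero, add_zero] at h1
        rcases mul_eq_zero.1 h1 with e' | e'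
        · simp [e'] at hs
        · exact hi e'
      have iX : i ≠ X v.e0 := fun e => hi (e ▸ hX _)
      have jX : j ≠ X v.e0 := fun e => hj (e ▸ hX _)
      rw [if_neg iX, if_neg jX, add_zero, add_zero] at h2
      right
      by_cases e : i = A
      · have je : j ≠ A := fun e' => hij (e.trans e'.symm)
        rw [if_pos e, if_neg je, mul_zero, add_zero] at h2
        have es := mul_eq_of_mul_eq_one hs hsA h2
        refine ⟨j, hj, je, ?_⟩
        have hu' : u = -v.φ j := by
          rw [e, es, ← hsAdef, hsA] at h1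
          linear_combination (-(v.φ j)) * hu + u * h1
        rw [hf, e, es, hu']
      · rw [if_neg e, mul_zero, zero_add] at h2
        have ej : j = A := by by_contra h; simp [h] at h2
        rw [if_pos ej] at h2
        have eu := mul_eq_of_mul_eq_one hu hsA h2
        refine ⟨i, hi, e, ?_⟩
        have hs' : s = -v.φ i := by
          rw [ej, eu, ← hsAdef, hsA] at h1
          linear_combination (-(v.φ i)) * hs + s * h1
        rw [hf, ej, eu, hs', add_comm]
  have noP : ∀ o, ¬ ∃ P, v.φ P ≠ 0 ∧ P ≠ A ∧ v.f o = Pi.single A sA + Pi.single P (-v.φ P) := by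
    rintro o ⟨P, hP, hPA, hfo⟩
    obtain ⟨o', ho'⟩ : ∃ o' : Fin No, o' ≠ o := by
      have := v.hNo
      by_cases h : (o : ℕ) = 0
      · exact ⟨⟨1, by omega⟩, fun e => by simp [← e] at h⟩
      · exact ⟨⟨0, by omega⟩, fun e => h (by rw [← e])⟩
    have h3 := v.ff o o'
    rw [if_neg ho'.symm, hfo, dot_two] at h3
    rcases fcase o' with ⟨Y, s, -, hY, -, hfo'⟩ | ⟨P', hP', hP'A, hfo'⟩
    · rw [hfo'] at h3
      simp only [Pi.add_apply, Pi.single_apply] at h3
      rw [if_neg (hXA _), if_neg (fun e : A = Y => hAne (e ▸ hY)),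
        if_neg (fun e : P = X v.e0 => hP (e ▸ hX _)), if_neg (fun e : P = Y => hP (e ▸ hY))] at h3
      simp at h3
    · have hPP : P ≠ P' := by
        intro e
        rw [hfo'] at h3
        simp only [Pi.add_apply, Pi.single_apply] at h3
        rw [if_pos trivial, if_neg hP'A.symm, if_neg hPA, if_pos e, ← e] at h3
        have h6 := hone P ((hmem P).2 hP)
        linarith [neg_mul_neg (v.φ P) (v.φ P), hsA, h3, h6]
      have hcov : ∀ i, v.φ i ≠ 0 → i = A ∨ i = P ∨ i = P' := by
        intro i hi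
        have hsub : ({A, P, P'} : Finset ι) = S := by
          refine eq_of_subset_of_card_le (fun x hx => (hmem x).2 ?_) ?_
          · simp only [mem_insert, mem_singleton] at hx
            rcases hx with rfl | rfl | rfl <;> assumption
          · rw [hS, card_insert_of_notMem (by simp [hPA.symm, hP'A.symm]),
              card_insert_of_notMem (by simp [hPP]), card_singleton]
        have := (hmem i).2 hi
        rw [← hsub] at this
        simpa using this
      have e3 := dot_three hPA.symm hP'A.symm hPP hcov d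
      rw [v.φd] at e3
      have g1 := v.fd o
      have g2 := v.fd o'
      rw [hfo, dot_two] at g1
      rw [hfo', dot_two] at g2
      rw [← hsAdef] at e3
      simp only [neg_mul] at g1 g2
      omega
  have fY : ∀ o, ∃ Y s, s * s = 1 ∧ v.φ Y = 0 ∧ Y ≠ X v.e0 ∧
      v.f o = Pi.single (X v.e0) (t v.e0) + Pi.single Y (-s) :=
    fun o => (fcase o).resolve_right (noP o)
  choose Y sY hsY hY hYX hf using fY
  have hAY : ∀ o, A ≠ Y o := fun o e => hAne (e ▸ hY o)
  have hXY : ∀ a o, X a ≠ Y o := by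
    intro a o e
    by_cases ha : a = v.e0
    · exact hYX o (by rw [← e, ha])
    have h := v.fγ o a
    rw [if_neg ha, hf, dot_two, hγ] at h
    simp only [Pi.add_apply, Pi.single_apply] at h
    rw [if_neg (hXA _).symm, if_neg (fun e' => ha (hXi e').symm), if_neg (hAY o).symm, if_pos e.symm] at h
    simp only [zero_add, mul_zero, neg_mul, neg_eq_zero] at h
    rcases mul_eq_zero.1 h with e' | e'
    · have := hsY o; simp [e'] at this
    · have := ht a; simp [e'] at this
  have hYi : Function.Injective Y := by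
    intro o o' e
    by_contra hne
    have h := v.ff o o'
    rw [if_neg hne, hf, hf, dot_two] at h
    simp only [Pi.add_apply, Pi.single_apply] at h
    rw [if_pos trivial, if_neg (hXY _ _), if_neg (hYX o), if_pos e, add_zero, zero_add, ht] at h
    have h' : sY o * sY o' = 0 := by linear_combination h
    rcases mul_eq_zero.1 h' with e' | e'
    · have := hsY o; simp [e'] at this
    · have := hsY o'; simp [e'] at this
  -- the last vector
  obtain ⟨P, E, sP, sE, hPE, hsP, hsE, hα⟩ : ∃ (P E : ι) (sP sE : ℤ), P ≠ E ∧ sP = v.φ P ∧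
      sE * sE = 1 ∧ v.α = Pi.single P sP + Pi.single E sE ∧ v.φ P ≠ 0 ∧ v.φ E = 0 := by
    obtain ⟨i, j, s, u, hij, hs, hu, hα⟩ := vec_two v.αα
    have h1 := v.αφ
    rw [hα, dot_two] at h1
    by_cases hi : v.φ i = 0
    · rw [hi, mul_zero, zero_add] at h1
      have hj : v.φ j ≠ 0 := fun e => by simp [e] at h1
      exact ⟨j, i, u, s, hij.symm, mul_eq_of_mul_eq_one hu (hone j ((hmem j).2 hj)) h1, hs,
        by rw [hα, add_comm], hj, hi⟩
    · have h2 := hone i ((hmem i).2 hi)
      have hj : v.φ j = 0 := by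
        by_contra hj
        have h3 := hone j ((hmem j).2 hj)
        have p1 : (s * v.φ i) * (s * v.φ i) = 1 := by linear_combination (v.φ i * v.φ i) * hs + h2
        have p2 : (u * v.φ j) * (u * v.φ j) = 1 := by linear_combination (v.φ j * v.φ j) * hu + h3
        rcases mul_self_eq_one_iff.1 p1 with q1 | q1 <;>
          rcases mul_self_eq_one_iff.1 p2 with q2 | q2 <;> omega
      rw [hj, mul_zero, add_zero] at h1
      exact ⟨i, j, s, u, hij, mul_eq_of_mul_eq_one hs h2 h1, hu, hα, hi, hj⟩
  obtain ⟨hα, hP, hE⟩ := hα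
  have hsP2 : sP * sP = 1 := hsP ▸ hone P ((hmem P).2 hP)
  have hAE : A ≠ E := fun e => hAne (e ▸ hE)
  have hPX : ∀ a, P ≠ X a := fun a e => hP (e ▸ hX a)
  have hPY : ∀ o, P ≠ Y o := fun o e => hP (e ▸ hY o)
  have hgα : ∀ a, sP * (if P = A then sA else 0) + sE * (if E = X a then t a else 0) = 0 := by
    intro a
    have := v.αγ a
    rw [hα, hγ, dot_two] at this
    simp only [Pi.add_apply, Pi.single_apply] at this
    rwa [if_neg (hPX a), if_neg hAE.symm, add_zero, zero_add] at this
  have hfα : ∀ o, (if E = X v.e0 then sE * t v.e0 else 0) +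
      (if E = Y o then sE * (-sY o) else 0) = 0 := by
    intro o
    have := v.αf o
    rw [hα, hf, dot_two] at this
    simp only [Pi.add_apply, Pi.single_apply] at this
    rw [if_neg (hPX _), if_neg (hPY o), add_zero, mul_zero, zero_add, mul_add] at this
    simpa [mul_ite] using this
  have o0 : Fin No := ⟨0, by have := v.hNo; omega⟩
  have hPA : P ≠ A := by
    intro e
    have h := hgα v.e0
    rw [if_pos e, show sA = sP by rw [hsP, e], hsP2] at h
    have eE : E = X v.e0 := by by_contra hne; simp [hne] at h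
    have h2 := hfα o0
    rw [if_pos eE, if_neg (fun e' => hXY v.e0 o0 (eE.symm.trans e'))] at h2
    rw [if_pos eE] at h
    omega
  have hEX : ∀ a, E ≠ X a := by
    intro a e
    have h := hgα a
    rw [if_neg hPA, if_pos e, mul_zero, zero_add] at h
    rcases mul_eq_zero.1 h with e' | e'
    · simp [e'] at hsE
    · have := ht a; simp [e'] at this
  have hEY : ∀ o, E ≠ Y o := by
    intro o e
    have h := hfα o
    rw [if_neg (hEX _), if_pos e, zero_add] at h
    rcases mul_eq_zero.1 h with e' | e'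
    · simp [e'] at hsE
    · have := hsY o; simp [neg_eq_zero.1 e'] at this
  obtain ⟨R, hR, hRA, hRP⟩ : ∃ R, R ∈ S ∧ R ≠ A ∧ R ≠ P := by
    by_contra hne
    push Not at hne
    have hsub : S ⊆ {A, P} := fun i hi => by
      by_cases h : i = A
      · simp [h]
      · simp [hne i hi h]
    have := card_le_card hsub
    rw [hS, card_insert_of_notMem (by simp [hPA.symm]), card_singleton] at this
    omega
  have hR0 : v.φ R ≠ 0 := (hmem R).1 hR
  have hcov : ∀ i, v.φ i ≠ 0 → i = A ∨ i = P ∨ i = R := by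
    intro i hi
    have hsub : ({A, P, R} : Finset ι) = S := by
      refine eq_of_subset_of_card_le (fun x hx => (hmem x).2 ?_) ?_
      · simp only [mem_insert, mem_singleton] at hx
        rcases hx with rfl | rfl | rfl <;> assumption
      · rw [hS, card_insert_of_notMem (by simp [hPA.symm, hRA.symm]),
          card_insert_of_notMem (by simp [hRP.symm]), card_singleton]
    have := (hmem i).2 hi
    rw [← hsub] at this
    simpa using this
  refine ⟨{ A := A, P := P, R := R, E := E, X := X, Y := Y, sA := sA, sP := sP, sR := v.φ R,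
            sE := sE, sX := t, sY := sY, hsA := hsA, hsP := hsP2, hsR := hone R hR, hsE := hsE,
            hsX := ht, hsY := hsY, hγ := hγ, hf := hf, hα := hα, hφ := ?_,
            AP := hPA.symm, AR := hRA.symm, AE := hAE, PR := hRP.symm, PE := hPE,
            RE := fun e => hR0 (e ▸ hE), AX := hXA, AY := hAY, PX := hPX, PY := hPY,
            RX := fun a e => hR0 (e ▸ hX a), RY := fun a e => hR0 (e ▸ hY a), EX := hEX,
            EY := hEY, X_inj := hXi, Y_inj := hYi, XY := hXY }⟩
  funext i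
  simp only [Pi.add_apply, Pi.single_apply]
  by_cases h : v.φ i = 0
  · rw [h, if_neg (fun e : i = A => hAne (e ▸ h)), if_neg (fun e : i = P => hP (e ▸ h)),
      if_neg (fun e : i = R => hR0 (e ▸ h))]
    simp
  · rcases hcov i h with rfl | rfl | rfl
    · simp [hsAdef, hPA.symm, hRA.symm]
    · simp [hsP, hPA, hRP.symm]
    · simp [hRA, hRP]

end Vecs

end Cfsg.Agent.SDPack
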