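import Cfsg.Agent.Lib.SDPack.Goal
import Cfsg.Agent.Lib.GW.Main
import Cfsg.Agent.Lib.AlperinRankTwo.Simple
import Cfsg.Agent.Lib.Small.DegreePrimeSuccData
import Mathlib.GroupTheory.NoncommCoprod
import Mathlib.Data.ZMod.Basic

/-!
Groups with cyclic odd Sylow subgroups and a cyclic subgroup of index at most two in the Sylow
2-subgroups: inheritance, and the simple case.
-/

set_option autoImplicit false
set_option linter.style.haveILetI false

namespace Cfsg.Agent.SDPack

open Subgroup

universe u v

/-- All odd Sylow subgroups are cyclic, the Sylow 2-subgroups have a cyclic subgroup of index at most two. -/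
def Almost (G : Type u) [Group G] : Prop :=
  (∀ p : ℕ, p.Prime → p ≠ 2 → ∀ P : Sylow p G, IsCyclic P) ∧
    ∀ S : Sylow 2 G, ∃ C : Subgroup ↥(S : Subgroup G), IsCyclic C ∧ C.index ∣ 2

variable {G : Type u} [Group G] [Finite G]

theorem Almost.cyclic_pGroup (h : Almost G) {p : ℕ} [hp : Fact p.Prime] (hp2 : p ≠ 2) {Q : Subgroup G}
    (hQ : IsPGroup p Q) : IsCyclic Q := by
  obtain ⟨P, hP⟩ := hQ.exists_le_sylow
  haveI := h.1 p hp.out hp2 P
  exact Subgroup.isCyclic_of_le hP

theorem Almost.two_group (h : Almost G) {Q : Subgroup G} (hQ : IsPGroup 2 Q) :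
    ∃ C : Subgroup Q, IsCyclic C ∧ C.index ∣ 2 := by
  obtain ⟨S, hS⟩ := hQ.exists_le_sylow
  obtain ⟨C, hC, hi⟩ := h.2 S
  set f : Q →* (S : Subgroup G) := inclusion hS
  refine ⟨C.comap f, ?_, ?_⟩
  · exact isCyclic_of_injective (f.subgroupComap C)
      fun a b e => Subtype.ext (inclusion_injective hS (congrArg Subtype.val e))
  · rw [index_comap]
    have h0 : 0 < C.relIndex f.range :=
      Nat.pos_of_ne_zero (index_ne_zero_of_finite (H := C.subgroupOf f.range))
    have h2 : C.relIndex f.range ≤ 2 :=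
      le_trans (relIndex_le_of_le_right le_top (by rw [relIndex_top_right]; exact index_ne_zero_of_finite))
        (by rw [relIndex_top_right]; exact Nat.le_of_dvd two_pos hi)
    interval_cases C.relIndex f.range <;> norm_num

theorem Almost.of_injective (h : Almost G) {H : Type v} [Group H] [Finite H] (f : H →* G)
    (hf : Function.Injective f) : Almost H := by
  constructor
  · intro p hp hp2 P
    haveI := Fact.mk hp
    haveI := h.cyclic_pGroup hp2 (P.2.map f)
    exact (((P : Subgroup H).equivMapOfInjective f hf)).isCyclic.2 inferInstance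
  · intro S
    obtain ⟨C, hC, hi⟩ := h.two_group (S.2.map f)
    set e := (S : Subgroup H).equivMapOfInjective f hf
    refine ⟨C.comap e.toMonoidHom, ?_, ?_⟩
    · haveI := hC
      exact isCyclic_of_injective (e.toMonoidHom.subgroupComap C)
        fun a b k => Subtype.ext (e.injective (congrArg Subtype.val k))
    · rw [index_comap_of_surjective _ e.surjective]; exact hi

theorem Almost.subgroup (h : Almost G) (H : Subgroup G) : Almost H :=
  h.of_injective H.subtype H.subtype_injective

theorem Almost.of_surjective (h : Almost G) {H : Type v} [Group H] [Finite H] (f : G →* H)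
    (hf : Function.Surjective f) : Almost H := by
  constructor
  · intro p hp hp2 P
    haveI := Fact.mk hp
    obtain ⟨R, rfl⟩ := Sylow.mapSurjective_surjective hf p P
    haveI := h.1 p hp hp2 R
    rw [Sylow.coe_mapSurjective]
    exact isCyclic_of_surjective _ (f.subgroupMap_surjective _)
  · intro S
    obtain ⟨R, rfl⟩ := Sylow.mapSurjective_surjective hf 2 S
    obtain ⟨C, hC, hi⟩ := h.2 R
    rw [Sylow.coe_mapSurjective]
    set g := f.subgroupMap (R : Subgroup G)
    refine ⟨C.map g, ?_, (C.index_map_dvd (f.subgroupMap_surjective _)).trans hi⟩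
    exact isCyclic_of_surjective (g.subgroupMap C) (g.subgroupMap_surjective C)

theorem Almost.quotient (h : Almost G) (N : Subgroup G) [N.Normal] : Almost (G ⧸ N) :=
  h.of_surjective _ (QuotientGroup.mk'_surjective N)

/-- An elementary abelian `p`-group embedded in a group with cyclic odd Sylow subgroups has order at most `p`. -/
theorem Almost.card_le (h : Almost G) {p : ℕ} [hp : Fact p.Prime] (hp2 : p ≠ 2) {A : Type v} [Group A]
    [Finite A] (f : A →* G) (hf : Function.Injective f) (he : ∀ a : A, a ^ p = 1) : Nat.card A ≤ p := by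
  have hA : IsPGroup p A := fun a => ⟨1, by rw [pow_one, he]⟩
  have hc : IsCyclic f.range := h.cyclic_pGroup hp2 (hA.of_equiv (MonoidHom.ofInjective hf))
  haveI : IsCyclic A := (MonoidHom.ofInjective hf).isCyclic.2 hc
  obtain ⟨g, hg⟩ := IsCyclic.exists_ofOrder_eq_natCard (α := A)
  rw [← hg]
  exact Nat.le_of_dvd hp.out.pos (orderOf_dvd_of_pow_eq_one (he g))

/-- There are no two commuting elements of the same odd prime order generating a noncyclic group. -/
theorem Almost.no_pair (h : Almost G) {p : ℕ} [hp : Fact p.Prime] (hp2 : p ≠ 2) {a b : G}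
    (ha : orderOf a = p) (hb : orderOf b = p) (hab : Commute a b) (hd : Disjoint (zpowers a) (zpowers b)) :
    False := by
  have hc : ∀ (x : zpowers a) (y : zpowers b), Commute ((zpowers a).subtype x) ((zpowers b).subtype y) := by
    rintro ⟨_, i, rfl⟩ ⟨_, j, rfl⟩
    exact (hab.zpow_left i).zpow_right j
  let f := MonoidHom.noncommCoprod (zpowers a).subtype (zpowers b).subtype hc
  have hf : Function.Injective f := by
    rw [injective_iff_map_eq_one]
    rintro ⟨x, y⟩ hxy
    have h1 : (x : G) * y = 1 := hxy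
    have h2 : (x : G) ∈ zpowers b := by
      rw [eq_inv_of_mul_eq_one_left h1]; exact inv_mem y.2
    have h3 : (x : G) = 1 := Subgroup.disjoint_def.1 hd x.2 h2
    rw [h3, one_mul] at h1
    exact Prod.ext (Subtype.ext h3) (Subtype.ext h1)
  have he : ∀ q : zpowers a × zpowers b, q ^ p = 1 := fun q => Prod.ext
    (by rw [Prod.pow_fst, ← ha, ← Nat.card_zpowers, pow_card_eq_one']; rfl)
    (by rw [Prod.pow_snd, ← hb, ← Nat.card_zpowers, pow_card_eq_one']; rfl)
  have := h.card_le hp2 f hf he
  rw [Nat.card_prod, Nat.card_zpowers, Nat.card_zpowers, ha, hb] at this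
  nlinarith [hp.out.two_le]

/-- A cyclic group has at most one involution. -/
theorem invol_unique {C : Type u} [Group C] [Finite C] [IsCyclic C] {a b : C} (ha : orderOf a = 2)
    (hb : orderOf b = 2) : a = b := by
  classical
  haveI := Fintype.ofFinite C
  by_contra hne
  have h := IsCyclic.card_pow_eq_one_le (α := C) (n := 2) two_pos
  have hs : ({1, a, b} : Finset C) ⊆ Finset.univ.filter (fun x : C => x ^ 2 = 1) := by
    intro x hx
    simp only [Finset.mem_insert, Finset.mem_singleton] at hx
    rw [Finset.mem_filter]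
    refine ⟨Finset.mem_univ _, ?_⟩
    rcases hx with rfl | rfl | rfl
    · simp
    · rw [← ha, pow_orderOf_eq_one]
    · rw [← hb, pow_orderOf_eq_one]
  have h3 := Finset.card_le_card hs
  have h1a : (1 : C) ≠ a := fun e => by simp [← e] at ha
  have h1b : (1 : C) ≠ b := fun e => by simp [← e] at hb
  rw [Finset.card_insert_of_notMem (by simp [h1a, h1b]),
    Finset.card_insert_of_notMem (by simp [hne]), Finset.card_singleton] at h3
  omega

/-- Sylow 2-subgroups of the simple groups in question are dihedral or semidihedral. -/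
theorem simple_sylow [IsSimpleGroup G] (hG : ¬ IsMulCommutative G) (h : Almost G) (S : Sylow 2 G) :
    (∃ m : ℕ, 2 ≤ m ∧ Nonempty ((S : Subgroup G) ≃* DihedralGroup m)) ∨
      Cfsg.IsQuasiDihedral (S : Subgroup G) := by
  haveI : Fact (Nat.Prime 2) := ⟨Nat.prime_two⟩
  have h1 := AlperinRankTwo.not_prankLE_one S (AlperinRankTwo.not_rank_one hG)
  obtain ⟨C, hC, hi⟩ := h.2 S
  haveI := hC
  have hC2 : C.index = 2 := by
    rcases (Nat.dvd_prime Nat.prime_two).1 hi with e | e
    · refine absurd (fun A _ hA2 => ?_) h1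
      have hcyc : IsCyclic (S : Subgroup G) := by
        rw [index_eq_one] at e
        subst e
        exact topEquiv.isCyclic.1 hC
      haveI := hcyc
      obtain ⟨g, hg⟩ := IsCyclic.exists_ofOrder_eq_natCard (α := A)
      rw [← hg, pow_one]
      exact Nat.le_of_dvd two_pos (orderOf_dvd_of_pow_eq_one (Subtype.ext (hA2 g g.2)))
    · exact e
  haveI : C.Normal := normal_of_index_eq_two hC2
  have huniq : ∀ a b : (S : Subgroup G), a ∈ C → b ∈ C → orderOf a = 2 → orderOf b = 2 → a = b := by
    intro a b ha hb hao hbo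
    have := invol_unique (C := C) (a := ⟨a, ha⟩) (b := ⟨b, hb⟩) (by rwa [orderOf_mk]) (by rwa [orderOf_mk])
    exact congrArg Subtype.val this
  have hCne : C ≠ ⊥ := by
    intro e
    rw [e, index_bot] at hC2
    refine h1 fun A _ _ => ?_
    rw [pow_one]
    exact (Nat.le_of_dvd Nat.card_pos (card_subgroup_dvd_card A)).trans hC2.le
  haveI : Nontrivial C := (nontrivial_iff_ne_bot C).2 hCne
  obtain ⟨k, hk⟩ := (S.2.to_subgroup C).exists_card_eq
  obtain ⟨⟨z, hzC⟩, hz⟩ := exists_prime_orderOf_dvd_card' (G := C) 2 (by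
    rw [hk]
    refine dvd_pow_self 2 fun h0 => ?_
    have := Finite.one_lt_card (α := C)
    rw [hk, h0] at this; omega)
  rw [orderOf_mk] at hz
  have hzc : z ∈ center (S : Subgroup G) := mem_center_iff.2 fun g => by
    have := huniq (g * z * g⁻¹) z (Normal.conj_mem inferInstance z hzC g) hzC
      (by rw [show g * z * g⁻¹ = MulAut.conj g z from rfl, MulEquiv.orderOf_eq, hz]) hz
    exact mul_inv_eq_iff_eq_mul.1 this
  let Φ := AlperinRankTwo.fusOfGroup S (AlperinRankTwo.no_isolated hG)
  obtain ⟨x, hxz, hR⟩ := Φ.moved z hzc hz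
  obtain ⟨g, hg⟩ := id (hR : ∃ g : G, g * x * g⁻¹ = z)
  have hx : orderOf x = 2 := by
    rw [← orderOf_coe, ← MulEquiv.orderOf_eq (MulAut.conj g), MulAut.conj_apply, hg, orderOf_coe, hz]
  have hxC : x ∉ C := fun hm => hxz (huniq x z hm hzC hx hz)
  by_cases hsmall : ∀ w ∈ C, w * x = x * w → w = 1 ∨ w = z
  · refine AlperinRankTwo.dih_or_qd S.2 h1 hx ?_
    classical
    have hxz' : z * x = x * z := (mem_center_iff.1 hzc x).symm
    have hset : ((centralizer ({x} : Set (S : Subgroup G)) : Subgroup _) : Set (S : Subgroup G)) =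
        (({1, z, x, x * z} : Finset (S : Subgroup G)) : Set _) := by
      ext w
      rw [SetLike.mem_coe, mem_centralizer_singleton_iff]
      simp only [Finset.coe_insert, Finset.coe_singleton, Set.mem_insert_iff, Set.mem_singleton_iff]
      constructor
      · intro hw
        by_cases hwC : w ∈ C
        · rcases hsmall w hwC hw with e | e
          · exact Or.inl e
          · exact Or.inr (Or.inl e)
        · have h3 : x⁻¹ * w ∈ C := (mul_mem_iff_of_index_two hC2).2
            (iff_of_false (fun hm => hxC (inv_mem_iff.1 hm)) hwC)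
          rcases hsmall _ h3 (by rw [mul_assoc, hw, inv_mul_cancel_left, mul_inv_cancel_left]) with e | e
          · exact Or.inr (Or.inr (Or.inl (inv_mul_eq_one.1 e).symm))
          · exact Or.inr (Or.inr (Or.inr (inv_mul_eq_iff_eq_mul.1 e)))
      · rintro (rfl | rfl | rfl | rfl)
        · rw [one_mul, mul_one]
        · exact hxz'
        · rfl
        · rw [mul_assoc, hxz']
    rw [← SetLike.coe_sort_coe, hset, Nat.card_coe_set_eq, Set.ncard_coe_finset]
    have hx1 : x ≠ 1 := fun e => by simp [e] at hx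
    have hz1 : z ≠ 1 := fun e => by simp [e] at hz
    have hxz1 : (1 : (S : Subgroup G)) ≠ x * z := fun e => hxC (by
      rw [eq_inv_of_mul_eq_one_left e.symm]; exact inv_mem hzC)
    rw [Finset.card_insert_of_notMem (by simp [Ne.symm hz1, Ne.symm hx1, hxz1]),
      Finset.card_insert_of_notMem (by
        simp only [Finset.mem_insert, Finset.mem_singleton, not_or]
        exact ⟨Ne.symm hxz, fun e => hx1 (by simpa using e.symm)⟩),
      Finset.card_insert_of_notMem (by simp [hz1]), Finset.card_singleton]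
  · exfalso
    push Not at hsmall
    obtain ⟨w, hwC, hwx, hw1, hwz⟩ := hsmall
    obtain ⟨χ, hχ, hχx, -⟩ := Φ.ext hzc hR
    obtain ⟨k, hk⟩ := IsPGroup.iff_orderOf.1 S.2 w
    rcases k with _ | _ | k
    · exact hw1 (orderOf_eq_one_iff.1 (by rw [hk, pow_zero]))
    · exact hwz (huniq w z hwC hzC (by rw [hk, pow_one]) hz)
    set c := w ^ (2 ^ k) with hcdef
    have hc : orderOf c = 4 := by
      rw [hcdef, orderOf_pow_of_dvd (by positivity) (by rw [hk]; exact pow_dvd_pow 2 (by omega)), hk,
        show k + 1 + 1 = k + 2 by omega, pow_add, Nat.mul_div_cancel_left _ (by positivity)]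
      norm_num
    have hcC : c ∈ C := pow_mem hwC _
    have hcz : c ^ 2 = z := huniq _ _ (pow_mem hcC 2) hzC (by
      rw [orderOf_pow_of_dvd two_ne_zero (by rw [hc]; norm_num), hc]) hz
    have hcx : c ∈ centralizer ({x} : Set (S : Subgroup G)) :=
      mem_centralizer_singleton_iff.2 ((show Commute w x from hwx).pow_left _).eq
    have hzx : z ∈ centralizer ({x} : Set (S : Subgroup G)) :=
      mem_centralizer_singleton_iff.2 (mem_center_iff.1 hzc x).symm
    have h4 : χ ⟨z, hzx⟩ = χ ⟨c, hcx⟩ ^ 2 := by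
      rw [← map_pow]
      exact congrArg χ (Subtype.ext (by rw [SubgroupClass.coe_pow, hcz]))
    have h5 : χ ⟨z, hzx⟩ = z := huniq _ _ (h4 ▸ sq_mem_of_index_two hC2 _) hzC (by
      rw [orderOf_injective χ hχ, orderOf_mk, hz]) hz
    exact hxz (congrArg Subtype.val (hχ ((hχx (mem_centralizer_singleton_iff.2 rfl)).trans h5.symm)))

/-- The alternating group of degree seven has a noncyclic Sylow 3-subgroup. -/
theorem not_almost_alt_seven : ¬ Almost (alternatingGroup (Fin 7)) := by
  intro h
  haveI : Fact (Nat.Prime 3) := ⟨Nat.prime_three⟩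
  let a : alternatingGroup (Fin 7) := ⟨Equiv.swap 0 1 * Equiv.swap 1 2, by
    rw [Equiv.Perm.mem_alternatingGroup]; decide⟩
  let b : alternatingGroup (Fin 7) := ⟨Equiv.swap 3 4 * Equiv.swap 4 5, by
    rw [Equiv.Perm.mem_alternatingGroup]; decide⟩
  refine h.no_pair (p := 3) (by norm_num) (a := a) (b := b) (orderOf_eq_prime (by decide) (by decide))
    (orderOf_eq_prime (by decide) (by decide)) (show a * b = b * a by decide) ?_
  rw [Subgroup.disjoint_def]
  intro x hx hy
  have hxo : ∀ {g : alternatingGroup (Fin 7)}, g ^ 3 = 1 → x ∈ zpowers g → x = 1 ∨ x = g ∨ x = g * g := by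
    intro g hg hm
    obtain ⟨i, rfl⟩ := hm
    have h3 : g ^ (3 : ℤ) = 1 := by rw [show (3 : ℤ) = ((3 : ℕ) : ℤ) from rfl, zpow_natCast, hg]
    show g ^ i = 1 ∨ g ^ i = g ∨ g ^ i = g * g
    rw [← Int.mul_ediv_add_emod i 3, zpow_add, zpow_mul, h3, one_zpow, one_mul]
    rcases (show i % 3 = 0 ∨ i % 3 = 1 ∨ i % 3 = 2 by omega) with e | e | e <;> rw [e]
    · simp
    · simp
    · exact Or.inr (Or.inr (zpow_two g))
  rcases hxo (g := a) (by decide) hx with rfl | rfl | rfl <;>
    rcases hxo (g := b) (by decide) hy with e | e | e <;>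
    first | rfl | (revert e; decide)

/-- The simple case. -/
theorem simple_case (hno : NoSemidihedral.{u}) [IsSimpleGroup G] (hG : ¬ IsMulCommutative G)
    (h : Almost G) :
    ∃ (p : ℕ) (_ : Fact p.Prime), 5 ≤ p ∧
      Nonempty (G ≃* Matrix.ProjectiveSpecialLinearGroup (Fin 2) (ZMod p)) := by
  obtain ⟨S⟩ := (inferInstance : Nonempty (Sylow 2 G))
  rcases simple_sylow hG h S with ⟨m, hm, hS⟩ | hS
  swap
  · exact absurd hS (hno G inferInstance h.1 S)
  rcases GW.simpleDihedral G S m hm hS with ⟨F, _, _, hodd, h3, ⟨e⟩⟩ | ⟨⟨e⟩⟩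
  swap
  · exact absurd (h.of_surjective e.toMonoidHom e.surjective) not_almost_alt_seven
  classical
  obtain ⟨f, hp, hf⟩ := FiniteField.card F (ringChar F)
  set p := ringChar F
  haveI := Fact.mk hp
  have hp2 : p ≠ 2 := by
    intro e2
    rw [hf, e2] at hodd
    exact (Nat.not_odd_iff_even.2 (even_two.pow_of_ne_zero f.ne_zero)) hodd
  let up : Multiplicative F →* Matrix.SpecialLinearGroup (Fin 2) F := MonoidHom.mk'
    (fun t => (⟨!![1, Multiplicative.toAdd t; 0, 1], by simp [Matrix.det_fin_two]⟩ :
      Matrix.SpecialLinearGroup (Fin 2) F))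
    fun s t => Subtype.ext (by
      show !![(1 : F), Multiplicative.toAdd (s * t); 0, 1] =
        !![(1 : F), Multiplicative.toAdd s; 0, 1] * !![(1 : F), Multiplicative.toAdd t; 0, 1]
      ext i j
      fin_cases i <;> fin_cases j <;> simp [Matrix.mul_apply, Fin.sum_univ_two, add_comm])
  let ι : Multiplicative F →* G :=
    e.symm.toMonoidHom.comp ((QuotientGroup.mk' _).comp up)
  have hι : Function.Injective ι := by
    rw [injective_iff_map_eq_one]
    intro t ht
    have h1 : (QuotientGroup.mk' (center (Matrix.SpecialLinearGroup (Fin 2) F))) (up t) = 1 :=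
      e.symm.injective (by rw [map_one]; exact ht)
    rw [QuotientGroup.mk'_apply, QuotientGroup.eq_one_iff] at h1
    obtain ⟨r, -, hr⟩ := Matrix.SpecialLinearGroup.mem_center_iff.1 h1
    have h01 := congrFun (congrFun hr 0) 1
    have h02 : Multiplicative.toAdd t = (0 : F) := h01.symm.trans (by simp)
    exact Multiplicative.toAdd.injective h02
  have hle := h.card_le hp2 ι hι fun t => by
    apply Multiplicative.toAdd.injective
    rw [toAdd_pow, toAdd_one, nsmul_eq_mul, CharP.cast_eq_zero, zero_mul]
  rw [Nat.card_congr Multiplicative.toAdd, Nat.card_eq_fintype_card, hf] at hle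
  have hf1 : (f : ℕ) = 1 := by
    by_contra hne
    have : p < p ^ (f : ℕ) := by
      calc p = p ^ 1 := (pow_one p).symm
        _ < p ^ (f : ℕ) := Nat.pow_lt_pow_right hp.one_lt (by have := f.pos; omega)
    omega
  rw [hf1, pow_one] at hf
  refine ⟨p, ⟨hp⟩, ?_, ?_⟩
  · obtain ⟨k, hk⟩ := hodd
    omega
  · obtain ⟨e'⟩ := PSucc.psl_congr (ZMod.ringEquivOfPrime F hp hf).symm
    exact ⟨e.trans e'⟩

end Cfsg.Agent.SDPack
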