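import Cfsg.Agent.Lib.SDPack.StructBasic
import Cfsg.Agent.Lib.GW.DoubleCover
import Cfsg.Agent.Lib.Classical.DicksonProper
import Cfsg.Agent.S0813

/-!
Perfect groups with cyclic odd Sylow subgroups and a cyclic subgroup of index at most two in the
Sylow 2-subgroups.
-/

set_option autoImplicit false
set_option linter.style.haveILetI false

namespace Cfsg.Agent.SDPack

open Subgroup

open scoped Pointwise commutatorElement

universe u v

section Fix

variable {P : Type u} [Group P] [Finite P]

/-- Automorphisms of prime power order `p ≥ 5` of a 2-group with a cyclic subgroup of index at most two are trivial. -/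
theorem aut_trivial (hP : IsPGroup 2 P) (C : Subgroup P) [hC : IsCyclic C] (hi : C.index ∣ 2) {p k : ℕ}
    (hp : p.Prime) (h5 : 5 ≤ p) (σ : MulAut P) (hσ : σ ^ p ^ k = 1) : σ = 1 := by
  classical
  haveI : Fact p.Prime := ⟨hp⟩
  haveI : Fact (Nat.Prime 2) := ⟨Nat.prime_two⟩
  obtain ⟨⟨c, hcC⟩, hcgen⟩ := hC.exists_generator
  have hgen : ∀ x ∈ C, ∃ i : ℤ, c ^ i = x := fun x hx => by
    obtain ⟨i, hi⟩ := hcgen ⟨x, hx⟩
    exact ⟨i, by simpa using congrArg Subtype.val hi⟩
  -- the cyclic subgroup is invariant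
  have hfix : σ • C = C := by
    rcases (Nat.dvd_prime Nat.prime_two).1 hi with h1 | h2
    · rw [index_eq_one] at h1
      subst h1
      exact SetLike.ext fun x => by simp [Subgroup.mem_pointwise_smul_iff_inv_smul_mem]
    obtain ⟨s, hs⟩ : ∃ s, s ∉ C := by
      by_contra hno
      push Not at hno
      rw [(eq_top_iff' C).2 hno, index_top] at h2
      omega
    let T := {H : Subgroup P // H.index = 2}
    have hinj : Function.Injective (fun H : T => (decide (c ∈ H.1), decide (s ∈ H.1))) := by
      intro H K e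
      simp only [Prod.mk.injEq, decide_eq_decide] at e
      let D : Subgroup P :=
        { carrier := {x | x ∈ H.1 ↔ x ∈ K.1}
          mul_mem' := fun {a b} ha hb => by
            show a * b ∈ H.1 ↔ a * b ∈ K.1
            rw [mul_mem_iff_of_index_two H.2, mul_mem_iff_of_index_two K.2]
            exact iff_congr ha hb
          one_mem' := iff_of_true (one_mem _) (one_mem _)
          inv_mem' := fun {a} ha => by
            show a⁻¹ ∈ H.1 ↔ a⁻¹ ∈ K.1
            rw [inv_mem_iff, inv_mem_iff]; exact ha }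
      have hCD : C ≤ D := fun x hx => by
        obtain ⟨i, rfl⟩ := hgen x hx
        exact zpow_mem (e.1 : c ∈ D) i
      refine Subtype.ext (SetLike.ext fun x => ?_)
      by_cases hx : x ∈ C
      · exact hCD hx
      · have h3 : s⁻¹ * x ∈ C := (mul_mem_iff_of_index_two h2).2
          (iff_of_false (fun hm => hs (inv_mem_iff.1 hm)) hx)
        have h4 := mul_mem (e.2 : s ∈ D) (hCD h3)
        rwa [mul_inv_cancel_left] at h4
    have hne : ∀ H : T, (decide (c ∈ H.1), decide (s ∈ H.1)) ≠ (true, true) := by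
      intro H e
      simp only [Prod.mk.injEq, decide_eq_true_eq] at e
      have : H.1 = ⊤ := (eq_top_iff' _).2 fun x => by
        have hCH : C ≤ H.1 := fun y hy => by
          obtain ⟨i, rfl⟩ := hgen y hy
          exact zpow_mem e.1 i
        by_cases hx : x ∈ C
        · exact hCH hx
        · have h4 := mul_mem e.2 (hCH ((mul_mem_iff_of_index_two h2).2
            (iff_of_false (fun hm => hs (inv_mem_iff.1 hm)) hx) : s⁻¹ * x ∈ C))
          rwa [mul_inv_cancel_left] at h4
      have := H.2
      simp_all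
    have hT : Nat.card T ≤ 3 := by
      have h := Nat.card_le_card_of_injective
        (fun H : T => (⟨_, hne H⟩ : {b : Bool × Bool // b ≠ (true, true)}))
        fun H K e => hinj (congrArg Subtype.val e)
      simpa using h
    have hZ : IsPGroup p (zpowers σ) := by
      intro g
      refine ⟨k, ?_⟩
      obtain ⟨i, hi⟩ := g.2
      apply Subtype.ext
      rw [SubgroupClass.coe_pow, ← hi, ← zpow_natCast, ← zpow_mul, mul_comm, zpow_mul, zpow_natCast, hσ,
        one_zpow, coe_one]
    obtain ⟨n, hn⟩ := hZ.card_orbit C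
    have hsub : ∀ H ∈ MulAction.orbit (zpowers σ) C, H.index = 2 := by
      rintro _ ⟨g, rfl⟩
      show ((g : MulAut P) • C).index = 2
      rw [← h2]
      exact index_map_equiv C (g : MulAut P)
    have hle : Nat.card (MulAction.orbit (zpowers σ) C) ≤ 3 :=
      le_trans (Nat.card_le_card_of_injective (fun H => (⟨H.1, hsub _ H.2⟩ : T))
        fun H K e => Subtype.ext (congrArg (fun t : T => t.1) e)) hT
    rcases n with _ | n
    · rw [pow_zero] at hn
      haveI : Subsingleton (MulAction.orbit (zpowers σ) C) := (Nat.card_eq_one_iff_unique.1 hn).1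
      exact congrArg Subtype.val (Subsingleton.elim
        (⟨σ • C, ⟨⟨σ, mem_zpowers σ⟩, rfl⟩⟩ : MulAction.orbit (zpowers σ) C)
        ⟨C, MulAction.mem_orbit_self C⟩)
    · exfalso
      have : p ≤ p ^ (n + 1) := Nat.le_self_pow (by omega) p
      omega
  have hmem : ∀ x ∈ C, σ x ∈ C := fun x hx => by
    have h0 : σ • x ∈ σ • C := Subgroup.smul_mem_pointwise_smul x σ C hx
    rw [hfix] at h0
    exact h0
  -- the restriction to the cyclic subgroup is trivial
  let τ : MulAut C := MulEquiv.ofBijective
    ((σ.toMonoidHom.comp C.subtype).codRestrict C fun x => hmem x x.2)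
    (Finite.injective_iff_bijective.1 fun x y h => Subtype.ext (σ.injective (congrArg Subtype.val h)))
  have hτ : ∀ i : ℕ, ∀ x : C, (((τ ^ i) x : C) : P) = (σ ^ i) x := by
    intro i
    induction i with
    | zero => intro x; rfl
    | succ i ih =>
      intro x
      rw [pow_succ, pow_succ, MulAut.mul_apply, MulAut.mul_apply, ih]
      rfl
  have hτp : τ ^ p ^ k = 1 := MulEquiv.ext fun x => Subtype.ext (by rw [hτ, hσ]; rfl)
  have hτ1 : τ = 1 := by
    rw [← orderOf_eq_one_iff]
    have ha : orderOf τ ∣ p ^ k := orderOf_dvd_of_pow_eq_one hτp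
    obtain ⟨j, hj⟩ := (hP.to_subgroup C).exists_card_eq
    have hb : orderOf τ ∣ 2 ^ j := by
      refine orderOf_dvd_natCard τ |>.trans ?_
      rw [IsCyclic.card_mulAut, hj]
      rcases j with _ | j
      · simp
      · rw [Nat.totient_prime_pow Nat.prime_two (Nat.succ_pos j)]
        simp [pow_succ]
    exact Nat.eq_one_of_dvd_coprimes
      (Nat.Coprime.pow _ _ ((Nat.coprime_primes hp Nat.prime_two).2 (by omega))) ha hb
  have hσC : ∀ x ∈ C, σ x = x := fun x hx => by
    have := congrArg (fun f : MulAut C => ((f ⟨x, hx⟩ : C) : P)) hτ1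
    exact this
  refine MulEquiv.ext fun x => ?_
  show σ x = x
  rcases (Nat.dvd_prime Nat.prime_two).1 hi with h1 | h2
  · exact hσC x (index_eq_one.1 h1 ▸ mem_top x)
  by_cases hx : x ∈ C
  · exact hσC x hx
  have hσx : σ x ∉ C := fun hm => hx (by
    have e := hσC _ hm
    rw [← σ.injective e]; exact hm)
  have hd : x⁻¹ * σ x ∈ C := (mul_mem_iff_of_index_two h2).2
    (iff_of_false (fun hm => hx (inv_mem_iff.1 hm)) hσx)
  set d := x⁻¹ * σ x with hdd
  have hit : ∀ i : ℕ, (σ ^ i) x = x * d ^ i := by
    intro i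
    induction i with
    | zero => simp
    | succ i ih =>
      rw [pow_succ', MulAut.mul_apply, ih, map_mul, hσC _ (pow_mem hd i), pow_succ', ← mul_assoc, hdd,
        mul_inv_cancel_left]
  have hd1 := hit (p ^ k)
  rw [hσ, MulAut.one_apply, left_eq_mul] at hd1
  obtain ⟨a, ha⟩ := hP d
  have : d = 1 := by
    rw [← orderOf_eq_one_iff]
    exact Nat.eq_one_of_dvd_coprimes
      (Nat.Coprime.pow _ _ ((Nat.coprime_primes hp Nat.prime_two).2 (by omega)))
      (orderOf_dvd_of_pow_eq_one hd1) (orderOf_dvd_of_pow_eq_one ha)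
  rw [hdd, inv_mul_eq_one] at this
  exact this.symm

end Fix

section

variable {G : Type u} [Group G] [Finite G]

/-- The solvable residual of a non-solvable group. -/
theorem exists_residual (hns : ¬ Group.IsSolvable G) :
    ∃ R : Subgroup G, R.Characteristic ∧ R ≠ ⊥ ∧ commutator R = ⊤ ∧
      ∀ [R.Normal], Group.IsSolvable (G ⧸ R) := by
  obtain ⟨n, hn⟩ : ∃ n, derivedSeries G (n + 1) = derivedSeries G n := by
    by_contra hno
    push Not at hno
    have h : ∀ n, Nat.card (derivedSeries G n) + n ≤ Nat.card G := by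
      intro n
      induction n with
      | zero => simpa using (card_le_card_group (derivedSeries G 0))
      | succ n ih =>
        have hle : derivedSeries G (n + 1) ≤ derivedSeries G n := derivedSeries_antitone G n.le_succ
        have hlt : Nat.card (derivedSeries G (n + 1)) < Nat.card (derivedSeries G n) :=
          lt_of_le_of_ne (card_le_of_le hle) fun h =>
            hno n (eq_of_le_of_card_ge hle h.ge)
        omega
    have := h (Nat.card G + 1)
    omega
  refine ⟨derivedSeries G n, derivedSeries_characteristic G n,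
    fun h => hns ((Group.isSolvable_def G).2 ⟨n, h⟩), ?_, ?_⟩
  · apply map_injective (derivedSeries G n).subtype_injective
    rw [map_subtype_commutator, ← MonoidHom.range_eq_map, range_subtype]
    rw [derivedSeries_succ] at hn
    exact hn
  · intro _
    refine (Group.isSolvable_def _).2 ⟨n, ?_⟩
    rw [← map_derivedSeries_eq (QuotientGroup.mk'_surjective (derivedSeries G n)) n, Subgroup.map_eq_bot_iff,
      QuotientGroup.ker_mk']

omit [Finite G] in
/-- A perfect group has no nontrivial solvable quotient. -/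
theorem ker_eq_top {H : Type v} [Group H] [Group.IsSolvable H] (hG : commutator G = ⊤) (f : G →* H) :
    f.ker = ⊤ := by
  have h : ∀ n, derivedSeries G n = ⊤ := by
    intro n
    induction n with
    | zero => rfl
    | succ n ih => rw [derivedSeries_succ, ih]; exact hG
  obtain ⟨n, hn⟩ := (Group.isSolvable_def H).1 inferInstance
  rw [eq_top_iff]
  intro g _
  have := map_derivedSeries_le_derivedSeries f n ⟨g, (h n).symm ▸ mem_top g, rfl⟩
  rw [hn, mem_bot] at this
  exact this

omit [Finite G] in
theorem ker_eq_top_of_comm {H : Type v} [Group H] (hG : commutator G = ⊤) (f : G →* H)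
    (hc : ∀ a b : H, a * b = b * a) : f.ker = ⊤ :=
  haveI : Group.IsSolvable H := Group.isSolvable_of_comm hc
  ker_eq_top hG f

/-- A solvable normal subgroup of such a perfect group is central. -/
theorem le_center (hG : commutator G = ⊤) (h : Almost G) {p : ℕ} (hp : p.Prime) (h5 : 5 ≤ p)
    (hgen : closure {g : G | ∃ k : ℕ, g ^ p ^ k = 1} = ⊤) :
    ∀ n (M : Subgroup G), Nat.card M = n → M.Normal → Group.IsSolvable M → M ≤ center G := by
  intro n
  induction n using Nat.strong_induction_on with
  | _ n ih =>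
  intro M hn hMn hMs
  haveI := hMn
  rcases eq_or_ne M ⊥ with rfl | hne
  · exact bot_le
  -- the derived subgroup is central
  have hder : (commutator M).map M.subtype ≤ center G := by
    refine ih _ ?_ ((commutator M).map M.subtype) rfl inferInstance ?_
    · rw [← hn, card_map_of_injective M.subtype_injective]
      haveI : Nontrivial M := (nontrivial_iff_ne_bot M).2 hne
      have hlt : commutator M < ⊤ := Group.IsSolvable.commutator_lt_top_of_nontrivial M
      exact lt_of_le_of_ne (card_subgroup_dvd_card _ |> Nat.le_of_dvd Nat.card_pos) fun e =>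
        hlt.ne ((card_eq_iff_eq_top _).1 e)
    · exact solvable_of_surjective (M.subtype.subgroupMap_surjective (commutator M))
  haveI : Group.IsNilpotent M := by
    refine Subgroup.isNilpotent_of_ker_le_center (Abelianization.of : M →* Abelianization M) ?_
    rw [Abelianization.ker_of]
    intro x hx
    refine mem_center_iff.2 fun y => Subtype.ext ?_
    exact mem_center_iff.1 (hder ⟨x, hx, rfl⟩) y
  -- the Sylow subgroups are central
  have hsyl : ∀ (q : ℕ) [Fact q.Prime] (Q : Sylow q M),
      (Q : Subgroup M).map M.subtype ≤ center G := by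
    intro q hq Q
    haveI : (Q : Subgroup M).Characteristic := Q.characteristic_of_normal inferInstance
    set R := (Q : Subgroup M).map M.subtype with hR
    haveI : R.Normal := inferInstance
    have hRq : IsPGroup q R := Q.2.map _
    have key : (MulAut.conjNormal (H := R) : G →* MulAut R).ker = ⊤ := by
      by_cases hq2 : q = 2
      · subst hq2
        obtain ⟨C, hC, hi⟩ := h.two_group hRq
        haveI := hC
        rw [eq_top_iff, ← hgen, closure_le]
        rintro g ⟨k, hk⟩
        exact aut_trivial hRq C hi hp h5 (k := k) (MulAut.conjNormal g) (by rw [← map_pow, hk, map_one])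
      · haveI : IsCyclic R := h.cyclic_pGroup hq2 hRq
        refine ker_eq_top_of_comm hG _ fun a b => (IsCyclic.mulAutMulEquiv R).injective ?_
        rw [map_mul, map_mul, mul_comm]
    intro x hx
    refine mem_center_iff.2 fun g => ?_
    have h1 : MulAut.conjNormal g ⟨x, hx⟩ = (⟨x, hx⟩ : R) := by
      have : g ∈ (MulAut.conjNormal (H := R) : G →* MulAut R).ker := key ▸ mem_top g
      rw [MonoidHom.mem_ker] at this
      rw [this]; rfl
    exact mul_inv_eq_iff_eq_mul.1 (congrArg Subtype.val h1)
  rw [← subgroupOf_eq_top, ← card_eq_iff_eq_top]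
  refine Nat.dvd_antisymm (card_subgroup_dvd_card _)
    ((Nat.dvd_iff_prime_pow_dvd_dvd _ _).2 fun q k hq hd => ?_)
  haveI := Fact.mk hq
  obtain ⟨Q⟩ := (inferInstance : Nonempty (Sylow q M))
  refine (Q.pow_dvd_card_of_pow_dvd_card hd).trans (card_dvd_of_le fun x hx => ?_)
  exact hsyl q Q ⟨x, hx, rfl⟩

/-- The index of `R C(R)` for a normal `R` over `PSL(2, p)` divides two. -/
theorem index_sup_centralizer (R : Subgroup G) [R.Normal] (hperf : commutator R = ⊤) {p : ℕ}
    [Fact p.Prime] (h5 : 5 ≤ p)
    (e : R ⧸ center R ≃* Matrix.ProjectiveSpecialLinearGroup (Fin 2) (ZMod p))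
    (hbot : center (R ⧸ center R) = ⊥) :
    (R ⊔ centralizer (R : Set G)).index ∣ 2 := by
  classical
  set Q := R ⧸ center R
  let f : G →* MulAut Q := MonoidHom.mk'
    (fun g => QuotientGroup.congr (center R) (center R) (MulAut.conjNormal g)
      (characteristic_iff_map_eq.1 inferInstance _))
    fun a b => MulEquiv.ext fun x => by
      obtain ⟨r, rfl⟩ := QuotientGroup.mk_surjective x
      simp only [MulAut.mul_apply, QuotientGroup.congr_mk, map_mul]
      rfl
  have hfapp : ∀ (g : G) (r : R), f g (r : Q) = ((MulAut.conjNormal g r : R) : Q) := fun g r => rfl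
  have hker : f.ker = centralizer (R : Set G) := by
    ext g
    constructor
    · intro hg
      rw [MonoidHom.mem_ker] at hg
      -- the error term is a homomorphism into the centre
      have hz : ∀ r : R, r⁻¹ * MulAut.conjNormal g r ∈ center R := fun r => by
        rw [← QuotientGroup.eq, ← hfapp, hg, MulAut.one_apply]
      let δ : R →* center R := MonoidHom.mk' (fun r => ⟨r⁻¹ * MulAut.conjNormal g r, hz r⟩)
        fun a b => Subtype.ext (by
          show (a * b)⁻¹ * MulAut.conjNormal g (a * b) = _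
          have hc := mem_center_iff.1 (hz a) b⁻¹
          rw [map_mul, mul_inv_rev, mul_assoc, ← mul_assoc a⁻¹, ← mul_assoc, hc, mul_assoc]
          rfl)
      refine mem_centralizer_iff.2 fun r hr => ?_
      have hr1 : (⟨r, hr⟩ : R) ∈ δ.ker :=
        ker_eq_top_of_comm hperf δ (fun a b => Subtype.ext (mem_center_iff.1 b.2 a)) ▸ mem_top _
      have h1 : (⟨r, hr⟩ : R)⁻¹ * MulAut.conjNormal g ⟨r, hr⟩ = 1 := congrArg Subtype.val hr1
      have h2 : r = g * r * g⁻¹ := congrArg Subtype.val (inv_mul_eq_one.1 h1)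
      exact (mul_inv_eq_iff_eq_mul.1 h2.symm).symm
    · intro hg
      rw [MonoidHom.mem_ker]
      refine MulEquiv.ext fun x => ?_
      obtain ⟨r, rfl⟩ := QuotientGroup.mk_surjective x
      rw [hfapp, MulAut.one_apply]
      refine congrArg _ (Subtype.ext ?_)
      show g * (r : G) * g⁻¹ = r
      rw [← mem_centralizer_iff.1 hg r r.2, mul_inv_cancel_right]
  have hinn : R.map f = (MulAut.conj : Q →* MulAut Q).range := by
    have key : ∀ r : R, f (r : G) = MulAut.conj (r : Q) := fun r => by
      refine MulEquiv.ext fun x => ?_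
      obtain ⟨s, rfl⟩ := QuotientGroup.mk_surjective x
      rw [hfapp, MulAut.conj_apply, ← QuotientGroup.mk_inv, ← QuotientGroup.mk_mul, ← QuotientGroup.mk_mul]
      exact congrArg _ (Subtype.ext rfl)
    ext β
    constructor
    · rintro ⟨r, hr, rfl⟩
      exact ⟨_, (key ⟨r, hr⟩).symm⟩
    · rintro ⟨x, rfl⟩
      obtain ⟨r, rfl⟩ := QuotientGroup.mk_surjective x
      exact ⟨r, r.2, key r⟩
  have h1 := index_map (H := R) f
  rw [hker] at h1
  have hc := card_mul_index (R.map f)
  have hker' : (MulAut.conj : Q →* MulAut Q).ker = ⊥ := by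
    rw [← hbot]
    ext x
    rw [MonoidHom.mem_ker, mem_center_iff, MulEquiv.ext_iff]
    refine forall_congr' fun y => ?_
    rw [MulAut.conj_apply, MulAut.one_apply, mul_inv_eq_iff_eq_mul]
    exact eq_comm
  have hcQ : Nat.card (R.map f) = Nat.card (Matrix.ProjectiveSpecialLinearGroup (Fin 2) (ZMod p)) := by
    rw [hinn, ← Nat.card_congr (MonoidHom.ofInjective ((MonoidHom.ker_eq_bot_iff _).1 hker')).toEquiv,
      Nat.card_congr e.toEquiv]
  have hA : Nat.card (MulAut Q) =
      Nat.card (Matrix.ProjectiveSpecialLinearGroup (Fin 2) (ZMod p)) * 2 := by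
    rw [Nat.card_congr (MulAut.congr e).toEquiv,
      S0813.result p 1 le_rfl (by rw [ZMod.card, pow_one]) 2 le_rfl (fun _ => by rw [pow_one]; omega),
      if_pos rfl, one_mul, one_mul, Dickson.card_pgl2, ← Dickson.gcd_mul_card_psl, mul_comm]
    congr 1
    rw [Nat.card_zmod, Nat.gcd_eq_left]
    have := (Fact.out : p.Prime).eq_two_or_odd
    omega
  rw [hA, hcQ] at hc
  have h2 : (R.map f).index = 2 := Nat.eq_of_mul_eq_mul_left Nat.card_pos hc
  exact h2 ▸ h1 ▸ Dvd.intro _ rfl

/-- The shape of a perfect group. -/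
def PerfectShape (E : Type u) [Group E] : Prop :=
  ∃ (p : ℕ) (_ : Fact p.Prime), 5 ≤ p ∧ Nat.card (center E) ∣ 2 ∧ center (E ⧸ center E) = ⊥ ∧
    Nonempty (E ⧸ center E ≃* Matrix.ProjectiveSpecialLinearGroup (Fin 2) (ZMod p)) ∧
    (Nonempty (E ≃* Matrix.ProjectiveSpecialLinearGroup (Fin 2) (ZMod p)) ∨
      Nonempty (E ≃* Matrix.SpecialLinearGroup (Fin 2) (ZMod p)))

/-- Three divides the order of a group of this shape. -/
theorem PerfectShape.three_dvd {E : Type u} [Group E] [Finite E] (h : PerfectShape E) :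
    3 ∣ Nat.card E := by
  obtain ⟨p, hp, h5, -, -, ⟨e⟩, -⟩ := h
  have h3 : 3 ∣ 2 * Nat.card (Matrix.ProjectiveSpecialLinearGroup (Fin 2) (ZMod p)) := by
    have hd : Nat.gcd 2 (Nat.card (ZMod p) - 1) * Nat.card (Matrix.ProjectiveSpecialLinearGroup (Fin 2) (ZMod p)) ∣
        2 * Nat.card (Matrix.ProjectiveSpecialLinearGroup (Fin 2) (ZMod p)) :=
      mul_dvd_mul_right (Nat.gcd_dvd_left _ _) _
    refine dvd_trans ?_ hd
    rw [Dickson.gcd_mul_card_psl, Nat.card_zmod]
    have h0 : p % 3 = 0 ∨ p % 3 = 1 ∨ p % 3 = 2 := by omega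
    have hsq : (p ^ 2 - 1) % 3 = 0 ∨ p % 3 = 0 := by
      rcases h0 with h | h | h
      · exact Or.inr h
      all_goals
        left
        have h1 : p ^ 2 % 3 = 1 := by rw [Nat.pow_mod, h]
        omega
    rcases hsq with h | h
    · exact Dvd.dvd.mul_left (Nat.dvd_of_mod_eq_zero h) _
    · exact Dvd.dvd.mul_right (Nat.dvd_of_mod_eq_zero h) _
  have h3' := (Nat.Coprime.dvd_of_dvd_mul_left (by norm_num) h3)
  rw [card_eq_card_quotient_mul_card_subgroup (center E), Nat.card_congr e.toEquiv]
  exact Dvd.dvd.mul_right h3' _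

/-- The perfect case. -/
theorem perfect_case (hno : NoSemidihedral.{u}) : ∀ n (E : Type u) [Group E] [Finite E],
    Nat.card E = n → Nontrivial E → commutator E = ⊤ → Almost E → PerfectShape E := by
  intro n
  induction n using Nat.strong_induction_on with
  | _ n ih =>
  intro E _ _ hn hnt hperf h
  obtain ⟨M, hM⟩ := Set.Finite.exists_maximal (s := {N : Subgroup E | N.Normal ∧ N ≠ ⊤})
    (Set.toFinite _) ⟨⊥, inferInstance, bot_ne_top⟩
  obtain ⟨⟨hMn, hMt⟩, hmax⟩ := hM
  haveI := hMn
  haveI : Nontrivial (E ⧸ M) := QuotientGroup.nontrivial_iff.2 hMt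
  haveI hsimple : IsSimpleGroup (E ⧸ M) := by
    refine ⟨fun N hN => ?_⟩
    have hle : M ≤ N.comap (QuotientGroup.mk' M) := QuotientGroup.le_comap_mk' M N
    rcases eq_or_ne (N.comap (QuotientGroup.mk' M)) ⊤ with e | e
    · exact Or.inr (comap_injective (QuotientGroup.mk'_surjective M) (by rw [e, comap_top]))
    · left
      have := le_antisymm (hmax ⟨inferInstance, e⟩ hle) hle
      apply comap_injective (QuotientGroup.mk'_surjective M)
      rw [this, MonoidHom.comap_bot, QuotientGroup.ker_mk']
  have hnab : ¬ IsMulCommutative (E ⧸ M) := fun hc => hMt (by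
    have := ker_eq_top_of_comm hperf (QuotientGroup.mk' M) fun a b => mul_comm' a b
    rwa [QuotientGroup.ker_mk'] at this)
  obtain ⟨p, hp, h5, ⟨e⟩⟩ := simple_case hno hnab (h.quotient M)
  -- `M` is solvable
  have hMs : Group.IsSolvable M := by
    by_contra hns
    obtain ⟨D₀, hD₀c, hD₀ne, hD₀p, -⟩ := exists_residual hns
    set D := D₀.map M.subtype with hD
    haveI := hD₀c
    haveI : D.Normal := inferInstance
    have hDM : D ≤ M := map_subtype_le D₀
    have hDne : D ≠ ⊥ := fun e => hD₀ne ((map_eq_bot_iff_of_injective _ M.subtype_injective).1 e)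
    have eD : D₀ ≃* D := D₀.equivMapOfInjective M.subtype M.subtype_injective
    have hDp : commutator D = ⊤ := by
      have := congrArg (map eD.toMonoidHom) hD₀p
      rw [_root_.commutator_def, map_commutator, map_top_of_surjective _ eD.surjective] at this
      exact this
    have small : ∀ H : Subgroup E, H ≠ ⊤ → H ≠ ⊥ → commutator H = ⊤ → PerfectShape H := by
      intro H hH hH0 hHp
      refine ih _ ?_ H rfl ((nontrivial_iff_ne_bot H).2 hH0) hHp (h.subgroup H)
      rw [← hn]
      exact lt_of_le_of_ne (Nat.le_of_dvd Nat.card_pos (card_subgroup_dvd_card H))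
        fun e => hH ((card_eq_iff_eq_top H).1 e)
    have hDS := small D (fun e => hMt (top_le_iff.1 (e ▸ hDM))) hDne hDp
    obtain ⟨q, hq, hq5, hq2, hqb, ⟨eq⟩, -⟩ := hDS
    set C := centralizer (D : Set E) with hC
    have hDC : D ⊔ C = ⊤ := by
      have hi := index_sup_centralizer D hDp hq5 eq hqb
      rcases (Nat.dvd_prime Nat.prime_two).1 hi with e1 | e2
      · exact index_eq_one.1 e1
      · exfalso
        haveI : (D ⊔ C).Normal := normal_of_index_eq_two e2
        haveI : Fact (Nat.Prime 2) := ⟨Nat.prime_two⟩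
        haveI : IsCyclic (E ⧸ (D ⊔ C)) := isCyclic_of_prime_card (p := 2) (by rw [← index_eq_card, e2])
        have := ker_eq_top_of_comm hperf (QuotientGroup.mk' (D ⊔ C)) fun a b =>
          haveI := IsCyclic.commutative (α := E ⧸ (D ⊔ C)); mul_comm' a b
        rw [QuotientGroup.ker_mk'] at this
        rw [this, index_top] at e2
        omega
    have hCs : ¬ Group.IsSolvable C := by
      intro hs
      have : Group.IsSolvable (E ⧸ D) := by
        haveI := hs
        refine solvable_of_surjective (f := (QuotientGroup.mk' D).comp C.subtype) fun x => ?_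
        obtain ⟨g, rfl⟩ := QuotientGroup.mk_surjective x
        obtain ⟨d, hd, c, hc, rfl⟩ := mem_sup_of_normal_left.1 (hDC.symm ▸ mem_top g)
        exact ⟨⟨c, hc⟩, ((QuotientGroup.mk_mul D d c).trans (by
          rw [(QuotientGroup.eq_one_iff d).2 hd, one_mul]; rfl)).symm⟩
      have := ker_eq_top hperf (QuotientGroup.mk' D)
      rw [QuotientGroup.ker_mk'] at this
      exact hMt (top_le_iff.1 (this ▸ hDM))
    obtain ⟨R₀, hR₀c, hR₀ne, hR₀p, -⟩ := exists_residual hCs
    set R := R₀.map C.subtype with hR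
    have hRne : R ≠ ⊥ := fun e => hR₀ne ((map_eq_bot_iff_of_injective _ C.subtype_injective).1 e)
    have hRC : R ≤ C := map_subtype_le R₀
    have eR : R₀ ≃* R := R₀.equivMapOfInjective C.subtype C.subtype_injective
    have hRp : commutator R = ⊤ := by
      have := congrArg (map eR.toMonoidHom) hR₀p
      rw [_root_.commutator_def, map_commutator, map_top_of_surjective _ eR.surjective] at this
      exact this
    have hRt : R ≠ ⊤ := by
      intro e
      have hDz : D ≤ center E := fun d hd => mem_center_iff.2 fun g =>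
        (mem_centralizer_iff.1 (hRC (e ▸ mem_top g)) d hd).symm
      haveI : Nontrivial D := (nontrivial_iff_ne_bot D).2 hDne
      have := ker_eq_top_of_comm hDp (MonoidHom.id D)
        (fun a b => Subtype.ext ((mem_center_iff.1 (hDz a.2) b).symm))
      obtain ⟨a, ha⟩ := exists_ne (1 : D)
      exact ha (MonoidHom.mem_ker.1 (this ▸ mem_top a))
    haveI : Fact (Nat.Prime 3) := ⟨Nat.prime_three⟩
    obtain ⟨a, ha⟩ := exists_prime_orderOf_dvd_card' (G := D) 3
      (small D (fun e => hMt (top_le_iff.1 (e ▸ hDM))) hDne hDp).three_dvd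
    obtain ⟨b, hb⟩ := exists_prime_orderOf_dvd_card' (G := R) 3 (small R hRt hRne hRp).three_dvd
    refine h.no_pair (p := 3) (by norm_num) (a := (a : E)) (b := (b : E)) (by rw [orderOf_coe, ha])
      (by rw [orderOf_coe, hb]) (mem_centralizer_iff.1 (hRC b.2) a a.2) ?_
    rw [disjoint_def]
    intro x hxa hxb
    have hxD : x ∈ D := zpowers_le.2 a.2 hxa
    have hxC : x ∈ C := hRC (zpowers_le.2 b.2 hxb)
    have hxz : (⟨x, hxD⟩ : D) ∈ center D :=
      mem_center_iff.2 fun d => Subtype.ext (mem_centralizer_iff.1 hxC d d.2)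
    have h1 : orderOf x ∣ 2 := by
      have := (orderOf_dvd_natCard (⟨⟨x, hxD⟩, hxz⟩ : center D)).trans hq2
      rwa [orderOf_mk, orderOf_mk] at this
    have h2 : orderOf x ∣ 3 := by
      have h3 : orderOf (a : E) = 3 := by rw [orderOf_coe, ha]
      rw [← h3]
      obtain ⟨i, rfl⟩ := hxa
      exact orderOf_dvd_of_pow_eq_one (by
        rw [← zpow_natCast, ← zpow_mul, mul_comm, zpow_mul, zpow_natCast, pow_orderOf_eq_one, one_zpow])
    exact orderOf_eq_one_iff.1 (Nat.eq_one_of_dvd_coprimes (by norm_num) h1 h2)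
  -- the group is generated by its `p`-elements
  have hgen : closure {g : E | ∃ k : ℕ, g ^ p ^ k = 1} = ⊤ := by
    set X := closure {g : E | ∃ k : ℕ, g ^ p ^ k = 1} with hX
    haveI : X.Normal := by
      refine ⟨fun x hx g => ?_⟩
      induction hx using closure_induction with
      | mem y hy =>
        obtain ⟨k, hk⟩ := hy
        exact subset_closure ⟨k, by rw [conj_pow, hk]; group⟩
      | one => simp [one_mem]
      | mul a b _ _ iha ihb =>
        rw [show g * (a * b) * g⁻¹ = g * a * g⁻¹ * (g * b * g⁻¹) by group]; exact mul_mem iha ihb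
      | inv a _ iha =>
        rw [show g * a⁻¹ * g⁻¹ = (g * a * g⁻¹)⁻¹ by group]; exact inv_mem iha
    haveI : (X.map (QuotientGroup.mk' M)).Normal := (inferInstance : X.Normal).map _ (QuotientGroup.mk'_surjective M)
    have hmap : X.map (QuotientGroup.mk' M) = ⊤ := by
      refine (Normal.eq_bot_or_eq_top inferInstance).resolve_left fun e0 => ?_
      have hd : p ∣ Nat.card (E ⧸ M) := by
        rw [Nat.card_congr e.toEquiv]
        have h1 := Dickson.gcd_mul_card_psl (K := ZMod p)
        rw [Nat.card_zmod] at h1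
        refine (Nat.Coprime.dvd_of_dvd_mul_left ?_ (h1 ▸ dvd_mul_right p _))
        exact ((Fact.out : p.Prime).coprime_iff_not_dvd).2 fun hd => by
          have := Nat.le_of_dvd (Nat.gcd_pos_of_pos_left _ two_pos) hd
          have := Nat.le_of_dvd two_pos (Nat.gcd_dvd_left 2 (p - 1))
          omega
      obtain ⟨x, hx⟩ := exists_prime_orderOf_dvd_card' p hd
      obtain ⟨g, rfl⟩ := QuotientGroup.mk_surjective x
      obtain ⟨a, m, hm, hgm⟩ := Nat.exists_eq_pow_mul_and_not_dvd (orderOf_pos g).ne' p
        (Fact.out : p.Prime).ne_one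
      have h1 : (QuotientGroup.mk' M) (g ^ m) ∈ X.map (QuotientGroup.mk' M) :=
        mem_map_of_mem _ (subset_closure ⟨a, by rw [← pow_mul, mul_comm, ← hgm, pow_orderOf_eq_one]⟩)
      rw [e0, mem_bot, map_pow] at h1
      exact hm (hx ▸ orderOf_dvd_of_pow_eq_one h1)
    have : Group.IsSolvable (E ⧸ X) := by
      haveI := hMs
      refine solvable_of_surjective (f := (QuotientGroup.mk' X).comp M.subtype) fun x => ?_
      obtain ⟨g, rfl⟩ := QuotientGroup.mk_surjective x
      obtain ⟨y, hy, hyg⟩ := (hmap.symm ▸ mem_top (QuotientGroup.mk' M g) : _ ∈ X.map _)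
      rw [QuotientGroup.mk'_eq_mk'] at hyg
      obtain ⟨z, hz, rfl⟩ := hyg
      exact ⟨⟨z, hz⟩, ((QuotientGroup.mk_mul X y z).trans (by
        rw [(QuotientGroup.eq_one_iff y).2 hy, one_mul]; rfl)).symm⟩
    have := ker_eq_top hperf (QuotientGroup.mk' X)
    rwa [QuotientGroup.ker_mk'] at this
  have hMZ : M ≤ center E := le_center hperf h hp.out h5 hgen _ M rfl hMn hMs
  have hqbot : center (E ⧸ M) = ⊥ := by
    refine (Normal.eq_bot_or_eq_top inferInstance).resolve_right fun e1 => hnab ⟨⟨fun a b => ?_⟩⟩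
    exact mem_center_iff.1 (e1 ▸ mem_top b) a
  have hZM : center E = M := by
    refine le_antisymm (fun z hz => ?_) hMZ
    rw [← QuotientGroup.eq_one_iff, ← mem_bot, ← hqbot, mem_center_iff]
    intro x
    obtain ⟨g, rfl⟩ := QuotientGroup.mk_surjective x
    rw [← QuotientGroup.mk_mul, ← QuotientGroup.mk_mul, mem_center_iff.1 hz g]
  -- the multiplier bound
  have hc2 : Nat.card M ∣ 2 := by
    have hg2 : Nat.gcd 2 (p - 1) = 2 := by
      have := hp.out.eq_two_or_odd
      exact Nat.gcd_eq_left (by omega)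
    have hA := S2086.result (F := ZMod p) (ZMod.card p) 2 le_rfl (fun _ => by omega) (by
      simp only [Set.mem_insert_iff, Set.mem_singleton_iff, Prod.mk.injEq, not_or]
      have h4 : p ≠ 4 := fun e => by subst e; exact absurd hp.out (by norm_num)
      have h9 : p ≠ 9 := fun e => by subst e; exact absurd hp.out (by norm_num)
      omega)
    rw [hg2] at hA
    obtain ⟨Γ, _, _, σ, -, ⟨e2⟩, β, hβ, hσ⟩ := S3957.result
      (Schur.hasCyclicSchurMultiplier_of_mulEquiv e.symm hA) (QuotientGroup.mk' M)
      ⟨QuotientGroup.mk'_surjective M, by rw [QuotientGroup.ker_mk']; exact hMZ, by rw [hperf]; exact le_top⟩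
    have h2 : Nat.card σ.ker = 2 := by
      rw [Nat.card_congr e2.toEquiv, Nat.card_congr Multiplicative.toAdd, Nat.card_zmod]
    have hmap : σ.ker.map β = M := by
      rw [← hσ, ← MonoidHom.comap_ker, map_comap_eq_self_of_surjective hβ, QuotientGroup.ker_mk']
    rw [← hmap, ← h2]
    exact card_map_dvd _ β
  subst hZM
  refine ⟨p, hp, h5, hc2, hqbot, ⟨e⟩, ?_⟩
  rcases (Nat.dvd_prime Nat.prime_two).1 hc2 with h1 | h2
  · exact Or.inl ⟨((QuotientGroup.quotientMulEquivOfEq (card_eq_one.1 h1)).trans
      QuotientGroup.quotientBot).symm.trans e⟩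
  · exact Or.inr (GW.sl2_cover hperf h2 (by
      rw [ZMod.card]; exact hp.out.odd_of_ne_two (by omega)) (by rw [ZMod.card]; omega) e)

end

end Cfsg.Agent.SDPack
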