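import Cfsg.Agent.Lib.SDPack.StructPerfect
import Mathlib.GroupTheory.SpecificGroups.ZGroup
import Mathlib.GroupTheory.SchurZassenhaus

/-!
The structure of a non-solvable group with cyclic odd Sylow subgroups and a cyclic subgroup of index
at most two in the Sylow 2-subgroups.
-/

set_option autoImplicit false
set_option linter.style.haveILetI false

namespace Cfsg.Agent.SDPack

open Subgroup

universe u

variable {G : Type u} [Group G] [Finite G]

/-- No element of 2-power order commuting with a perfect group of this shape lies outside its centre. -/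
theorem two_elements_le (hno : NoSemidihedral.{u}) (h : Almost G) (R : Subgroup G)
    (hR : PerfectShape R) {u : G} (hu : u ∈ centralizer (R : Set G)) {k : ℕ} (hk : u ^ 2 ^ k = 1) :
    u ∈ (center R).map R.subtype := by
  classical
  haveI : Fact (Nat.Prime 2) := ⟨Nat.prime_two⟩
  obtain ⟨p, hp, h5, hc2, hqb, ⟨e⟩, -⟩ := hR
  set Z := (center R).map R.subtype with hZ
  by_contra hu0
  -- reduce to a square in the centre
  have hex : ∃ j, u ^ 2 ^ j ∈ Z := ⟨k, hk ▸ one_mem Z⟩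
  obtain ⟨j, hj⟩ : ∃ j, Nat.find hex = j + 1 := by
    rcases Nat.eq_zero_or_eq_succ_pred (Nat.find hex) with h0 | h0
    · exact absurd (by simpa [h0] using Nat.find_spec hex) hu0
    · exact ⟨_, h0⟩
  set w := u ^ 2 ^ j with hw
  have hwZ : w ∉ Z := Nat.find_min hex (by omega)
  have hw2 : w ^ 2 ∈ Z := by
    rw [hw, ← pow_mul, ← pow_succ]
    exact hj ▸ Nat.find_spec hex
  have hwC : w ∈ centralizer (R : Set G) := pow_mem hu _
  -- a four-group in the simple quotient
  haveI hsimple : IsSimpleGroup (R ⧸ center R) := by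
    haveI : IsSimpleGroup (Matrix.ProjectiveSpecialLinearGroup (Fin 2) (ZMod p)) :=
      Matrix.ProjectiveSpecialLinearGroup.rank_two_simple (by rw [Nat.card_zmod]; omega)
    exact e.isSimpleGroup
  have hna : ¬ IsMulCommutative (R ⧸ center R) := fun hc => by
    haveI := hc
    obtain ⟨a, ha⟩ := exists_ne (1 : R ⧸ center R)
    exact ha (mem_bot.1 (hqb ▸ mem_center_iff.2 fun b => mul_comm' b a))
  have h1 := AlperinRankTwo.not_rank_one hna
  obtain ⟨A, hA2, hA4⟩ : ∃ A : Subgroup (R ⧸ center R), (∀ a ∈ A, a ^ 2 = 1) ∧ 2 < Nat.card A := by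
    by_contra hno'
    push Not at hno'
    exact h1 fun A hA hA2 => by simpa using hno' A hA2
  -- its preimage
  set B := (A.comap (QuotientGroup.mk' (center R))).map R.subtype with hB
  have hBR : B ≤ R := map_subtype_le _
  have hBcard : Nat.card B = Nat.card A * Nat.card (center R) := by
    rw [hB, card_map_of_injective R.subtype_injective]
    have h1 := card_mul_index (A.comap (QuotientGroup.mk' (center R)))
    rw [index_comap_of_surjective _ (QuotientGroup.mk'_surjective _)] at h1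
    have h2 := card_mul_index A
    have h3 := card_eq_card_quotient_mul_card_subgroup (center R)
    refine Nat.eq_of_mul_eq_mul_right (Nat.pos_of_ne_zero A.index_ne_zero_of_finite) ?_
    rw [h1, h3, ← h2]; ring
  have hB2 : ∀ b ∈ B, b ^ 2 ∈ Z := by
    rintro _ ⟨b, hb, rfl⟩
    refine ⟨b ^ 2, ?_, map_pow R.subtype b 2⟩
    rw [SetLike.mem_coe, ← QuotientGroup.eq_one_iff, QuotientGroup.mk_pow]
    exact hA2 _ hb
  have hZle : ∀ z ∈ Z, z ^ Nat.card (center R) = 1 := by
    rintro _ ⟨z, hz, rfl⟩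
    rw [← map_pow]
    have h0 : (⟨z, hz⟩ : center R) ^ Nat.card (center R) = 1 := pow_card_eq_one'
    have h1 : z ^ Nat.card (center R) = 1 := congrArg Subtype.val h0
    rw [h1, map_one]
  have hcomm : ∀ b ∈ B, Commute b w := fun b hb => mem_centralizer_iff.1 hwC b (hBR hb)
  let H : Subgroup G :=
    { carrier := {x | ∃ b ∈ B, x = b ∨ x = b * w}
      one_mem' := ⟨1, one_mem _, Or.inl rfl⟩
      mul_mem' := by
        rintro _ _ ⟨a, ha, e | e⟩ ⟨b, hb, e' | e'⟩ <;> rw [e, e']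
        · exact ⟨a * b, mul_mem ha hb, Or.inl rfl⟩
        · exact ⟨a * b, mul_mem ha hb, Or.inr (mul_assoc a b w).symm⟩
        · exact ⟨a * b, mul_mem ha hb, Or.inr (by rw [mul_assoc, ← (hcomm b hb).eq, ← mul_assoc])⟩
        · refine ⟨a * b * w ^ 2, mul_mem (mul_mem ha hb) ?_, Or.inl ?_⟩
          · obtain ⟨z, hz, hz'⟩ := hw2
            exact ⟨z, by
              rw [SetLike.mem_coe, mem_comap, QuotientGroup.mk'_apply, (QuotientGroup.eq_one_iff z).2 hz]
              exact one_mem A, hz'⟩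
          · calc a * w * (b * w) = a * (w * b) * w := by group
              _ = a * (b * w) * w := by rw [(hcomm b hb).eq]
              _ = a * b * w ^ 2 := by rw [pow_two]; group
      inv_mem' := by
        rintro _ ⟨a, ha, e | e⟩ <;> rw [e]
        · exact ⟨a⁻¹, inv_mem ha, Or.inl rfl⟩
        · refine ⟨a⁻¹ * (w ^ 2)⁻¹, mul_mem (inv_mem ha) (inv_mem ?_), Or.inr ?_⟩
          · obtain ⟨z, hz, hz'⟩ := hw2
            exact ⟨z, by
              rw [SetLike.mem_coe, mem_comap, QuotientGroup.mk'_apply, (QuotientGroup.eq_one_iff z).2 hz]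
              exact one_mem A, hz'⟩
          · have h1 : a⁻¹ * w = w * a⁻¹ := ((hcomm a ha).inv_left).eq
            have h2 : a⁻¹ * w⁻¹ = w⁻¹ * a⁻¹ := ((hcomm a ha).inv_left.inv_right).eq
            rw [mul_inv_rev, ← h2, pow_two]
            group }
  have hH2 : ∀ x ∈ H, x ^ 2 ∈ Z := by
    rintro x ⟨b, hb, rfl | rfl⟩
    · exact hB2 x hb
    · rw [(hcomm b hb).mul_pow]; exact mul_mem (hB2 b hb) hw2
  have hH4 : ∀ x ∈ H, x ^ (2 * Nat.card (center R)) = 1 := fun x hx => by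
    rw [pow_mul]; exact hZle _ (hH2 x hx)
  have hHp : IsPGroup 2 H := fun x => by
    refine ⟨2, Subtype.ext ?_⟩
    rw [SubgroupClass.coe_pow, coe_one]
    obtain ⟨c, hc⟩ : 2 * Nat.card (center R) ∣ 2 ^ 2 := by
      rw [pow_two]; exact mul_dvd_mul_left 2 hc2
    rw [hc, pow_mul, hH4 x x.2, one_pow]
  -- size
  have hwB : w ∉ B := fun hm => hwZ (by
    refine ⟨⟨w, hBR hm⟩, mem_center_iff.2 fun r => Subtype.ext ?_, rfl⟩
    exact mem_centralizer_iff.1 hwC r r.2)
  have hcard : 2 * Nat.card B ≤ Nat.card H := by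
    have := Nat.card_le_card_of_injective
      (fun q : B × Bool => (⟨if q.2 then (q.1 : G) * w else q.1,
        ⟨q.1, q.1.2, by cases q.2 <;> simp⟩⟩ : H)) ?_
    · simpa [Nat.card_prod, mul_comm] using this
    rintro ⟨a, s⟩ ⟨b, t⟩ e
    have e' := congrArg (fun x : H => (x : G)) e
    cases s <;> cases t <;> simp only [Bool.false_eq_true, if_false, if_true] at e'
    · rw [Subtype.ext e']
    · refine absurd ?_ hwB
      rw [show w = (b : G)⁻¹ * (a : G) by rw [e']; group]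
      exact mul_mem (inv_mem b.2) a.2
    · refine absurd ?_ hwB
      rw [show w = (a : G)⁻¹ * (b : G) by rw [← e']; group]
      exact mul_mem (inv_mem a.2) b.2
    · rw [Subtype.ext (mul_right_cancel e')]
  -- the cyclic subgroup
  obtain ⟨C, hC, hi⟩ := h.two_group hHp
  haveI := hC
  have hCle : Nat.card C ≤ 2 * Nat.card (center R) := by
    obtain ⟨g, hg⟩ := IsCyclic.exists_ofOrder_eq_natCard (α := C)
    rw [← hg]
    refine Nat.le_of_dvd (Nat.mul_pos two_pos Nat.card_pos) (orderOf_dvd_of_pow_eq_one ?_)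
    exact Subtype.ext (Subtype.ext (hH4 ((g : H) : G) (g : H).2))
  have h5' := card_mul_index C
  have h6 : C.index ≤ 2 := Nat.le_of_dvd two_pos hi
  have h7 : 0 < Nat.card (center R) := Nat.card_pos
  have h8 : Nat.card C * C.index ≤ 2 * Nat.card (center R) * 2 := Nat.mul_le_mul hCle h6
  have h9 : 3 * Nat.card (center R) ≤ Nat.card B := hBcard ▸ Nat.mul_le_mul_right _ hA4
  omega

/-- The structure theorem, given that no simple group of this kind has semidihedral Sylow 2-subgroups. -/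
theorem structure_of_noSD (hno : NoSemidihedral.{u}) (hns : ¬ Group.IsSolvable G)
    (hodd : ∀ p : ℕ, p.Prime → p ≠ 2 → ∀ P : Sylow p G, IsCyclic P)
    (h2 : ∀ S : Sylow 2 G, ∃ C : Subgroup ↥(S : Subgroup G), IsCyclic C ∧ C.index ∣ 2) :
    ∃ G₀ : Subgroup G, G₀.Normal ∧ G₀.index ∣ 2 ∧
      ∃ X L : Subgroup ↥G₀, X.Normal ∧ L.Normal ∧ X ⊓ L = ⊥ ∧ X ⊔ L = ⊤ ∧
        (Nat.card X).Coprime (Nat.card L) ∧
        Odd (Nat.card X) ∧ (∃ (C : Subgroup ↥X) (_ : C.Normal), IsCyclic C ∧ IsCyclic (↥X ⧸ C)) ∧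
        ∃ (p : ℕ) (_ : Fact p.Prime), 5 ≤ p ∧
          (Nonempty (↥L ≃* Matrix.ProjectiveSpecialLinearGroup (Fin 2) (ZMod p)) ∨
           Nonempty (↥L ≃* Matrix.SpecialLinearGroup (Fin 2) (ZMod p))) := by
  classical
  have h : Almost G := ⟨hodd, h2⟩
  obtain ⟨R, hRc, hRne, hRp, hRq⟩ := exists_residual hns
  haveI := hRc
  haveI : Group.IsSolvable (G ⧸ R) := hRq
  have hshape : PerfectShape R :=
    perfect_case hno _ R rfl ((nontrivial_iff_ne_bot R).2 hRne) hRp (h.subgroup R)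
  have htwo : ∀ {u : G}, u ∈ centralizer (R : Set G) → ∀ {k : ℕ}, u ^ 2 ^ k = 1 →
      u ∈ (center R).map R.subtype := fun hu _ hk => two_elements_le hno h R hshape hu hk
  obtain ⟨p, hp, h5, hc2, hqb, ⟨e⟩, hiso⟩ := hshape
  set C := centralizer (R : Set G) with hCdef
  set Z := (center R).map R.subtype with hZdef
  haveI : Z.Normal := inferInstance
  have hZc : Nat.card Z = Nat.card (center R) := card_map_of_injective R.subtype_injective
  have hZC : Z ≤ C := by
    rintro _ ⟨z, hz, rfl⟩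
    exact mem_centralizer_iff.2 fun r hr => congrArg Subtype.val (mem_center_iff.1 hz ⟨r, hr⟩)
  -- the centre of `R` is central in `C`, and has odd index there
  have hZcen : Z.subgroupOf C ≤ center C := by
    rintro z ⟨w, -, hw⟩
    refine mem_center_iff.2 fun c => Subtype.ext ?_
    show (c : G) * (z : G) = (z : G) * c
    rw [show (z : G) = (w : G) from hw.symm]
    exact (mem_centralizer_iff.1 c.2 w w.2).symm
  haveI : Fact (Nat.Prime 2) := ⟨Nat.prime_two⟩
  have hodd' : ¬ 2 ∣ (Z.subgroupOf C).index := by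
    intro hd
    rw [index_eq_card] at hd
    obtain ⟨x, hx⟩ := exists_prime_orderOf_dvd_card' 2 hd
    obtain ⟨g, rfl⟩ := QuotientGroup.mk_surjective x
    obtain ⟨a, m, hm, hgm⟩ := Nat.exists_eq_pow_mul_and_not_dvd (orderOf_pos g).ne' 2 (by norm_num)
    have h1 : ((g ^ m : C) : G) ∈ Z := htwo (g ^ m).2 (k := a) (by
      rw [← SubgroupClass.coe_pow, ← pow_mul, mul_comm, ← hgm, pow_orderOf_eq_one, coe_one])
    have h2 : (QuotientGroup.mk g : C ⧸ Z.subgroupOf C) ^ m = 1 := by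
      rw [← QuotientGroup.mk_pow, QuotientGroup.eq_one_iff]; exact h1
    exact hm (hx ▸ orderOf_dvd_of_pow_eq_one h2)
  have hcop : (Nat.card (Z.subgroupOf C)).Coprime (Z.subgroupOf C).index := by
    rw [Nat.card_congr (subgroupOfEquivOfLe hZC).toEquiv, hZc]
    exact Nat.Coprime.coprime_dvd_left hc2 ((Nat.prime_two.coprime_iff_not_dvd).2 hodd')
  obtain ⟨X₀, hX₀⟩ := exists_right_complement'_of_coprime hcop
  have hX₀odd : Odd (Nat.card X₀) := by
    rw [← hX₀.symm.index_eq_card]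
    exact Nat.odd_iff.2 (Nat.two_dvd_ne_zero.1 hodd')
  -- the odd part consists of the elements of odd order
  have hX₀n : X₀.Normal := by
    refine ⟨fun x hx g => ?_⟩
    obtain ⟨⟨⟨z, hz⟩, ⟨y, hy⟩⟩, rfl⟩ := hX₀.2 g
    have hzc := mem_center_iff.1 (hZcen hz)
    have : z * y * x * (z * y)⁻¹ = y * x * y⁻¹ := by
      have h1 := hzc (y * x * y⁻¹)
      calc z * y * x * (z * y)⁻¹ = z * (y * x * y⁻¹) * z⁻¹ := by group
        _ = y * x * y⁻¹ := by rw [← h1]; group
    rw [this]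
    exact mul_mem (mul_mem hy hx) (inv_mem hy)
  haveI := hX₀n
  have hX₀mem : ∀ c : C, Odd (orderOf c) → c ∈ X₀ := by
    intro c hc
    rw [← QuotientGroup.eq_one_iff, ← orderOf_eq_one_iff]
    have h1 : orderOf (c : C ⧸ X₀) ∣ orderOf c := orderOf_map_dvd (QuotientGroup.mk' X₀) c
    have h2 : orderOf (c : C ⧸ X₀) ∣ Nat.card (C ⧸ X₀) := orderOf_dvd_natCard _
    rw [← index_eq_card, hX₀.index_eq_card, Nat.card_congr (subgroupOfEquivOfLe hZC).toEquiv, hZc] at h2
    exact Nat.eq_one_of_dvd_coprimes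
      ((Nat.prime_two.coprime_iff_not_dvd).2 (fun h2 => Nat.not_even_iff_odd.2 hc (even_iff_two_dvd.2 h2)))
      (h2.trans hc2) h1
  set X₁ := X₀.map C.subtype with hX₁
  have hX₁C : X₁ ≤ C := map_subtype_le X₀
  haveI : X₁.Normal := by
    refine ⟨fun x hx g => ?_⟩
    obtain ⟨⟨c, hc⟩, hcX, rfl⟩ := hx
    have hgc : g * c * g⁻¹ ∈ C := Normal.conj_mem inferInstance c hc g
    refine ⟨⟨g * c * g⁻¹, hgc⟩, hX₀mem _ ?_, rfl⟩
    rw [orderOf_mk, show g * c * g⁻¹ = MulAut.conj g c from rfl, MulEquiv.orderOf_eq]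
    have hd : orderOf c ∣ Nat.card X₀ := by
      have := orderOf_dvd_natCard (⟨⟨c, hc⟩, hcX⟩ : X₀)
      rwa [orderOf_mk, orderOf_mk] at this
    exact hX₀odd.of_dvd_nat hd
  have hX₁odd : Odd (Nat.card X₁) := by rwa [hX₁, card_map_of_injective C.subtype_injective]
  have hdis : X₁ ⊓ R = ⊥ := by
    rw [eq_bot_iff]
    rintro x ⟨hx, hxR⟩
    have hz : (⟨x, hxR⟩ : R) ∈ center R :=
      mem_center_iff.2 fun r => Subtype.ext (mem_centralizer_iff.1 (hX₁C hx) r r.2)
    rw [mem_bot, ← orderOf_eq_one_iff]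
    have h1 : orderOf x ∣ 2 := by
      have := (orderOf_dvd_natCard (⟨⟨x, hxR⟩, hz⟩ : center R)).trans hc2
      rwa [orderOf_mk, orderOf_mk] at this
    have h2 : orderOf x ∣ Nat.card X₁ := by
      have := orderOf_dvd_natCard (⟨x, hx⟩ : X₁)
      rwa [orderOf_mk] at this
    exact Nat.eq_one_of_dvd_coprimes
      ((Nat.prime_two.coprime_iff_not_dvd).2 fun h => Nat.not_even_iff_odd.2 hX₁odd (even_iff_two_dvd.2 h))
      h1 h2
  set G₀ := X₁ ⊔ R with hG₀
  have hsup : R ⊔ C = G₀ := by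
    refine le_antisymm (sup_le le_sup_right fun c hc => ?_) (sup_le (hX₁C.trans le_sup_right) le_sup_left)
    obtain ⟨⟨⟨z, hz⟩, ⟨y, hy⟩⟩, he⟩ := hX₀.2 ⟨c, hc⟩
    rw [show c = (z : G) * (y : G) from (congrArg Subtype.val he).symm]
    exact mul_mem ((le_sup_right : R ≤ G₀) (map_subtype_le _ hz)) ((le_sup_left : X₁ ≤ G₀) ⟨y, hy, rfl⟩)
  refine ⟨G₀, inferInstance, hsup ▸ index_sup_centralizer R hRp h5 e hqb,
    X₁.subgroupOf G₀, R.subgroupOf G₀, inferInstance, inferInstance, ?_, ?_, ?_, ?_, ?_, p, hp, h5, ?_⟩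
  · rw [eq_bot_iff]
    rintro x ⟨hx, hxR⟩
    exact mem_bot.2 (Subtype.ext (mem_bot.1 (hdis ▸ (⟨hx, hxR⟩ : (x : G) ∈ X₁ ⊓ R))))
  · rw [← subgroupOf_sup le_sup_left le_sup_right, subgroupOf_self]
  · rw [Nat.card_congr (subgroupOfEquivOfLe (le_sup_left : X₁ ≤ G₀)).toEquiv,
      Nat.card_congr (subgroupOfEquivOfLe (le_sup_right : R ≤ G₀)).toEquiv]
    refine Nat.coprime_of_dvd fun r hr hrX hrR => ?_
    haveI := Fact.mk hr
    have hr2 : r ≠ 2 := by
      rintro rfl
      exact Nat.not_even_iff_odd.2 hX₁odd (even_iff_two_dvd.2 hrX)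
    obtain ⟨a, ha⟩ := exists_prime_orderOf_dvd_card' r hrX
    obtain ⟨b, hb⟩ := exists_prime_orderOf_dvd_card' r hrR
    refine h.no_pair hr2 (a := (a : G)) (b := (b : G)) (by rw [orderOf_coe, ha]) (by rw [orderOf_coe, hb])
      (mem_centralizer_iff.1 (hX₁C a.2) b b.2).symm ?_
    rw [disjoint_def]
    intro x hxa hxb
    exact mem_bot.1 (hdis ▸ (⟨zpowers_le.2 a.2 hxa, zpowers_le.2 b.2 hxb⟩ : x ∈ X₁ ⊓ R))
  · rwa [Nat.card_congr (subgroupOfEquivOfLe (le_sup_left : X₁ ≤ G₀)).toEquiv]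
  · set Y := X₁.subgroupOf G₀ with hY
    have hYodd : Odd (Nat.card Y) := by
      rwa [Nat.card_congr (subgroupOfEquivOfLe (le_sup_left : X₁ ≤ G₀)).toEquiv]
    haveI : IsZGroup Y := ⟨fun q hq P => by
      haveI := Fact.mk hq
      rcases eq_or_ne q 2 with rfl | hq2
      · have h2 : ¬ 2 ∣ Nat.card Y := fun h => Nat.not_even_iff_odd.2 hYodd (even_iff_two_dvd.2 h)
        haveI : Subsingleton (P : Subgroup Y) := by
          rw [← Finite.card_le_one_iff_subsingleton, P.card_eq_multiplicity,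
            Nat.factorization_eq_zero_of_not_dvd h2, pow_zero]
        infer_instance
      · exact ((h.subgroup G₀).subgroup Y).1 q hq hq2 P⟩
    exact ⟨commutator Y, inferInstance, IsZGroup.isCyclic_commutator Y, inferInstanceAs (IsCyclic (Abelianization Y))⟩
  · set eL := subgroupOfEquivOfLe (le_sup_right : R ≤ G₀)
    exact hiso.imp (fun ⟨f⟩ => ⟨eL.trans f⟩) fun ⟨f⟩ => ⟨eL.trans f⟩

end Cfsg.Agent.SDPack
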