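import Cfsg.Agent.Lib.SDPack.Model
import Cfsg.Agent.Lib.Char.Induction
import Mathlib.RingTheory.RootsOfUnity.Complex
import Mathlib.GroupTheory.SpecificGroups.Cyclic

/-!
The linear characters of the two tori and of the centraliser of the unipotent element, and the
values of the induced functions.
-/

set_option autoImplicit false
set_option linter.style.haveILetI false
set_option linter.unusedSectionVars false

namespace Cfsg.Agent.SDPack

open Cfsg Cfsg.Agent.Char Finset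
open scoped ComplexConjugate

universe u

section general

variable {G : Type u} [Group G] [Fintype G]

/-- The orthogonality of linear characters on a subgroup. -/
theorem inner_hom (A : Subgroup G) [Fintype A] (f g : A →* ℂˣ) [Decidable (f = g)] :
    classInner (fun s : A => (f s : ℂ)) (fun s : A => (g s : ℂ)) = if f = g then 1 else 0 := by
  by_cases h : f = g
  · rw [if_pos h, h, classInner_self_irr (isIrrCharacter_linear g)]
  · rw [if_neg h, classInner_irr_of_ne (isIrrCharacter_linear f) (isIrrCharacter_linear g)]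
    intro e
    exact h (MonoidHom.ext fun s => Units.ext (congrFun e s))

/-- The value of an induced function at an element of an abelian subgroup with a normaliser of
index two. -/
theorem ind_torus (A : Subgroup G) (hA : ∀ s ∈ A, ∀ t ∈ A, s * t = t * s) {v : G} (hv : v ∉ A)
    {t : G} (ht : t ∈ A) (hvt : v * t * v⁻¹ ∈ A)
    (hnorm : ∀ g : G, g * t * g⁻¹ ∈ A → g ∈ A ∨ v⁻¹ * g ∈ A) (θ : A → ℂ) :
    indFun A θ t = θ ⟨t, ht⟩ + θ ⟨v * t * v⁻¹, hvt⟩ := by
  classical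
  rw [indFun_apply]
  have hterm : ∀ g : G, extendByZero A θ (g⁻¹ * t * g) =
      (if g⁻¹ ∈ A then θ ⟨t, ht⟩ else 0) + (if v⁻¹ * g⁻¹ ∈ A then θ ⟨v * t * v⁻¹, hvt⟩ else 0) := by
    intro g
    by_cases h1 : g⁻¹ ∈ A
    · have e : g⁻¹ * t * g = t := by rw [hA _ h1 t ht, inv_mul_cancel_right]
      rw [e, if_pos h1, if_neg, add_zero, extendByZero_mem A θ ht]
      intro h2
      exact hv (inv_mem_iff.1 ((Subgroup.mul_mem_cancel_right _ h1).1 h2))
    by_cases h2 : v⁻¹ * g⁻¹ ∈ A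
    · have e : g⁻¹ * t * g = v * t * v⁻¹ := by
        calc g⁻¹ * t * g = v * ((v⁻¹ * g⁻¹) * t) * g := by group
          _ = v * (t * (v⁻¹ * g⁻¹)) * g := by rw [hA _ h2 t ht]
          _ = _ := by group
      rw [if_neg h1, if_pos h2, zero_add, e, extendByZero_mem A θ hvt]
    rw [if_neg h1, if_neg h2, add_zero, extendByZero_not_mem]
    intro h
    rcases hnorm g⁻¹ (by simpa using h) with h' | h'
    · exact h1 h'
    · exact h2 h'
  simp only [hterm, sum_add_distrib]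
  have hc : ∀ d : G, (univ.filter fun g : G => d * g⁻¹ ∈ A).card = Nat.card A := by
    intro d
    rw [Nat.card_eq_fintype_card, ← Finset.card_univ]
    refine (card_bij (fun (s : A) _ => (s : G)⁻¹ * d) (fun s _ => ?_) (fun s _ t _ h => ?_)
      (fun g hg => ⟨⟨d * g⁻¹, (mem_filter.1 hg).2⟩, mem_univ _, ?_⟩)).symm
    · refine mem_filter.2 ⟨mem_univ _, ?_⟩
      rw [mul_inv_rev, inv_inv, ← mul_assoc, mul_inv_cancel, one_mul]
      exact s.2
    · exact Subtype.ext (inv_injective (mul_right_cancel h))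
    · simp
  rw [sum_ite, sum_const_zero, add_zero, sum_ite, sum_const_zero, add_zero, sum_const, sum_const,
    hc v⁻¹, nsmul_eq_mul, nsmul_eq_mul]
  have h1 : (univ.filter fun g : G => g⁻¹ ∈ A).card = Nat.card A := by
    simpa using hc 1
  rw [h1]
  have : (Nat.card A : ℂ) ≠ 0 := Nat.cast_ne_zero.2 Nat.card_pos.ne'
  field_simp

/-- The value of an induced function at a central element. -/
theorem ind_central (A : Subgroup G) {t : G} (hc : ∀ g, g * t = t * g) (ht : t ∈ A) (θ : A → ℂ) :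
    indFun A θ t = (A.index : ℂ) * θ ⟨t, ht⟩ := by
  have e : ∀ g ∈ (univ : Finset G), extendByZero A θ (g⁻¹ * t * g) = θ ⟨t, ht⟩ := fun g _ => by
    rw [show g⁻¹ * t * g = t by rw [mul_assoc, ← hc, inv_mul_cancel_left]]
    exact extendByZero_mem A θ ht
  rw [indFun_apply, sum_congr rfl e, sum_const, card_univ, nsmul_eq_mul,
    ← Nat.card_eq_fintype_card, ← Subgroup.card_mul_index A, Nat.cast_mul,
    ← mul_assoc, ← mul_assoc, inv_mul_cancel₀ (Nat.cast_ne_zero.2 Nat.card_pos.ne'), one_mul]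

/-- Two functions that agree outside a central involution: the correction of the inner product. -/
theorem inner_fix {A : Type u} [Group A] [Fintype A] {ζ : A} (hζ : ζ ≠ 1) {θ F E : A → ℂ}
    (h1 : θ 1 = 0) (hFE : ∀ s, s ≠ 1 → s ≠ ζ → F s = E s) :
    classInner θ F = classInner θ E + (Nat.card A : ℂ)⁻¹ * (θ ζ * conj (F ζ - E ζ)) := by
  classical
  unfold classInner
  rw [← mul_add]
  congr 1
  rw [← add_sum_erase _ _ (mem_univ ζ), ← add_sum_erase univ (fun s => θ s * conj (E s)) (mem_univ ζ),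
    map_sub, mul_sub]
  have : ∑ s ∈ univ.erase ζ, θ s * conj (F s) = ∑ s ∈ univ.erase ζ, θ s * conj (E s) :=
    sum_congr rfl fun s hs => by
      by_cases hs1 : s = 1
      · rw [hs1, h1, zero_mul, zero_mul]
      · rw [hFE s hs1 (ne_of_mem_erase hs)]
  rw [this]
  ring

end general

namespace Model

variable {H : Type u} [Group H] [Finite H] {p : ℕ} (D : Model H p)

/-- The first torus. -/
def T : Subgroup H := Subgroup.centralizer ({D.a} : Set H)

/-- The second torus. -/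
def T1 : Subgroup H := Subgroup.centralizer ({D.u} : Set H)

/-- The centraliser of the unipotent element. -/
def U : Subgroup H := Subgroup.centralizer ({D.x} : Set H)

theorem mem_T {g : H} : g ∈ D.T ↔ g * D.a = D.a * g := Subgroup.mem_centralizer_singleton_iff

theorem mem_T1 {g : H} : g ∈ D.T1 ↔ g * D.u = D.u * g := Subgroup.mem_centralizer_singleton_iff

theorem mem_U {g : H} : g ∈ D.U ↔ g * D.x = D.x * g := Subgroup.mem_centralizer_singleton_iff

theorem h_four : 4 ≤ D.h := by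
  obtain ⟨k, hk, e⟩ := D.hh
  rw [e]
  calc 4 = 2 ^ 2 := by norm_num
    _ ≤ 2 ^ k := Nat.pow_le_pow_right two_pos hk

theorem h_even : 2 ∣ D.h ∧ 2 ∣ D.h / 2 := by
  obtain ⟨k, hk, e⟩ := D.hh
  obtain ⟨j, rfl⟩ : ∃ j, k = j + 2 := ⟨k - 2, by omega⟩
  rw [e, pow_succ, pow_succ, Nat.mul_div_cancel _ two_pos]
  exact ⟨dvd_mul_left _ _, dvd_mul_left _ _⟩

theorem a_mem : D.a ∈ D.T := D.mem_T.2 rfl

theorem z_T : D.z ∈ D.T := D.mem_T.2 (D.z_comm D.a).symm

theorem z_T1 : D.z ∈ D.T1 := D.mem_T1.2 (D.z_comm D.u).symm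

theorem z_U : D.z ∈ D.U := D.mem_U.2 (D.z_comm D.x).symm

theorem u_mem : D.u ∈ D.T1 := D.mem_T1.2 rfl

theorem x_U : D.x ∈ D.U := D.mem_U.2 rfl

theorem sq_mem_L (g : H) : g * g ∈ D.L := Subgroup.mul_self_mem_of_index_two D.L_index g

theorem odd_mem_L {g : H} (hg : Odd (orderOf g)) : g ∈ D.L := by
  obtain ⟨m, hm⟩ := hg
  have e : g = g ^ (m + 1) * g ^ (m + 1) := by
    have h := pow_orderOf_eq_one g
    rw [hm] at h
    rw [← pow_add, show m + 1 + (m + 1) = (2 * m + 1) + 1 by ring, pow_succ, h, one_mul]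
  rw [e]
  exact D.sq_mem_L _

theorem orderOf_z : orderOf D.z = 2 := orderOf_eq_prime (by rw [pow_two, D.zz]) D.z_ne

theorem u_ne : D.u ≠ 1 ∧ D.u ≠ D.z :=
  ⟨fun e => D.u_not (e ▸ one_mem _), fun e => D.u_not (e ▸ D.z_mem)⟩

theorem u_not_T : D.u ∉ D.T := fun h => by
  have hua := D.ua
  rw [D.mem_T.1 h, mul_inv_cancel_right] at hua
  have h4 := D.h_four
  have := pow_injOn_Iio_orderOf (x := D.a) (show 1 < orderOf D.a by rw [D.ao]; omega)
    (show D.h - 1 < orderOf D.a by rw [D.ao]; omega) (by simpa using hua)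
  omega

theorem u_conj_T {t : H} (ht : t ∈ D.T) : D.u * t * D.u⁻¹ ∈ D.T := by
  rw [mem_T] at ht ⊢
  have e : D.u * (D.u * D.a * D.u⁻¹) * D.u⁻¹ = D.a := by
    rw [show D.u * (D.u * D.a * D.u⁻¹) * D.u⁻¹ = D.u * D.u * D.a * (D.u * D.u)⁻¹ by group, D.uu,
      one_mul, inv_one, mul_one]
  have hc : t * D.a ^ (D.h - 1) = D.a ^ (D.h - 1) * t := ((show Commute t D.a from ht).pow_right _).eq
  rw [← D.ua] at hc
  nth_rewrite 1 [← e]
  nth_rewrite 2 [← e]
  calc D.u * t * D.u⁻¹ * (D.u * (D.u * D.a * D.u⁻¹) * D.u⁻¹)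
      = D.u * (t * (D.u * D.a * D.u⁻¹)) * D.u⁻¹ := by group
    _ = D.u * (D.u * D.a * D.u⁻¹ * t) * D.u⁻¹ := by rw [hc]
    _ = _ := by group

theorem w_not_T1 : D.w ∉ D.T1 := fun h => by
  have hwu := D.wu
  rw [D.mem_T1.1 h, mul_inv_cancel_right] at hwu
  exact D.z_ne (left_eq_mul.1 hwu)

theorem w_conj_T1 {t : H} (ht : t ∈ D.T1) : D.w * t * D.w⁻¹ ∈ D.T1 := by
  rw [mem_T1] at ht ⊢
  have h : (D.w * t * D.w⁻¹) * (D.w * D.u * D.w⁻¹) = (D.w * D.u * D.w⁻¹) * (D.w * t * D.w⁻¹) := by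
    calc (D.w * t * D.w⁻¹) * (D.w * D.u * D.w⁻¹) = D.w * (t * D.u) * D.w⁻¹ := by group
      _ = D.w * (D.u * t) * D.w⁻¹ := by rw [ht]
      _ = _ := by group
  rw [D.wu] at h
  refine mul_right_cancel (b := D.z) ?_
  rw [mul_assoc, h, mul_assoc, ← D.z_comm (D.w * t * D.w⁻¹), ← mul_assoc]

theorem h_dvd_T : 2 * D.h ∣ 2 * (D.q + 1).natAbs := by
  obtain ⟨t, -, e⟩ := D.hT
  exact ⟨t, by rw [e]; ring⟩

/-- The odd factor of the order of the first torus. -/
noncomputable def mT : ℕ := D.hT.choose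

theorem mT_odd : Odd D.mT := D.hT.choose_spec.1

theorem mT_eq : (D.q + 1).natAbs = D.h * D.mT := D.hT.choose_spec.2

/-- The odd factor of the order of the second torus. -/
noncomputable def mT1 : ℕ := D.hT1.choose

theorem mT1_odd : Odd D.mT1 := D.hT1.choose_spec.1

theorem mT1_eq : (D.q - 1).natAbs = 2 * D.mT1 := D.hT1.choose_spec.2

theorem card_T : Nat.card D.T = 2 * (D.q + 1).natAbs := D.T_card

theorem card_T1 : Nat.card D.T1 = 2 * (D.q - 1).natAbs := D.T1_card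

theorem card_U : Nat.card D.U = 2 * p := D.U_card

theorem T_pow_mem {t : H} (ht : t ∈ D.T) : t ^ D.mT ∈ Subgroup.zpowers D.a := by
  set aT : D.T := ⟨D.a, D.a_mem⟩
  haveI : (Subgroup.zpowers aT).Normal := ⟨fun v hv g => by
    rw [show g * v = v * g from Subtype.ext (D.T_comm _ _ (D.mem_T.1 g.2) (D.mem_T.1 v.2)),
      mul_inv_cancel_right]
    exact hv⟩
  have hidx : (Subgroup.zpowers aT).index = D.mT := by
    have h1 := Subgroup.card_mul_index (Subgroup.zpowers aT)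
    rw [Nat.card_zpowers, ← Subgroup.orderOf_coe, show ((aT : D.T) : H) = D.a from rfl, D.ao,
      D.card_T, D.mT_eq, ← mul_assoc] at h1
    exact Nat.eq_of_mul_eq_mul_left (by have := D.h_four; omega) h1
  have h := Subgroup.pow_index_mem (Subgroup.zpowers aT) (⟨t, ht⟩ : D.T)
  rw [hidx] at h
  obtain ⟨i, hi⟩ := Subgroup.mem_zpowers_iff.1 h
  exact ⟨i, congrArg Subtype.val hi⟩

theorem exists_kappa : ∃ (κ : D.T →* ℂˣ) (r : ℂˣ), IsPrimitiveRoot r (2 * D.h) ∧
    ∀ (t : D.T) (i : ℤ), (t : H) ^ D.mT = D.a ^ i → κ t = r ^ i := by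
  classical
  haveI : NeZero (2 * D.h) := ⟨by have := D.h_four; omega⟩
  have hprim := Complex.isPrimitiveRoot_exp (2 * D.h) (NeZero.ne _)
  set r : ℂˣ := (hprim.isUnit (NeZero.ne _)).unit with hr
  have hr' : IsPrimitiveRoot r (2 * D.h) := hprim.isUnit_unit (NeZero.ne _)
  set aZ : Subgroup.zpowers D.a := ⟨D.a, Subgroup.mem_zpowers _⟩
  let lg : Subgroup.zpowers D.a →* ℂˣ := monoidHomOfForallMemZpowers (g := aZ)
    (fun v => by
      obtain ⟨i, hi⟩ := Subgroup.mem_zpowers_iff.1 v.2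
      exact ⟨i, Subtype.ext (by rw [← hi]; simp [aZ])⟩)
    (g' := r) (by
      rw [← hr'.eq_orderOf, ← Subgroup.orderOf_coe, show ((aZ : Subgroup.zpowers D.a) : H) = D.a
        from rfl, D.ao])
  have hlg : lg aZ = r := monoidHomOfForallMemZpowers_apply_gen _ _
  let pw : D.T →* Subgroup.zpowers D.a :=
    { toFun := fun t => ⟨(t : H) ^ D.mT, D.T_pow_mem t.2⟩
      map_one' := Subtype.ext (by simp)
      map_mul' := fun s t => Subtype.ext (by
        show ((s : H) * t) ^ D.mT = (s : H) ^ D.mT * (t : H) ^ D.mT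
        exact (show Commute (s : H) t from D.T_comm _ _ (D.mem_T.1 s.2) (D.mem_T.1 t.2)).mul_pow _) }
  refine ⟨lg.comp pw, r, hr', fun t i hi => ?_⟩
  rw [MonoidHom.comp_apply, show pw t = aZ ^ i from Subtype.ext (by rw [Subgroup.coe_zpow]; exact hi),
    map_zpow, hlg]

/-- The basic character of the first torus. -/
noncomputable def κ : D.T →* ℂˣ := D.exists_kappa.choose

/-- The root of unity. -/
noncomputable def r : ℂˣ := D.exists_kappa.choose_spec.choose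

theorem r_prim : IsPrimitiveRoot D.r (2 * D.h) := D.exists_kappa.choose_spec.choose_spec.1

theorem κ_spec (t : D.T) {i : ℤ} (hi : (t : H) ^ D.mT = D.a ^ i) : D.κ t = D.r ^ i :=
  D.exists_kappa.choose_spec.choose_spec.2 t i hi

theorem r_zpow_eq_one (i : ℤ) : D.r ^ i = 1 ↔ 2 * (D.h : ℤ) ∣ i := by
  rw [D.r_prim.zpow_eq_one_iff_dvd]; push_cast; rfl

theorem a_zpow_eq_one (i : ℤ) : D.a ^ i = 1 ↔ 2 * (D.h : ℤ) ∣ i := by
  rw [← orderOf_dvd_iff_zpow_eq_one, D.ao]; push_cast; rfl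

theorem κ_a : D.κ ⟨D.a, D.a_mem⟩ = D.r ^ (D.mT : ℤ) :=
  D.κ_spec _ (by rw [zpow_natCast])

theorem κ_eq_one (t : D.T) : D.κ t = 1 ↔ (t : H) ^ D.mT = 1 := by
  obtain ⟨i, hi⟩ := Subgroup.mem_zpowers_iff.1 (D.T_pow_mem t.2)
  rw [D.κ_spec t hi.symm, D.r_zpow_eq_one, ← hi, D.a_zpow_eq_one]

theorem κ_z : D.κ ⟨D.z, D.z_T⟩ = D.r ^ (D.h : ℤ) := by
  refine D.κ_spec _ ?_
  show D.z ^ D.mT = D.a ^ (D.h : ℤ)
  obtain ⟨m, hm⟩ := D.mT_odd
  rw [zpow_natCast, D.az, hm, pow_succ, pow_mul, pow_two, D.zz, one_pow, one_mul]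

theorem r_h : (D.r ^ (D.h : ℤ) : ℂˣ) = -1 := by
  have h4 := D.h_four
  have h1 : D.r ^ (D.h : ℤ) * D.r ^ (D.h : ℤ) = 1 := by
    rw [← zpow_add, D.r_zpow_eq_one]; exact ⟨1, by ring⟩
  rcases mul_self_eq_one_iff.1 (show (((D.r ^ (D.h : ℤ)) : ℂˣ) : ℂ) * ((D.r ^ (D.h : ℤ) : ℂˣ) : ℂ) = 1
    by rw [← Units.val_mul, h1, Units.val_one]) with e | e
  · exfalso
    have e' : D.r ^ (D.h : ℤ) = 1 := Units.ext e
    rw [D.r_zpow_eq_one] at e'
    have := Int.le_of_dvd (by omega) e'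
    omega
  · exact Units.ext (by rw [e]; rfl)

theorem κ_u (t : D.T) : D.κ ⟨D.u * t * D.u⁻¹, D.u_conj_T t.2⟩ = D.κ t ^ ((D.h : ℤ) - 1) := by
  obtain ⟨i, hi⟩ := Subgroup.mem_zpowers_iff.1 (D.T_pow_mem t.2)
  rw [D.κ_spec t hi.symm, ← zpow_mul]
  refine D.κ_spec _ ?_
  show (D.u * t * D.u⁻¹) ^ D.mT = _
  rw [conj_pow, ← hi, ← conj_zpow, D.ua, ← zpow_natCast, ← zpow_mul, mul_comm]
  congr 1
  have := D.h_four
  push_cast [Nat.cast_sub (show 1 ≤ D.h by omega)]
  ring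

/-- The part of the first torus in `L`. -/
theorem T_mem_L_iff (t : D.T) : (t : H) ∈ D.L ↔ D.κ t ^ (D.h : ℤ) = 1 := by
  obtain ⟨i, hi⟩ := Subgroup.mem_zpowers_iff.1 (D.T_pow_mem t.2)
  have hpar : (t : H) ∈ D.L ↔ D.a ^ i ∈ D.L := by
    rw [hi]
    obtain ⟨m, hm⟩ := D.mT_odd
    rw [hm, pow_succ, pow_mul, Subgroup.mul_mem_cancel_left]
    exact pow_mem (by rw [pow_two]; exact D.sq_mem_L _) _
  rw [hpar, D.κ_spec t hi.symm, ← zpow_mul, D.r_zpow_eq_one]
  have h4 := D.h_four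
  constructor
  · intro h
    rcases Int.even_or_odd' i with ⟨j, rfl | rfl⟩
    · exact ⟨j, by ring⟩
    · exfalso
      refine D.a_not ((Subgroup.mul_mem_cancel_left _ (x := D.a ^ (2 * j)) ?_).1 ?_)
      · rw [zpow_mul]; exact zpow_mem (by rw [zpow_two]; exact D.sq_mem_L _) _
      · rwa [← zpow_add_one]
  · rintro ⟨c, hc⟩
    have : i = 2 * c := mul_right_cancel₀ (by omega : (D.h : ℤ) ≠ 0) (by linear_combination hc)
    subst this
    rw [zpow_mul]
    exact zpow_mem (by rw [zpow_two]; exact D.sq_mem_L _) _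

/-! ### The second torus -/

theorem T1_pow (t : D.T1) : (t : H) ^ D.mT1 = 1 ∨ (t : H) ^ D.mT1 = D.z ∨
    (t : H) ^ D.mT1 = D.u ∨ (t : H) ^ D.mT1 = D.u * D.z := by
  have h4 : ((t : H) ^ D.mT1) ^ 2 ^ 2 = 1 := by
    have h := pow_card_eq_one' (x := t)
    rw [D.card_T1, D.mT1_eq, show 2 * (2 * D.mT1) = D.mT1 * 2 ^ 2 by ring, pow_mul] at h
    exact congrArg Subtype.val h
  obtain ⟨k, -, hk⟩ := (Nat.dvd_prime_pow Nat.prime_two).1 (orderOf_dvd_of_pow_eq_one h4)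
  exact D.T1_two _ ((show Commute (t : H) D.u from D.mem_T1.1 t.2).pow_left _).eq ⟨k, hk⟩

theorem uz_ne : D.u * D.z ≠ 1 ∧ D.u * D.z ≠ D.u ∧ D.u * D.z ≠ D.z := by
  refine ⟨fun e => D.u_ne.2 ?_, fun e => D.z_ne (mul_eq_left.1 e), fun e => D.u_ne.1 (mul_eq_right.1 e)⟩
  rw [eq_inv_of_mul_eq_one_left e, inv_eq_of_mul_eq_one_right D.zz]

open scoped Classical in
/-- The sign on the second torus. -/
noncomputable def ηfun (t : D.T1) : ℂˣ :=
  if (t : H) ^ D.mT1 = 1 ∨ (t : H) ^ D.mT1 = D.u then 1 else -1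

theorem ηfun_z_or {t : D.T1} (h : (t : H) ^ D.mT1 = D.z ∨ (t : H) ^ D.mT1 = D.u * D.z) :
    D.ηfun t = -1 := by
  rw [ηfun, if_neg]
  rintro (e | e) <;> rcases h with f | f <;> rw [e] at f
  · exact D.z_ne f.symm
  · exact D.uz_ne.1 f.symm
  · exact D.u_ne.2 f
  · exact D.uz_ne.2.1 f.symm

/-- The sign on the second torus as a homomorphism. -/
noncomputable def η : D.T1 →* ℂˣ where
  toFun := D.ηfun
  map_one' := by rw [ηfun, if_pos]; left; simp
  map_mul' s t := by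
    have hpow : ((s * t : D.T1) : H) ^ D.mT1 = (s : H) ^ D.mT1 * (t : H) ^ D.mT1 :=
      (show Commute (s : H) t from D.T1_comm _ _ (D.mem_T1.1 s.2) (D.mem_T1.1 t.2)).mul_pow _
    have pos : ∀ {v : D.T1}, ((v : H) ^ D.mT1 = 1 ∨ (v : H) ^ D.mT1 = D.u) → D.ηfun v = 1 :=
      fun h => by rw [ηfun, if_pos h]
    have hzu : D.z * D.u = D.u * D.z := (D.z_comm D.u).symm
    have huu : D.u * D.u = 1 := D.uu
    have hz := D.zz
    have huuz : D.u * (D.u * D.z) = D.z := by rw [← mul_assoc, huu, one_mul]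
    have huzu : D.u * D.z * D.u = D.z := by rw [mul_assoc, hzu, huuz]
    have hzuz : D.z * (D.u * D.z) = D.u := by rw [← mul_assoc, hzu, mul_assoc, hz, mul_one]
    have huzz : D.u * D.z * D.z = D.u := by rw [mul_assoc, hz, mul_one]
    have huzuz : D.u * D.z * (D.u * D.z) = 1 := by rw [← mul_assoc, huzu, hz]
    rcases D.T1_pow s with e | e | e | e <;> rcases D.T1_pow t with f | f | f | f <;>
      rw [e, f] at hpow <;>
      (try simp only [one_mul, mul_one, hz, huu, hzu, huuz, huzu, hzuz, huzz, huzuz] at hpow)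
    · rw [pos (Or.inl hpow), pos (Or.inl e), pos (Or.inl f), one_mul]
    · rw [D.ηfun_z_or (Or.inl hpow), pos (Or.inl e), D.ηfun_z_or (Or.inl f), one_mul]
    · rw [pos (Or.inr hpow), pos (Or.inl e), pos (Or.inr f), one_mul]
    · rw [D.ηfun_z_or (Or.inr hpow), pos (Or.inl e), D.ηfun_z_or (Or.inr f), one_mul]
    · rw [D.ηfun_z_or (Or.inl hpow), D.ηfun_z_or (Or.inl e), pos (Or.inl f), mul_one]
    · rw [pos (Or.inl hpow), D.ηfun_z_or (Or.inl e), D.ηfun_z_or (Or.inl f), neg_mul_neg, one_mul]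
    · rw [D.ηfun_z_or (Or.inr hpow), D.ηfun_z_or (Or.inl e), pos (Or.inr f), mul_one]
    · rw [pos (Or.inr hpow), D.ηfun_z_or (Or.inl e), D.ηfun_z_or (Or.inr f), neg_mul_neg, one_mul]
    · rw [pos (Or.inr hpow), pos (Or.inr e), pos (Or.inl f), one_mul]
    · rw [D.ηfun_z_or (Or.inr hpow), pos (Or.inr e), D.ηfun_z_or (Or.inl f), one_mul]
    · rw [pos (Or.inl hpow), pos (Or.inr e), pos (Or.inr f), one_mul]
    · rw [D.ηfun_z_or (Or.inl hpow), pos (Or.inr e), D.ηfun_z_or (Or.inr f), one_mul]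
    · rw [D.ηfun_z_or (Or.inr hpow), D.ηfun_z_or (Or.inr e), pos (Or.inl f), mul_one]
    · rw [pos (Or.inr hpow), D.ηfun_z_or (Or.inr e), D.ηfun_z_or (Or.inl f), neg_mul_neg, one_mul]
    · rw [D.ηfun_z_or (Or.inl hpow), D.ηfun_z_or (Or.inr e), pos (Or.inr f), mul_one]
    · rw [pos (Or.inl hpow), D.ηfun_z_or (Or.inr e), D.ηfun_z_or (Or.inr f), neg_mul_neg, one_mul]

theorem η_apply (t : D.T1) : D.η t = D.ηfun t := by
  unfold η; rfl

theorem η_z : D.η ⟨D.z, D.z_T1⟩ = -1 := by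
  refine D.ηfun_z_or (Or.inl ?_)
  obtain ⟨m, hm⟩ := D.mT1_odd
  show D.z ^ D.mT1 = D.z
  rw [hm, pow_succ, pow_mul, pow_two, D.zz, one_pow, one_mul]

theorem η_u : D.η ⟨D.u, D.u_mem⟩ = 1 := by
  rw [η_apply, ηfun, if_pos]
  right
  obtain ⟨m, hm⟩ := D.mT1_odd
  show D.u ^ D.mT1 = D.u
  rw [hm, pow_succ, pow_mul, pow_two, D.uu, one_pow, one_mul]

/-! ### The centraliser of the unipotent element -/

theorem x_ne : D.x ≠ 1 ∧ D.x ≠ D.z := by
  constructor <;> intro e <;> have h := D.xo <;> rw [e] at h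
  · rw [orderOf_one] at h; exact D.hp.ne_one h.symm
  · rw [D.orderOf_z] at h; exact D.hp2 h.symm

/-- The generator of `U`. -/
def g0 : D.U := ⟨D.z * D.x, mul_mem D.z_U D.x_U⟩

theorem g0_order : orderOf D.g0 = 2 * p := by
  rw [← Subgroup.orderOf_coe]
  show orderOf (D.z * D.x) = 2 * p
  rw [(show Commute D.z D.x from (D.z_comm D.x).symm).orderOf_mul_eq_mul_orderOf_of_coprime, D.orderOf_z,
    D.xo]
  rw [D.orderOf_z, D.xo]
  exact (Nat.coprime_primes Nat.prime_two D.hp).2 D.hp2.symm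

theorem g0_gen (v : D.U) : v ∈ Subgroup.zpowers D.g0 := by
  have h : Subgroup.zpowers D.g0 = ⊤ := Subgroup.eq_top_of_card_eq _ (by
    rw [Nat.card_zpowers, D.g0_order, D.card_U])
  rw [h]; trivial

theorem exists_nu : ∃ (ν : D.U →* ℂˣ) (s : ℂˣ), IsPrimitiveRoot s (2 * p) ∧ ν D.g0 = s := by
  haveI : NeZero (2 * p) := ⟨by have := D.hp.two_le; omega⟩
  have hprim := Complex.isPrimitiveRoot_exp (2 * p) (NeZero.ne _)
  have hs := hprim.isUnit_unit (NeZero.ne _)
  exact ⟨monoidHomOfForallMemZpowers (g' := (hprim.isUnit (NeZero.ne _)).unit) D.g0_gen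
    (by rw [← hs.eq_orderOf, D.g0_order]), _, hs, monoidHomOfForallMemZpowers_apply_gen _ _⟩

/-- A faithful character of `U`. -/
noncomputable def ν : D.U →* ℂˣ := D.exists_nu.choose

/-- Its value at the generator. -/
noncomputable def σ : ℂˣ := D.exists_nu.choose_spec.choose

theorem σ_prim : IsPrimitiveRoot D.σ (2 * p) := D.exists_nu.choose_spec.choose_spec.1

theorem ν_g0 : D.ν D.g0 = D.σ := D.exists_nu.choose_spec.choose_spec.2

end Model

end Cfsg.Agent.SDPack
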